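import Cfsg.Agent.Lib.PGLThreeFourType.Setup

/-!
# Involution centraliser `(D₈ * Q₈).S₄`: basic facts

* `perm`: the permutation induced on the five pairs
* `anti`: which of the five pairs do not commute with a given element of `Q`
* `card_C`: the centraliser has order `768`
-/

set_option autoImplicit false
set_option linter.unusedSectionVars false
set_option linter.style.haveILetI false

namespace Cfsg.Agent.PGLThreeFourType

open Cfsg Subgroup OrderJTwo
open JTwoType (eq_or_of_pair exists_eq_mul)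

variable {G : Type*} [Group G] [Finite G]

/-- Double transposition fixing the last point. -/
def DT (σ : Equiv.Perm (Fin 5)) : Prop := σ 4 = 4 ∧ σ * σ = 1 ∧ ∀ i, i ≠ 4 → σ i ≠ i

/-- Transposition fixing the last point. -/
def TR (σ : Equiv.Perm (Fin 5)) : Prop := σ 4 = 4 ∧ σ * σ = 1 ∧ σ ≠ 1 ∧ ∃ i, i ≠ 4 ∧ σ i = i

instance (σ : Equiv.Perm (Fin 5)) : Decidable (DT σ) := by unfold DT; infer_instance

instance (σ : Equiv.Perm (Fin 5)) : Decidable (TR σ) := by unfold TR; infer_instance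

theorem dt_or_tr {σ : Equiv.Perm (Fin 5)} (h4 : σ 4 = 4) (h2 : σ * σ = 1) : σ = 1 ∨ DT σ ∨ TR σ := by
  by_cases h1 : σ = 1
  · exact Or.inl h1
  by_cases h : ∃ i, i ≠ 4 ∧ σ i = i
  · exact Or.inr (Or.inr ⟨h4, h2, h1, h⟩)
  · push Not at h
    exact Or.inr (Or.inl ⟨h4, h2, h⟩)

theorem DT.ne_one {σ : Equiv.Perm (Fin 5)} (h : DT σ) : σ ≠ 1 := fun e => h.2.2 0 (by decide) (by simp [e])

namespace Data

variable (D : Data G)

theorem hz2 : D.z * D.z = 1 := D.hQ.sqz

theorem z_inv : D.z⁻¹ = D.z := inv_eq_of_mul_eq_one_right D.hz2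

theorem mem_C {x : G} : x ∈ centralizer ({D.z} : Set G) ↔ x * D.z = D.z * x := mem_centralizer_singleton_iff

theorem comm_of_mem {x : G} (h : x ∈ D.Q) : x * D.z = D.z * x := D.mem_C.1 (D.le h)

open Classical in
/-- The permutation of the five pairs induced by an element. -/
noncomputable def perm (x : G) : Equiv.Perm (Fin 5) :=
  if h : x * D.z = D.z * x then D.φ ⟨x, D.mem_C.2 h⟩ else 1

theorem perm_coe (g : centralizer ({D.z} : Set G)) : D.perm g = D.φ g := by
  rw [perm, dif_pos (D.mem_C.1 g.2)]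

theorem perm_one : D.perm 1 = 1 := by
  have := D.perm_coe 1
  rwa [map_one] at this

theorem perm_mul {x y : G} (hx : x * D.z = D.z * x) (hy : y * D.z = D.z * y) :
    D.perm (x * y) = D.perm x * D.perm y := by
  have h : D.perm ((⟨x, D.mem_C.2 hx⟩ * ⟨y, D.mem_C.2 hy⟩ : centralizer ({D.z} : Set G)) : G) = _ := D.perm_coe _
  rw [map_mul, ← D.perm_coe, ← D.perm_coe] at h
  exact h

theorem perm_inv {x : G} (hx : x * D.z = D.z * x) : D.perm x⁻¹ = (D.perm x)⁻¹ := by
  have h : D.perm ((⟨x, D.mem_C.2 hx⟩⁻¹ : centralizer ({D.z} : Set G)) : G) = _ := D.perm_coe _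
  rw [map_inv, ← D.perm_coe] at h
  exact h

theorem perm_conj {x y : G} (hx : x * D.z = D.z * x) (hy : y * D.z = D.z * y) :
    D.perm (x * y * x⁻¹) = D.perm x * D.perm y * (D.perm x)⁻¹ := by
  rw [D.perm_mul (D.mem_C.1 (mul_mem (D.mem_C.2 hx) (D.mem_C.2 hy))) (D.mem_C.1 (inv_mem (D.mem_C.2 hx))),
    D.perm_mul hx hy, D.perm_inv hx]

theorem perm_eq_one {x : G} (hx : x * D.z = D.z * x) : D.perm x = 1 ↔ x ∈ D.Q := by
  rw [show D.perm x = D.φ ⟨x, D.mem_C.2 hx⟩ from D.perm_coe ⟨x, _⟩]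
  exact D.ker _

theorem perm_four (x : G) : D.perm x 4 = 4 := by
  unfold perm
  split
  · exact D.fix _
  · rfl

theorem perm_surj {σ : Equiv.Perm (Fin 5)} (h : σ 4 = 4) : ∃ x : G, x * D.z = D.z * x ∧ D.perm x = σ := by
  obtain ⟨g, hg⟩ := D.surj σ h
  exact ⟨g, D.mem_C.1 g.2, by rw [D.perm_coe, hg]⟩

theorem act' {x : G} (hx : x * D.z = D.z * x) (i : Fin 5) :
    x * D.u i * x⁻¹ = D.u (D.perm x i) ∨ x * D.u i * x⁻¹ = D.u (D.perm x i) * D.z := by
  rw [show D.perm x = D.φ ⟨x, D.mem_C.2 hx⟩ from D.perm_coe ⟨x, _⟩]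
  exact D.act ⟨x, _⟩ i

theorem perm_invol {x : G} (hx : x * D.z = D.z * x) (hx2 : x * x = 1) :
    D.perm x = 1 ∨ DT (D.perm x) ∨ TR (D.perm x) :=
  dt_or_tr (D.perm_four x) (by rw [← D.perm_mul hx hx, hx2, D.perm_one])

/-- The fixed pair. -/
abbrev w : G := D.u 4

theorem u_ne_one (i : Fin 5) : D.u i ≠ 1 := (D.u_mem i).2.2.1

theorem u_ne_z (i : Fin 5) : D.u i ≠ D.z := (D.u_mem i).2.2.2

theorem uu (i : Fin 5) : D.u i * D.u i = 1 := (D.u_mem i).2.1

theorem uQ (i : Fin 5) : D.u i ∈ D.Q := (D.u_mem i).1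

theorem u_anti {i j : Fin 5} (h : i ≠ j) : D.u i * D.u j = D.u j * D.u i * D.z := by
  refine (D.hQ.comm _ (D.uQ i) _ (D.uQ j)).resolve_left fun e => h ?_
  exact (D.u_sep j i (D.comm2 _ (D.u_mem i) _ (D.u_mem j) e)).symm

theorem q_cases {q : G} (hq : q ∈ D.Q) : q = 1 ∨ q = D.z ∨ (∃ i, q = D.u i ∨ q = D.u i * D.z) ∨
    ∃ i j, i ≠ j ∧ (q = D.u i * D.u j ∨ q = D.u i * D.u j * D.z) := by
  by_cases h1 : q = 1
  · exact Or.inl h1
  by_cases h2 : q = D.z
  · exact Or.inr (Or.inl h2)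
  rcases D.hQ.sq q hq with h | h
  · exact Or.inr (Or.inr (Or.inl (D.u_cover q ⟨hq, h, h1, h2⟩)))
  · obtain ⟨a, ha, b, hb, rfl, -⟩ := exists_eq_mul D.hQ D.card10 hq h
    obtain ⟨i, hi⟩ := D.u_cover a ha
    obtain ⟨j, hj⟩ := D.u_cover b hb
    have hc : ∀ k, D.z * D.u k = D.u k * D.z := fun k => (D.comm_of_mem (D.uQ k)).symm
    have hne : i ≠ j := by
      rintro rfl
      rcases hi with rfl | rfl <;> rcases hj with rfl | rfl
      · exact h1 (D.uu i)
      · exact h2 (by rw [← mul_assoc, D.uu, one_mul])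
      · exact h2 (by rw [mul_assoc, hc, ← mul_assoc, D.uu, one_mul])
      · exact h1 (by rw [mul_assoc, ← mul_assoc D.z, hc, mul_assoc (D.u i) D.z D.z, D.hz2, mul_one, D.uu])
    refine Or.inr (Or.inr (Or.inr ⟨i, j, hne, ?_⟩))
    rcases hi with rfl | rfl <;> rcases hj with rfl | rfl
    · exact Or.inl rfl
    · exact Or.inr (mul_assoc _ _ _).symm
    · exact Or.inr (by rw [mul_assoc, hc, ← mul_assoc])
    · exact Or.inl (by rw [mul_assoc, ← mul_assoc D.z, hc, mul_assoc (D.u j) D.z D.z, D.hz2, mul_one])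

open Classical in
/-- Whether an element of `Q` inverts a pair. -/
noncomputable def anti (q : G) (k : Fin 5) : Bool := decide (q * D.u k ≠ D.u k * q)

theorem anti_false {q : G} {k : Fin 5} : D.anti q k = false ↔ q * D.u k = D.u k * q := by
  simp [anti]

theorem anti_true {q : G} {k : Fin 5} (hq : q ∈ D.Q) : D.anti q k = true ↔ q * D.u k = D.u k * q * D.z := by
  simp only [anti, decide_eq_true_eq]
  refine ⟨fun h => (D.hQ.comm q hq _ (D.uQ k)).resolve_left h, fun h e => D.hQ.zne ?_⟩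
  rw [← e] at h
  exact mul_eq_left.1 h.symm

theorem anti_mul {a b : G} (ha : a ∈ D.Q) (hb : b ∈ D.Q) (k : Fin 5) :
    D.anti (a * b) k = xor (D.anti a k) (D.anti b k) := by
  have hz : D.z * b = b * D.z := (D.comm_of_mem hb).symm
  cases h1 : D.anti a k <;> cases h2 : D.anti b k
  · rw [Bool.xor_false, D.anti_false]
    rw [D.anti_false] at h1 h2
    rw [mul_assoc, h2, ← mul_assoc, h1, mul_assoc]
  · rw [Bool.false_xor, D.anti_true (mul_mem ha hb)]
    rw [D.anti_false] at h1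
    rw [D.anti_true hb] at h2
    rw [mul_assoc, h2, ← mul_assoc, ← mul_assoc, h1, mul_assoc (D.u k) a b]
  · rw [Bool.xor_false, D.anti_true (mul_mem ha hb)]
    rw [D.anti_true ha] at h1
    rw [D.anti_false] at h2
    rw [mul_assoc, h2, ← mul_assoc, h1, mul_assoc (D.u k * a) D.z b, hz, ← mul_assoc, mul_assoc (D.u k) a b]
  · rw [Bool.xor_self, D.anti_false]
    rw [D.anti_true ha] at h1
    rw [D.anti_true hb] at h2
    rw [mul_assoc, h2, ← mul_assoc, ← mul_assoc, h1, mul_assoc (D.u k * a) D.z b, hz, ← mul_assoc,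
      mul_assoc (D.u k * a * b) D.z D.z, D.hz2, mul_one, mul_assoc (D.u k) a b]

theorem anti_one (k : Fin 5) : D.anti 1 k = false := by simp [anti]

theorem anti_z (k : Fin 5) : D.anti D.z k = false := by
  rw [D.anti_false, D.comm_of_mem (D.uQ k)]

theorem anti_mul_z {q : G} (hq : q ∈ D.Q) (k : Fin 5) : D.anti (q * D.z) k = D.anti q k := by
  rw [D.anti_mul hq D.hQ.zmem, D.anti_z, Bool.xor_false]

theorem anti_u (i k : Fin 5) : D.anti (D.u i) k = decide (i ≠ k) := by
  by_cases h : i = k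
  · subst h; simp [anti]
  · rw [(D.anti_true (D.uQ i)).2 (D.u_anti h)]; simp [h]

theorem anti_uu (i j k : Fin 5) : D.anti (D.u i * D.u j) k = xor (decide (i ≠ k)) (decide (j ≠ k)) := by
  rw [D.anti_mul (D.uQ i) (D.uQ j), D.anti_u, D.anti_u]

theorem anti_uu' {i j : Fin 5} (hne : i ≠ j) (k : Fin 5) :
    D.anti (D.u i * D.u j) k = decide (k = i ∨ k = j) := by
  rw [D.anti_uu]
  revert i j k
  decide

theorem anti_eq_zero {q : G} (hq : q ∈ D.Q) (h : ∀ k, D.anti q k = false) : q = 1 ∨ q = D.z := by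
  have hu : ∀ k, q * D.u k = D.u k * q := fun k => D.anti_false.1 (h k)
  have hz : q * D.z = D.z * q := D.comm_of_mem hq
  refine D.hQ.cen q hq fun y hy => ?_
  have hcl : y ∈ centralizer ({q} : Set G) := by
    have hm : ∀ k, D.u k ∈ centralizer ({q} : Set G) := fun k => mem_centralizer_singleton_iff.2 (hu k).symm
    have hzm : D.z ∈ centralizer ({q} : Set G) := mem_centralizer_singleton_iff.2 hz.symm
    rcases D.q_cases hy with rfl | rfl | ⟨i, rfl | rfl⟩ | ⟨i, j, -, rfl | rfl⟩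
    · exact one_mem _
    · exact hzm
    · exact hm i
    · exact mul_mem (hm i) hzm
    · exact mul_mem (hm i) (hm j)
    · exact mul_mem (mul_mem (hm i) (hm j)) hzm
  exact (mem_centralizer_singleton_iff.1 hcl).symm

theorem anti_inj {a b : G} (ha : a ∈ D.Q) (hb : b ∈ D.Q) (h : ∀ k, D.anti a k = D.anti b k) :
    b = a ∨ b = a * D.z := by
  rcases D.anti_eq_zero (q := a⁻¹ * b) (mul_mem (inv_mem ha) hb) (fun k => by
    have e := D.anti_mul ha (mul_mem (inv_mem ha) hb) k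
    rw [mul_inv_cancel_left, ← h k] at e
    revert e
    cases D.anti a k <;> cases D.anti (a⁻¹ * b) k <;> simp) with e | e
  · exact Or.inl (inv_mul_eq_one.1 e).symm
  · exact Or.inr (inv_mul_eq_iff_eq_mul.1 e)

theorem anti_conj {x q : G} (hx : x * D.z = D.z * x) (hq : q ∈ D.Q) (k : Fin 5) :
    D.anti (x * q * x⁻¹) (D.perm x k) = D.anti q k := by
  simp only [anti, decide_eq_decide]
  refine not_congr ?_
  rcases D.act' hx k with h | h
  · rw [← h, conj_mul, conj_mul]
    exact (MulAut.conj x).injective.eq_iff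
  · have hk : D.u (D.perm x k) = x * (D.u k * D.z) * x⁻¹ := by
      rw [← conj_mul, h, hx, mul_inv_cancel_right, mul_assoc, D.hz2, mul_one]
    rw [hk, conj_mul, conj_mul]
    refine ((MulAut.conj x).injective.eq_iff (a := q * (D.u k * D.z)) (b := D.u k * D.z * q)).trans ?_
    rw [← mul_assoc, mul_assoc (D.u k) D.z q, ← D.comm_of_mem hq, ← mul_assoc]
    exact mul_left_inj D.z

theorem card_C : Nat.card (centralizer ({D.z} : Set G)) = 768 := by
  have hk : Nat.card D.φ.ker = 32 := by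
    have e : D.φ.ker = D.Q.subgroupOf (centralizer ({D.z} : Set G)) := by
      ext g
      rw [MonoidHom.mem_ker, D.ker, mem_subgroupOf]
    rw [e, Nat.card_congr (subgroupOfEquivOfLe D.le).toEquiv, D.hQ.card]
  have hr : Nat.card D.φ.range = 24 := by
    have e : D.φ.range = MulAction.stabilizer (Equiv.Perm (Fin 5)) (4 : Fin 5) := by
      ext σ
      rw [MulAction.mem_stabilizer_iff]
      exact ⟨fun ⟨g, hg⟩ => hg ▸ D.fix g, fun h => D.surj σ h⟩
    have h := MulAction.index_stabilizer_of_transitive (Equiv.Perm (Fin 5)) (4 : Fin 5)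
    have h' := (MulAction.stabilizer (Equiv.Perm (Fin 5)) (4 : Fin 5)).card_mul_index
    rw [h, Nat.card_perm, Nat.card_fin, show (5 : ℕ).factorial = 120 by rfl] at h'
    rw [e]
    omega
  have h := D.φ.ker.card_mul_index
  rw [hk, index_ker, hr] at h
  omega

end Data

end Cfsg.Agent.PGLThreeFourType
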