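import Cfsg.Agent.Lib.PGLThreeFourType.Local
import Cfsg.Agent.Lib.ZStar.Statements
import Cfsg.Agent.Lib.ZStar.Unique
import Cfsg.Agent.Lib.Cores.Basic
import Cfsg.Agent.Lib.CharApp.Burnside
import Mathlib.GroupTheory.FixedPointFree

/-!
# Involution centraliser `(D₈ * Q₈).S₄`: the odd core

* `eq_one_of_comm`, `inverts`, `comm_oddCore`: `z` inverts the odd core, which is abelian
* `isSolvable_C`, `not_isolated`
-/

set_option autoImplicit false
set_option linter.unusedSectionVars false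
set_option linter.style.haveILetI false

namespace Cfsg.Agent.PGLThreeFourType

open Cfsg Subgroup OrderJTwo

variable {G : Type*} [Group G] [Finite G]

namespace Data

variable (D : Data G)

theorem orderOf_z : orderOf D.z = 2 := orderOf_eq_prime (by rw [pow_two, D.hz2]) D.hQ.zne

theorem odd_pow_eq_one {x : G} (hx : x ∈ oddCore G) : ∃ n, Odd n ∧ x ^ n = 1 :=
  ⟨_, Nat.coprime_two_right.1 (Cores.coprime_card_pPrimeCore (G := G) 2),
    congrArg Subtype.val (pow_card_eq_one' (x := (⟨x, hx⟩ : oddCore G)))⟩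

theorem eq_one_of_comm {x : G} (hx : x ∈ oddCore G) (hxz : x * D.z = D.z * x) : x = 1 := by
  haveI := Cores.pPrimeCore_normal 2 G
  have hcap : ∀ q ∈ D.Q, q ∈ oddCore G → q = 1 := by
    intro q hq hqO
    obtain ⟨n, hn, h1⟩ := odd_pow_eq_one hqO
    have h2 : orderOf q ∣ 2 ^ 5 := by
      have := orderOf_dvd_natCard (⟨q, hq⟩ : D.Q)
      rwa [D.hQ.card, orderOf_mk] at this
    have h3 : orderOf q ∣ n := orderOf_dvd_of_pow_eq_one h1
    have : orderOf q ∣ Nat.gcd (2 ^ 5) n := Nat.dvd_gcd h2 h3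
    rw [show Nat.gcd (2 ^ 5) n = 1 from (Nat.coprime_two_left.2 hn).pow_left 5, Nat.dvd_one] at this
    exact orderOf_eq_one_iff.1 this
  have hxQ : x ∈ D.Q := D.self x fun q hq => by
    have h1 : x * q * x⁻¹ * q⁻¹ ∈ D.Q := mul_mem (D.norm x hxz q hq) (inv_mem hq)
    have h2 : x * q * x⁻¹ * q⁻¹ ∈ oddCore G := by
      rw [show x * q * x⁻¹ * q⁻¹ = x * (q * x⁻¹ * q⁻¹) by group]
      exact mul_mem hx (Normal.conj_mem inferInstance _ (inv_mem hx) q)
    exact mul_inv_eq_iff_eq_mul.1 (mul_inv_eq_one.1 (hcap _ h1 h2))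
  exact hcap x hxQ hx

theorem inverts {x : G} (hx : x ∈ oddCore G) : D.z * x * D.z⁻¹ = x⁻¹ := by
  haveI := Cores.pPrimeCore_normal 2 G
  let φ : oddCore G →* oddCore G :=
    { toFun := fun y => ⟨D.z * y * D.z⁻¹, Normal.conj_mem inferInstance _ y.2 _⟩
      map_one' := Subtype.ext (by show D.z * 1 * D.z⁻¹ = 1; group)
      map_mul' := fun a b => Subtype.ext (by
        show D.z * ((a : G) * b) * D.z⁻¹ = D.z * a * D.z⁻¹ * (D.z * b * D.z⁻¹); group) }
  have hfpf : MonoidHom.FixedPointFree φ := fun y hy =>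
    Subtype.ext (D.eq_one_of_comm y.2 (mul_inv_eq_iff_eq_mul.1 (congrArg Subtype.val hy)).symm)
  have h2 : Function.Involutive φ := fun y => Subtype.ext (by
    show D.z * (D.z * y * D.z⁻¹) * D.z⁻¹ = y
    calc D.z * (D.z * (y : G) * D.z⁻¹) * D.z⁻¹ = D.z * D.z * y * (D.z * D.z)⁻¹ := by group
      _ = y := by rw [D.hz2, one_mul, inv_one, mul_one])
  exact congrArg Subtype.val (congrFun (hfpf.coe_eq_inv_of_involutive h2) ⟨x, hx⟩)

include D in
theorem comm_oddCore : IsMulCommutative (oddCore G) := by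
  refine isMulCommutative_iff.mpr fun a b => Subtype.ext ?_
  have h : D.z * ((a : G) * b) * D.z⁻¹ = ((a : G) * b)⁻¹ := D.inverts (mul_mem a.2 b.2)
  rw [← conj_mul, D.inverts a.2, D.inverts b.2, ← mul_inv_rev, inv_inj] at h
  exact h.symm

theorem isSolvable_C : Group.IsSolvable (centralizer ({D.z} : Set G)) :=
  CharApp.isSolvable_of_card_eq_prime_pow_mul 2 3 Nat.prime_two Nat.prime_three _ _ rfl 8 1
    (by rw [D.card_C]; rfl)

/-- If `z` is isolated then the group is solvable. -/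
theorem not_isolated (hns : ¬ Group.IsSolvable G) : ∃ g : G, g * D.z * g⁻¹ * D.z = D.z * (g * D.z * g⁻¹) ∧
    g * D.z * g⁻¹ ≠ D.z := by
  by_contra hh
  haveI := Cores.pPrimeCore_normal 2 G
  have hiso : IsIsolatedInvolution D.z := ⟨D.orderOf_z, fun g hg => by
    by_contra hne
    exact hh ⟨g, hg.eq.symm, hne⟩⟩
  have hzs := ZStar.zStar_of_brauerSuzuki ZStar.uniqueInvolution hiso
  apply hns
  haveI := D.isSolvable_C
  haveI : Group.IsSolvable (oddCore G) :=
    Group.isSolvable_of_comm fun a b => D.comm_oddCore.is_comm.comm a b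
  let f : centralizer ({D.z} : Set G) →* G ⧸ oddCore G :=
    (QuotientGroup.mk' (oddCore G)).comp (centralizer ({D.z} : Set G)).subtype
  have hf : Function.Surjective f := by
    intro c
    obtain ⟨g, rfl⟩ := QuotientGroup.mk_surjective c
    obtain ⟨n, ⟨k, rfl⟩, hn⟩ := odd_pow_eq_one (hzs g)
    set o := D.z * g * D.z⁻¹ * g⁻¹ with ho
    set y := o ^ (k + 1) with hy
    have hyO : y ∈ oddCore G := pow_mem (hzs g) _
    have hy2 : y * y = o := by
      rw [hy, ← pow_add, show k + 1 + (k + 1) = 2 * k + 1 + 1 by omega, pow_succ, hn, one_mul]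
    refine ⟨⟨y * g, ?_⟩, ?_⟩
    · rw [D.mem_C]
      have h1 : D.z * (y * g) * D.z⁻¹ = y * g := by
        rw [← conj_mul, D.inverts hyO, show D.z * g * D.z⁻¹ = o * g by rw [ho]; group, ← hy2]
        group
      exact (mul_inv_eq_iff_eq_mul.1 h1).symm
    · show ((y * g : G) : G ⧸ oddCore G) = g
      rw [QuotientGroup.mk_mul, (QuotientGroup.eq_one_iff y).2 hyO, one_mul]
  haveI : Group.IsSolvable (G ⧸ oddCore G) := Group.isSolvable_of_surjective hf
  exact Group.isSolvable_of_ker_le_range (oddCore G).subtype (QuotientGroup.mk' (oddCore G))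
    (by rw [QuotientGroup.ker_mk', range_subtype])

end Data

end Cfsg.Agent.PGLThreeFourType
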