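import Cfsg.Agent.Lib.L34Sylow.Model
import Cfsg.Agent.EqLemmas

/-!
# Groups with the relations of a Sylow 2-subgroup of `PSL₃(4)`

* `H3.exists_hom`: a homomorphism from the model
* `frame_rels`: the relations from two commuting pairs
-/

set_option autoImplicit false

namespace Cfsg.Agent.PGLThreeFourType

set_option linter.unusedSimpArgs false

open Cfsg.Agent.SU32 (K4)
open Cfsg.Agent.L34Sylow (H3)

variable {G : Type*} [Group G]

/-- The homomorphism on `K4` determined by the images of `1` and `w`. -/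
def kHom (p q : G) : K4 → G
  | .z => 1
  | .o => p
  | .w => q
  | .w2 => p * q

theorem kHom_add {p q : G} (hp : p * p = 1) (hq : q * q = 1) (h : p * q = q * p) (x y : K4) :
    kHom p q (x + y) = kHom p q x * kHom p q y := by
  have hp' : ∀ r, p * (p * r) = r := fun r => by rw [← mul_assoc, hp, one_mul]
  have hq' : ∀ r, q * (q * r) = r := fun r => by rw [← mul_assoc, hq, one_mul]
  have h' : ∀ r, q * (p * r) = p * (q * r) := fun r => by rw [← mul_assoc, ← h, mul_assoc]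
  cases x <;> cases y <;> show kHom p q (K4.add _ _) = _ <;>
    simp only [K4.add, kHom, mul_assoc, one_mul, mul_one, hp, hq, hp', h', h.symm]

theorem kHom_comm {p q x : G} (hp : x * p = p * x) (hq : x * q = q * x) (a : K4) :
    x * kHom p q a = kHom p q a * x := by
  cases a <;> simp only [kHom, mul_one, one_mul]
  · exact hp
  · exact hq
  · rw [← mul_assoc, hp, mul_assoc, hq, mul_assoc]

/-- Homomorphisms out of the model. -/
theorem exists_hom {α₁ α₂ β₁ β₂ γ₁ γ₂ : G}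
    (a1 : α₁ * α₁ = 1) (a2 : α₂ * α₂ = 1) (a : α₁ * α₂ = α₂ * α₁)
    (b1 : β₁ * β₁ = 1) (b2 : β₂ * β₂ = 1) (b : β₁ * β₂ = β₂ * β₁)
    (c1 : γ₁ * γ₁ = 1) (c2 : γ₂ * γ₂ = 1) (c : γ₁ * γ₂ = γ₂ * γ₁)
    (z1 : ∀ x ∈ ({α₁, α₂, β₁, β₂} : Set G), x * γ₁ = γ₁ * x ∧ x * γ₂ = γ₂ * x)
    (r11 : α₁ * β₁ = β₁ * α₁ * γ₁) (r12 : α₁ * β₂ = β₂ * α₁ * γ₂)
    (r21 : α₂ * β₁ = β₁ * α₂ * γ₂) (r22 : α₂ * β₂ = β₂ * α₂ * (γ₁ * γ₂)) :
    ∃ f : H3 →* G, f ⟨1, 0, 0⟩ = α₁ ∧ f ⟨K4.w, 0, 0⟩ = α₂ ∧ f ⟨0, 1, 0⟩ = β₁ ∧ f ⟨0, K4.w, 0⟩ = β₂ ∧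
      f ⟨0, 0, 1⟩ = γ₁ ∧ f ⟨0, 0, K4.w⟩ = γ₂ := by
  obtain ⟨za1, za1'⟩ := z1 α₁ (by simp)
  obtain ⟨za2, za2'⟩ := z1 α₂ (by simp)
  obtain ⟨zb1, zb1'⟩ := z1 β₁ (by simp)
  obtain ⟨zb2, zb2'⟩ := z1 β₂ (by simp)
  set A := kHom α₁ α₂
  set B := kHom β₁ β₂
  set C := kHom γ₁ γ₂
  have hA : ∀ x y, A (x + y) = A x * A y := kHom_add a1 a2 a
  have hB : ∀ x y, B (x + y) = B x * B y := kHom_add b1 b2 b
  have hC : ∀ x y, C (x + y) = C x * C y := kHom_add c1 c2 c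
  have zA : ∀ x k, C k * A x = A x * C k := fun x k =>
    kHom_comm (kHom_comm za1 za1' k).symm (kHom_comm za2 za2' k).symm x
  have zB : ∀ x k, C k * B x = B x * C k := fun x k =>
    kHom_comm (kHom_comm zb1 zb1' k).symm (kHom_comm zb2 zb2' k).symm x
  have zB' : ∀ x k r, C k * (B x * r) = B x * (C k * r) := fun x k r => by rw [← mul_assoc, zB, mul_assoc]
  have zA' : ∀ x k r, C k * (A x * r) = A x * (C k * r) := fun x k r => by rw [← mul_assoc, zA, mul_assoc]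
  -- the commutator rule
  have R : ∀ x y : K4, A x * B y = B y * A x * C (x * y) := by
    have e1 : ∀ x : K4, A x * β₁ = β₁ * A x * C x := by
      intro x
      cases x
      · simp [A, C, kHom]
      · exact r11
      · exact r21
      · show α₁ * α₂ * β₁ = β₁ * (α₁ * α₂) * (γ₁ * γ₂)
        calc α₁ * α₂ * β₁ = (α₁ * β₁) * α₂ * γ₂ := by rw [mul_assoc, r21]; group
          _ = β₁ * α₁ * (γ₁ * α₂) * γ₂ := by rw [r11]; group
          _ = _ := by rw [← za2]; group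
    have e2 : ∀ x : K4, A x * β₂ = β₂ * A x * C (x * K4.w) := by
      intro x
      cases x
      · show (1 : G) * β₂ = β₂ * 1 * 1
        simp
      · exact r12
      · exact r22
      · show α₁ * α₂ * β₂ = β₂ * (α₁ * α₂) * γ₁
        calc α₁ * α₂ * β₂ = (α₁ * β₂) * α₂ * (γ₁ * γ₂) := by rw [mul_assoc, r22]; group
          _ = β₂ * α₁ * (γ₂ * α₂) * (γ₁ * γ₂) := by rw [r12]; group
          _ = β₂ * (α₁ * α₂) * (γ₂ * (γ₁ * γ₂)) := by rw [← za2']; group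
          _ = _ := by rw [c, ← mul_assoc γ₂, c2, one_mul]
    intro x y
    cases y
    · show A x * 1 = 1 * A x * C (x * 0)
      rw [mul_zero, mul_one, one_mul]
      exact (mul_one _).symm
    · show A x * β₁ = β₁ * A x * C (x * 1)
      rw [mul_one]; exact e1 x
    · exact e2 x
    · show A x * (β₁ * β₂) = β₁ * β₂ * A x * C (x * K4.w2)
      rw [show x * K4.w2 = x * K4.w + x by cases x <;> decide, hC]
      calc A x * (β₁ * β₂) = A x * β₁ * β₂ := by group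
        _ = β₁ * A x * (C x * β₂) := by rw [e1]; group
        _ = β₁ * (A x * β₂) * C x := by rw [show C x * β₂ = β₂ * C x from zB K4.w x]; group
        _ = _ := by rw [e2]; group
  have R' : ∀ x y r, A x * (B y * r) = B y * (A x * (C (x * y) * r)) := fun x y r => by
    rw [← mul_assoc, R]; group
  refine ⟨{ toFun := fun h => B h.b * (A h.a * C h.c),
            map_one' := by show (1 : G) * (1 * 1) = 1; simp,
            map_mul' := fun h k => ?_ }, ?_, ?_, ?_, ?_, ?_, ?_⟩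
  · show B (h.b + k.b) * (A (h.a + k.a) * C (h.c + k.c + h.a * k.b)) =
      B h.b * (A h.a * C h.c) * (B k.b * (A k.a * C k.c))
    rw [hB, hA, show h.c + k.c + h.a * k.b = h.a * k.b + h.c + k.c by ring, hC, hC]
    simp only [mul_assoc]
    rw [zB', R', zA', zA']
  · show (1 : G) * (α₁ * 1) = α₁; simp
  · show (1 : G) * (α₂ * 1) = α₂; simp
  · show β₁ * ((1 : G) * 1) = β₁; simp
  · show β₂ * ((1 : G) * 1) = β₂; simp
  · show (1 : G) * (1 * γ₁) = γ₁; simp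
  · show (1 : G) * (1 * γ₂) = γ₂; simp

/-- The relations of the model from two commuting pairs of elements of order four. -/
theorem frame_rels {z w b₁ b₂ c₁ c₂ : G} (hz : z * z = 1) (hw : w * w = 1) (hzw : w * z = z * w)
    (hcen : ∀ x ∈ ({b₁, b₂, c₁, c₂} : Set G), x * z = z * x ∧ x * w = w * x)
    (sb1 : b₁ * b₁ = z) (sb2 : b₂ * b₂ = z) (sc1 : c₁ * c₁ = w) (sc2 : c₂ * c₂ = w)
    (hb : b₂ * b₁ = b₁ * b₂ * z) (hc : c₂ * c₁ = c₁ * c₂ * w)
    (h11 : c₁ * b₁ = b₁ * c₁) (h22 : c₂ * b₂ = b₂ * c₂)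
    (h12 : c₁ * b₂ = b₂ * c₁ * (z * w)) (h21 : c₂ * b₁ = b₁ * c₂ * (z * w)) :
    ∃ f : H3 →* G, f ⟨1, 0, 0⟩ = b₁ * c₂ ∧ f ⟨K4.w, 0, 0⟩ = b₂ * (c₁ * c₂) ∧
      f ⟨0, 1, 0⟩ = b₁ * (c₁ * c₂) ∧ f ⟨0, K4.w, 0⟩ = b₁ * b₂ * c₂ ∧ f ⟨0, 0, 1⟩ = w ∧ f ⟨0, 0, K4.w⟩ = z := by
  obtain ⟨zb1, wb1⟩ := hcen b₁ (by simp)
  obtain ⟨zb2, wb2⟩ := hcen b₂ (by simp)
  obtain ⟨zc1, wc1⟩ := hcen c₁ (by simp)
  obtain ⟨zc2, wc2⟩ := hcen c₂ (by simp)
  have m1 : ∀ r, b₁ * (z * r) = z * (b₁ * r) := fun r => by rw [← mul_assoc, zb1, mul_assoc]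
  have m2 : ∀ r, b₂ * (z * r) = z * (b₂ * r) := fun r => by rw [← mul_assoc, zb2, mul_assoc]
  have m3 : ∀ r, c₁ * (z * r) = z * (c₁ * r) := fun r => by rw [← mul_assoc, zc1, mul_assoc]
  have m4 : ∀ r, c₂ * (z * r) = z * (c₂ * r) := fun r => by rw [← mul_assoc, zc2, mul_assoc]
  have n1 : ∀ r, b₁ * (w * r) = w * (b₁ * r) := fun r => by rw [← mul_assoc, wb1, mul_assoc]
  have n2 : ∀ r, b₂ * (w * r) = w * (b₂ * r) := fun r => by rw [← mul_assoc, wb2, mul_assoc]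
  have n3 : ∀ r, c₁ * (w * r) = w * (c₁ * r) := fun r => by rw [← mul_assoc, wc1, mul_assoc]
  have n4 : ∀ r, c₂ * (w * r) = w * (c₂ * r) := fun r => by rw [← mul_assoc, wc2, mul_assoc]
  have n0 : ∀ r, w * (z * r) = z * (w * r) := fun r => by rw [← mul_assoc, hzw, mul_assoc]
  have s1 : ∀ r, b₁ * (b₁ * r) = z * r := fun r => by rw [← mul_assoc, sb1]
  have s2 : ∀ r, b₂ * (b₂ * r) = z * r := fun r => by rw [← mul_assoc, sb2]
  have s3 : ∀ r, c₁ * (c₁ * r) = w * r := fun r => by rw [← mul_assoc, sc1]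
  have s4 : ∀ r, c₂ * (c₂ * r) = w * r := fun r => by rw [← mul_assoc, sc2]
  have s5 : ∀ r, z * (z * r) = r := fun r => by rw [← mul_assoc, hz, one_mul]
  have s6 : ∀ r, w * (w * r) = r := fun r => by rw [← mul_assoc, hw, one_mul]
  have p1 : ∀ r, b₂ * (b₁ * r) = z * (b₁ * (b₂ * r)) := fun r => by
    rw [← mul_assoc, hb, mul_assoc, mul_assoc, m2, m1]
  have p2 : ∀ r, c₂ * (c₁ * r) = w * (c₁ * (c₂ * r)) := fun r => by
    rw [← mul_assoc, hc, mul_assoc, mul_assoc, n4, n3]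
  have q11 : ∀ r, c₁ * (b₁ * r) = b₁ * (c₁ * r) := fun r => by rw [← mul_assoc, h11, mul_assoc]
  have q22 : ∀ r, c₂ * (b₂ * r) = b₂ * (c₂ * r) := fun r => by rw [← mul_assoc, h22, mul_assoc]
  have q12 : ∀ r, c₁ * (b₂ * r) = z * (w * (b₂ * (c₁ * r))) := fun r => by
    rw [← mul_assoc, h12, mul_assoc, mul_assoc, mul_assoc z w r, m3, n3, m2, n2]
  have q21 : ∀ r, c₂ * (b₁ * r) = z * (w * (b₁ * (c₂ * r))) := fun r => by
    rw [← mul_assoc, h21, mul_assoc, mul_assoc, mul_assoc z w r, m4, n4, m1, n1]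
  have go : ∀ x y : G, x * 1 = y * 1 → x = y := fun x y h => by simpa using h
  refine exists_hom (α₁ := b₁ * c₂) (α₂ := b₂ * (c₁ * c₂)) (β₁ := b₁ * (c₁ * c₂)) (β₂ := b₁ * b₂ * c₂)
    (γ₁ := w) (γ₂ := z) ?_ ?_ ?_ ?_ ?_ ?_ hw hz hzw ?_ ?_ ?_ ?_ ?_
  case refine_7 =>
    intro x hx
    simp only [Set.mem_insert_iff, Set.mem_singleton_iff] at hx
    rcases hx with rfl | rfl | rfl | rfl <;> refine ⟨go _ _ ?_, go _ _ ?_⟩ <;>
      simp only [mul_assoc, m1, m2, m3, m4, n1, n2, n3, n4, n0]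
  all_goals
    apply go
    simp only [mul_assoc, one_mul, m1, m2, m3, m4, n1, n2, n3, n4, n0, s1, s2, s3, s4, s5, s6, p1, p2, q11, q22,
      q12, q21]

end Cfsg.Agent.PGLThreeFourType
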