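import Cfsg.Agent.Lib.PGLThreeFourType.Core

/-!
# Involution centraliser `(D₈ * Q₈).S₄`: fusion of the central involution

* `conj_w`, `conj_Q`: the conjugates of `z` in `Q` are the three involutions of `⟨z, w⟩`
* `conj_C`: the others in `C(z)` are double transpositions
-/

set_option autoImplicit false
set_option linter.unusedSectionVars false
set_option linter.style.haveILetI false

namespace Cfsg.Agent.PGLThreeFourType

open Cfsg Subgroup OrderJTwo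

variable {G : Type*} [Group G] [Finite G]

theorem dt_perm_conj : ∀ σ : Equiv.Perm (Fin 5), DT σ → ∀ τ : Equiv.Perm (Fin 5), DT τ →
    ∃ ρ : Equiv.Perm (Fin 5), ρ 4 = 4 ∧ ρ * σ * ρ⁻¹ = τ := by decide +kernel

theorem sq_dt : ∀ σ : Equiv.Perm (Fin 5), σ 4 = 4 → σ * σ * (σ * σ) = 1 → σ * σ ≠ 1 → DT (σ * σ) := by
  decide +kernel

set_option synthInstance.maxSize 4096 in
theorem dihedral_dt : ∀ p : Equiv.Perm (Fin 5), DT p → ∀ a : Equiv.Perm (Fin 5), a 4 = 4 → a * p = p * a →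
    ∀ b : Equiv.Perm (Fin 5), b 4 = 4 → b * p = p * b → a * b = b * a * p →
      (DT a ∧ a ≠ p) ∨ (DT b ∧ b ≠ p) ∨ (DT (a * b) ∧ a * b ≠ p) := by decide +kernel

theorem three_cycle_fix : ∀ i : Fin 5, ∃ σ : Equiv.Perm (Fin 5), σ 4 = 4 ∧ σ i = i ∧ σ ^ 3 = 1 ∧ σ ≠ 1 := by
  decide +kernel

theorem cube_comm_dt : ∀ σ : Equiv.Perm (Fin 5), σ 4 = 4 → σ ^ 3 = 1 → σ ≠ 1 → ∀ τ : Equiv.Perm (Fin 5),
    DT τ → σ * τ ≠ τ * σ := by decide +kernel

set_option synthInstance.maxSize 4096 in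
theorem comm_four_trivial : ∀ i : Fin 5, i ≠ 4 → ∀ κ : Equiv.Perm (Fin 5), κ 4 = 4 → κ i = i → κ ^ 3 = 1 →
    κ ≠ 1 → ∀ σ : Equiv.Perm (Fin 5), σ 4 = 4 → σ i = i → σ ^ 4 = 1 →
      (κ * σ * κ⁻¹ * σ⁻¹) ^ 4 = 1 → σ = 1 := by decide +kernel

namespace Data

variable (D : Data G)

theorem conj_eq (g : G) {a b : G} : g * a * g⁻¹ = b ↔ a = g⁻¹ * b * g :=
  ⟨fun h => by rw [← h]; group, fun h => by rw [h]; group⟩

theorem back {g a : G} : g * (g⁻¹ * a * g) * g⁻¹ = a := by group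

theorem pull_comm {g a b : G} (h : a * b = b * a) : (g⁻¹ * a * g) * (g⁻¹ * b * g) = (g⁻¹ * b * g) * (g⁻¹ * a * g) := by
  calc (g⁻¹ * a * g) * (g⁻¹ * b * g) = g⁻¹ * (a * b) * g := by group
    _ = g⁻¹ * (b * a) * g := by rw [h]
    _ = _ := by group

theorem pull_z {g a : G} (h : a * (g * D.z * g⁻¹) = (g * D.z * g⁻¹) * a) :
    (g⁻¹ * a * g) * D.z = D.z * (g⁻¹ * a * g) := by
  have := pull_comm (g := g) h
  rwa [show g⁻¹ * (g * D.z * g⁻¹) * g = D.z by group] at this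

theorem conj_invol (g : G) {a : G} (h : a * a = 1) : g * a * g⁻¹ * (g * a * g⁻¹) = 1 := by
  rw [conj_mul, h, mul_one, mul_inv_cancel]

theorem pull_invol (g : G) {a : G} (h : a * a = 1) : g⁻¹ * a * g * (g⁻¹ * a * g) = 1 := by
  have := conj_invol g⁻¹ h
  rwa [inv_inv] at this

theorem mem_invSet_of {x : G} (hx : x ∈ D.Q) (h2 : x * x = 1) (h1 : x ≠ 1) (hz : x ≠ D.z) :
    x ∈ invSet D.Q D.z := ⟨hx, h2, h1, hz⟩

theorem conj_ne_one {g a : G} (h : a ≠ 1) : g * a * g⁻¹ ≠ 1 := fun e => h (conj_eq_one_iff.1 e)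

/-- An element of `Q` with square `z` that commutes with a given pair. -/
theorem exists_sq_comm (i : Fin 5) : ∃ q ∈ D.Q, q * D.u i = D.u i * q ∧ q * q = D.z := by
  obtain ⟨a, b, hab, hai, hbi⟩ : ∃ a b : Fin 5, a ≠ b ∧ a ≠ i ∧ b ≠ i := by revert i; decide
  have hq : D.u a * D.u b ∈ D.Q := mul_mem (D.uQ a) (D.uQ b)
  refine ⟨_, hq, D.anti_false.1 (by rw [D.anti_uu' hab]; simp [Ne.symm hai, Ne.symm hbi]),
    (D.hQ.sq _ hq).resolve_left fun e => D.inverts_not_fixed hab (invol_inv e)⟩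

theorem exists_three (i : Fin 5) : ∃ k : G, k * D.z = D.z * k ∧ k * D.u i = D.u i * k ∧ k ^ 3 = 1 ∧
    (D.perm k) i = i ∧ D.perm k ^ 3 = 1 ∧ D.perm k ≠ 1 := by
  obtain ⟨σ, h4, hi, h3, h1⟩ := three_cycle_fix i
  obtain ⟨x, hx, hxσ⟩ := D.perm_surj h4
  let xc : centralizer ({D.z} : Set G) := ⟨x, D.mem_C.2 hx⟩
  have hk : (x ^ 256) * D.z = D.z * x ^ 256 := (Commute.pow_left (show Commute x D.z from hx) 256).eq
  have hpk : D.perm (x ^ 256) = σ := by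
    have h : D.perm ((xc ^ 256 : centralizer ({D.z} : Set G)) : G) = _ := D.perm_coe _
    rw [map_pow, ← D.perm_coe, show D.perm (xc : G) = σ from hxσ, show (256 : ℕ) = 3 * 85 + 1 from rfl, pow_succ σ,
      pow_mul, h3, one_pow, one_mul] at h
    exact h
  have hk3 : (x ^ 256) ^ 3 = 1 := by
    rw [← pow_mul]
    have := pow_card_eq_one' (x := xc)
    rw [D.card_C] at this
    exact congrArg Subtype.val this
  refine ⟨x ^ 256, hk, ?_, hk3, by rw [hpk]; exact hi, by rw [hpk]; exact h3, by rw [hpk]; exact h1⟩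
  set k := x ^ 256
  rcases D.act' hk i with h | h <;> rw [hpk, hi] at h
  · exact mul_inv_eq_iff_eq_mul.1 h
  · exfalso
    have hzk : k * D.z * k⁻¹ = D.z := D.conj_z hk
    have e : k * (k * (k * D.u i * k⁻¹) * k⁻¹) * k⁻¹ = D.u i := by
      calc k * (k * (k * D.u i * k⁻¹) * k⁻¹) * k⁻¹ = k ^ 3 * D.u i * (k ^ 3)⁻¹ := by
            simp only [pow_succ, pow_zero, one_mul]; group
        _ = D.u i := by rw [hk3]; group
    have h2 : k * (D.u i * D.z) * k⁻¹ = D.u i := by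
      rw [← conj_mul, h, hzk, mul_assoc, D.hz2, mul_one]
    rw [h, h2, h] at e
    exact D.hQ.zne (mul_eq_left.1 e)

/-- The pullback of `z` along a conjugate commuting with a suitable element. -/
theorem pull_dt {g q : G} (hq : q * (g * D.z * g⁻¹) = (g * D.z * g⁻¹) * q) (hq2 : q * q = D.z)
    (hy : g⁻¹ * D.z * g ∉ D.Q) :
    (g⁻¹ * D.z * g) * D.z = D.z * (g⁻¹ * D.z * g) ∧ DT (D.perm (g⁻¹ * D.z * g)) := by
  have hq' := D.pull_z hq
  have e : g⁻¹ * D.z * g = (g⁻¹ * q * g) * (g⁻¹ * q * g) := by rw [← hq2]; group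
  have hyc : (g⁻¹ * D.z * g) * D.z = D.z * (g⁻¹ * D.z * g) := by
    rw [e, mul_assoc, hq', ← mul_assoc, hq', mul_assoc]
  refine ⟨hyc, ?_⟩
  have hp : D.perm (g⁻¹ * D.z * g) = D.perm (g⁻¹ * q * g) * D.perm (g⁻¹ * q * g) := by
    rw [e, D.perm_mul hq' hq']
  rw [hp]
  refine sq_dt _ (D.perm_four _) ?_ fun h => hy ((D.perm_eq_one hyc).1 (hp.trans h))
  rw [← hp, ← D.perm_mul hyc hyc, pull_invol g D.hz2, D.perm_one]

/-- All involutions over double transpositions are conjugate. -/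
theorem dt_all {x y : G} (hx : x * D.z = D.z * x) (hx2 : x * x = 1) (hxσ : DT (D.perm x))
    (hy : y * D.z = D.z * y) (hy2 : y * y = 1) (hyσ : DT (D.perm y)) : IsConj x y := by
  obtain ⟨ρ, h4, hρ⟩ := dt_perm_conj _ hxσ _ hyσ
  obtain ⟨c, hc, rfl⟩ := D.perm_surj h4
  have hx' : (c * x * c⁻¹) * D.z = D.z * (c * x * c⁻¹) :=
    D.mem_C.1 (mul_mem (mul_mem (D.mem_C.2 hc) (D.mem_C.2 hx)) (inv_mem (D.mem_C.2 hc)))
  have hp : D.perm (c * x * c⁻¹) = D.perm y := by rw [D.perm_conj hc hx, hρ]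
  have hx'' : (c * x * c⁻¹) * (c * x * c⁻¹) = 1 := conj_invol c hx2
  have hq : (c * x * c⁻¹)⁻¹ * y ∈ D.Q := by
    have hxi := D.mem_C.1 (inv_mem (D.mem_C.2 hx'))
    rw [← D.perm_eq_one (D.mem_C.1 (mul_mem (D.mem_C.2 hxi) (D.mem_C.2 hy))), D.perm_mul hxi hy, D.perm_inv hx',
      hp, inv_mul_cancel]
  obtain ⟨r, -, hr⟩ := D.dt_conj hx' hx'' (by rw [hp]; exact hyσ) hq (by rw [mul_inv_cancel_left, hy2])
  rw [mul_inv_cancel_left] at hr
  exact isConj_iff.2 ⟨r * c, by rw [← hr]; group⟩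

/-- In the preimage of `C_Q(x)` only `1` lies in `Q` modulo the centre. -/
theorem pull_inter {g x r : G} (hgz : g⁻¹ * D.z * g ∉ D.Q) (hx : x = g * D.z * g⁻¹)
    (hxc : x * D.z = D.z * x) (hσ : TR (D.perm x)) (hr : r ∈ D.Q) (hxr : x * r = r * x)
    (hr' : g⁻¹ * r * g ∈ D.Q) : r = 1 := by
  subst hx
  set x := g * D.z * g⁻¹ with hxdef
  have hx2 : x * x = 1 := conj_invol g D.hz2
  have hcen : ∀ q ∈ D.Q, x * q = q * x → r * q = q * r := by
    intro q hq hxq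
    refine (D.hQ.comm r hr q hq).resolve_right fun e => hgz ?_
    have hq' : (g⁻¹ * q * g) * D.z = D.z * (g⁻¹ * q * g) := D.pull_z hxq.symm
    have hmem : (g⁻¹ * q * g) * (g⁻¹ * r * g) * (g⁻¹ * q * g)⁻¹ * (g⁻¹ * r * g)⁻¹ ∈ D.Q :=
      mul_mem (D.norm _ hq' _ hr') (inv_mem hr')
    have e' : (g⁻¹ * q * g) * (g⁻¹ * r * g) * (g⁻¹ * q * g)⁻¹ * (g⁻¹ * r * g)⁻¹ =
        g⁻¹ * (q * r * (r * q)⁻¹) * g := by group
    have e2 : q * r * (q * r * D.z)⁻¹ = D.z := by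
      rw [mul_inv_rev (q * r) D.z, D.z_inv, ← mul_assoc, D.comm_of_mem (mul_mem hq hr), mul_inv_cancel_right]
    rwa [e', e, e2] at hmem
  obtain ⟨-, -, h3, -⟩ := D.tr_cent hxc hx2 hσ
  rcases h3 r hr hxr hcen with h | h
  · exact h
  · exact absurd (h ▸ hr') hgz

section

variable (hns : ¬ Group.IsSolvable G)

/-- A transposition conjugate to `z` gives a conjugate in `Q`. -/
theorem tr_aux {g : G} (hxc : (g * D.z * g⁻¹) * D.z = D.z * (g * D.z * g⁻¹)) (hσ : TR (D.perm (g * D.z * g⁻¹)))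
    (hy : g⁻¹ * D.z * g ∉ D.Q) : ∃ m ∈ invSet D.Q D.z, IsConj D.z m := by
  set x := g * D.z * g⁻¹ with hxdef
  have hx2 : x * x = 1 := conj_invol g D.hz2
  obtain ⟨⟨q, hqQ, hxq, hq2⟩, ⟨e, f, heQ, hfQ, hxe, hxf, hef⟩, -, -⟩ := D.tr_cent hxc hx2 hσ
  obtain ⟨hyc, hyσ⟩ := D.pull_dt hxq.symm hq2 hy
  set p := g⁻¹ * D.z * g with hpdef
  have hcy : ∀ r ∈ D.Q, (g⁻¹ * r * g) * p = p * (g⁻¹ * r * g) := fun r hr => pull_comm (D.comm_of_mem hr)
  have he := D.pull_z hxe.symm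
  have hf := D.pull_z hxf.symm
  have hef' : g⁻¹ * e * g * (g⁻¹ * f * g) = g⁻¹ * f * g * (g⁻¹ * e * g) * p := by
    rw [show g⁻¹ * e * g * (g⁻¹ * f * g) = g⁻¹ * (e * f) * g by group, hef, hpdef]; group
  have hC : ∀ {a : G}, a * D.z = D.z * a → a ∈ centralizer ({D.z} : Set G) := fun h => D.mem_C.2 h
  have key : ∀ m ∈ D.Q, x * m = m * x → DT (D.perm (g⁻¹ * m * g)) → D.perm (g⁻¹ * m * g) ≠ D.perm p →
      ∃ m ∈ invSet D.Q D.z, IsConj D.z m := by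
    intro m hm hxm hmσ hne
    have hm' := D.pull_z hxm.symm
    have hmm : m * m = 1 := by
      refine D.pull_inter hy rfl hxc hσ (mul_mem hm hm) (by rw [← mul_assoc, hxm, mul_assoc, hxm, ← mul_assoc]) ?_
      rw [show g⁻¹ * (m * m) * g = (g⁻¹ * m * g) * (g⁻¹ * m * g) by group,
        ← D.perm_eq_one (D.mem_C.1 (mul_mem (hC hm') (hC hm'))), D.perm_mul hm' hm', hmσ.2.1]
    have hm1 : m ≠ 1 := fun h => hmσ.ne_one (by rw [h, mul_one, inv_mul_cancel, D.perm_one])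
    have hmz : m ≠ D.z := fun h => hne (by rw [h])
    refine ⟨m, ⟨hm, hmm, hm1, hmz⟩, ?_⟩
    have h1 : IsConj D.z p := isConj_iff.2 ⟨g⁻¹, by rw [inv_inv]⟩
    have h2 : IsConj p (g⁻¹ * m * g) := D.dt_all hyc (pull_invol g D.hz2) hyσ hm' (pull_invol g hmm) hmσ
    exact (h1.trans h2).trans (isConj_iff.2 ⟨g, back⟩)
  have hp : D.perm (g⁻¹ * e * g) * D.perm (g⁻¹ * f * g) =
      D.perm (g⁻¹ * f * g) * D.perm (g⁻¹ * e * g) * D.perm p := by
    rw [← D.perm_mul he hf, hef', D.perm_mul (D.mem_C.1 (mul_mem (hC hf) (hC he))) hyc, D.perm_mul hf he]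
  rcases dihedral_dt _ hyσ _ (D.perm_four (g⁻¹ * e * g))
      (by rw [← D.perm_mul he hyc, hcy e heQ, D.perm_mul hyc he]) _ (D.perm_four (g⁻¹ * f * g))
      (by rw [← D.perm_mul hf hyc, hcy f hfQ, D.perm_mul hyc hf]) hp with ⟨h1, h2⟩ | ⟨h1, h2⟩ | ⟨h1, h2⟩
  · exact key e heQ hxe h1 h2
  · exact key f hfQ hxf h1 h2
  · rw [← D.perm_mul he hf, show g⁻¹ * e * g * (g⁻¹ * f * g) = g⁻¹ * (e * f) * g by group] at h1 h2
    exact key (e * f) (mul_mem heQ hfQ) (by rw [← mul_assoc, hxe, mul_assoc, hxf, ← mul_assoc]) h1 h2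

include hns in
/-- Some conjugate of `z` other than `z` lies in `Q`. -/
theorem exists_conj_invSet : ∃ m ∈ invSet D.Q D.z, IsConj D.z m := by
  by_contra hno
  have hwc : ∀ m : G, IsConj D.z m → m ∈ D.Q → m = D.z := by
    intro m hm hQ
    obtain ⟨g, rfl⟩ := isConj_iff.1 hm
    by_contra hne
    exact hno ⟨_, ⟨hQ, conj_invol g D.hz2, conj_ne_one D.hQ.zne, hne⟩, hm⟩
  have hA : ∀ m : G, IsConj D.z m → m * D.z = D.z * m → ¬ TR (D.perm m) := by
    intro m hm hmc hσ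
    obtain ⟨g, rfl⟩ := isConj_iff.1 hm
    by_cases hy : g⁻¹ * D.z * g ∈ D.Q
    · have := hwc _ (isConj_iff.2 ⟨g⁻¹, by rw [inv_inv]⟩) hy
      have e : g * D.z * g⁻¹ = D.z := by
        calc g * D.z * g⁻¹ = g * (g⁻¹ * D.z * g) * g⁻¹ := by rw [this]
          _ = D.z := back
      rw [e, (D.perm_eq_one rfl).2 D.hQ.zmem] at hσ
      exact hσ.2.2.1 rfl
    · exact hno (D.tr_aux hmc hσ hy)
  obtain ⟨g, hvc, hne⟩ := D.not_isolated hns
  set v := g * D.z * g⁻¹ with hvdef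
  have hv : IsConj D.z v := isConj_iff.2 ⟨g, rfl⟩
  have hv2 : v * v = 1 := conj_invol g D.hz2
  have hvσ : DT (D.perm v) := by
    rcases D.perm_invol hvc hv2 with h | h | h
    · exact absurd (hwc v hv ((D.perm_eq_one hvc).1 h)) hne
    · exact h
    · exact absurd h (hA v hv hvc)
  have hvw : v * D.w = D.w * v := ((D.dt_cent hvc hv2 hvσ).2 (by simp)).2
  set u' := g⁻¹ * D.w * g with hu'
  have hu'c : u' * D.z = D.z * u' := D.pull_z hvw.symm
  have hu'2 : u' * u' = 1 := pull_invol g (D.uu 4)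
  -- `z * u'` is conjugate to `z`
  have hvu : IsConj D.z (D.z * u') := by
    have h : v * D.w * (v * D.w) = 1 := by
      rw [mul_assoc, ← mul_assoc D.w, ← hvw, mul_assoc v D.w D.w, D.uu, mul_one, hv2]
    obtain ⟨r, -, hr⟩ := D.dt_conj hvc hv2 hvσ (D.uQ 4) h
    exact (hv.trans (isConj_iff.2 ⟨r, hr⟩)).trans (isConj_iff.2 ⟨g⁻¹, by rw [hu', hvdef]; group⟩)
  have hzu' : (D.z * u') * D.z = D.z * (D.z * u') := by rw [mul_assoc, hu'c]
  rcases D.perm_invol hu'c hu'2 with h | h | h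
  · have e := hwc _ hvu (mul_mem D.hQ.zmem ((D.perm_eq_one hu'c).1 h))
    exact D.u_ne_one 4 ((conj_eq g⁻¹ (a := D.w) (b := 1)).1 (by rw [inv_inv]; exact mul_eq_left.1 e) |>.trans
      (by group))
  · have h2 : IsConj D.z u' := hv.trans (D.dt_all hvc hv2 hvσ hu'c hu'2 h)
    exact D.u_ne_z 4 (hwc D.w (h2.trans (isConj_iff.2 ⟨g, back⟩)) (D.uQ 4))
  · refine hA _ hvu hzu' ?_
    rwa [D.perm_mul rfl hu'c, (D.perm_eq_one rfl).2 D.hQ.zmem, one_mul]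

/-- The pullback of `z` along a conjugate in `Q` lies in `Q`. -/
theorem pull_mem {g : G} {i : Fin 5} (h : g * D.z * g⁻¹ = D.u i ∨ g * D.z * g⁻¹ = D.u i * D.z) :
    g⁻¹ * D.z * g ∈ D.Q := by
  have hcomm : ∀ a : G, a * D.z = D.z * a → a * D.u i = D.u i * a →
      a * (g * D.z * g⁻¹) = (g * D.z * g⁻¹) * a := by
    intro a haz hau
    rcases h with e | e <;> rw [e]
    · exact hau
    · rw [← mul_assoc, hau, mul_assoc, haz, ← mul_assoc]
  obtain ⟨q, hqQ, hqi, hq2⟩ := D.exists_sq_comm i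
  by_contra hy
  obtain ⟨hyc, hyσ⟩ := D.pull_dt (hcomm q (D.comm_of_mem hqQ) hqi) hq2 hy
  obtain ⟨k, hkc, hki, hk3, -, -, hkne⟩ := D.exists_three i
  have hk' := D.pull_z (hcomm k hkc hki)
  have hcom : D.perm (g⁻¹ * k * g) * D.perm (g⁻¹ * D.z * g) =
      D.perm (g⁻¹ * D.z * g) * D.perm (g⁻¹ * k * g) := by
    rw [← D.perm_mul hk' hyc, pull_comm hkc, D.perm_mul hyc hk']
  have hk'3 : (g⁻¹ * k * g) ^ 3 = 1 := by
    rw [show g⁻¹ * k * g = g⁻¹ * k * g⁻¹⁻¹ by group, conj_pow, hk3]; group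
  have hp1 : D.perm (g⁻¹ * k * g) = 1 := by
    by_contra hne
    refine cube_comm_dt _ (D.perm_four _) ?_ hne _ hyσ hcom
    let kc : centralizer ({D.z} : Set G) := ⟨_, D.mem_C.2 hk'⟩
    rw [show D.perm (g⁻¹ * k * g) = D.φ kc from D.perm_coe kc, ← map_pow,
      show kc ^ 3 = 1 from Subtype.ext hk'3, map_one]
  have hk'Q := (D.perm_eq_one hk').1 hp1
  have h1 : orderOf (g⁻¹ * k * g) ∣ 3 := orderOf_dvd_of_pow_eq_one hk'3
  have h2 : orderOf (g⁻¹ * k * g) ∣ 32 := by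
    have := orderOf_dvd_natCard (⟨_, hk'Q⟩ : D.Q)
    rwa [D.hQ.card, orderOf_mk] at this
  have h3 : orderOf (g⁻¹ * k * g) ∣ Nat.gcd 3 32 := Nat.dvd_gcd h1 h2
  rw [show Nat.gcd 3 32 = 1 from rfl, Nat.dvd_one, orderOf_eq_one_iff] at h3
  apply hkne
  rw [show k = g * (g⁻¹ * k * g) * g⁻¹ from back.symm, h3, mul_one, mul_inv_cancel, D.perm_one]

/-- The other pairs are not conjugate to `z`. -/
theorem u_not {i : Fin 5} {g : G} (h : g * D.z * g⁻¹ = D.u i ∨ g * D.z * g⁻¹ = D.u i * D.z) : i = 4 := by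
  by_contra hi
  set w' := g * D.z * g⁻¹ with hw'
  have hcomm : ∀ a : G, a * D.z = D.z * a → a * D.u i = D.u i * a → a * w' = w' * a := by
    intro a haz hau
    rcases h with e | e <;> rw [e]
    · exact hau
    · rw [← mul_assoc, hau, mul_assoc, haz, ← mul_assoc]
  have hy : g⁻¹ * D.z * g ∈ D.Q := D.pull_mem h
  have hy1 : g⁻¹ * D.z * g ≠ 1 := by
    have := conj_ne_one (g := g⁻¹) D.hQ.zne
    rwa [inv_inv] at this
  have hyz : g⁻¹ * D.z * g ≠ D.z := fun e => by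
    have e' : w' = D.z := by
      calc w' = g * (g⁻¹ * D.z * g) * g⁻¹ := by rw [e]
        _ = D.z := back
    rcases h with e2 | e2 <;> rw [e'] at e2
    · exact D.u_ne_z i e2.symm
    · exact D.u_ne_one i (mul_eq_right.1 e2.symm)
  obtain ⟨j, hj⟩ := D.u_cover _ ⟨hy, pull_invol g D.hz2, hy1, hyz⟩
  obtain ⟨q, hqQ, hqj, hq2⟩ := D.exists_sq_comm j
  have hqy : q * (g⁻¹ * D.z * g) = g⁻¹ * D.z * g * q := by
    rcases hj with e | e <;> rw [e]
    · exact hqj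
    · rw [← mul_assoc, hqj, mul_assoc, D.comm_of_mem hqQ, ← mul_assoc]
  set m := g * q * g⁻¹ with hm
  have hmz : m * D.z = D.z * m := by
    calc m * D.z = g * (q * (g⁻¹ * D.z * g)) * g⁻¹ := by rw [hm]; group
      _ = g * ((g⁻¹ * D.z * g) * q) * g⁻¹ := by rw [hqy]
      _ = D.z * m := by rw [hm]; group
  have hmw : m * w' = w' * m := by
    rw [hm, hw', conj_mul, D.comm_of_mem hqQ, ← conj_mul]
  have hmm : m * m = w' := by rw [hm, conj_mul, hq2]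
  obtain ⟨k, hkc, hki, hk3, hκi, hκ3, hκ1⟩ := D.exists_three i
  have hk' := D.pull_z (hcomm k hkc hki)
  -- the commutator is a 2-element
  have hc4 : (k * m * k⁻¹ * m⁻¹) ^ 4 = 1 := by
    have hcQ : g⁻¹ * k * g * q * (g⁻¹ * k * g)⁻¹ * q⁻¹ ∈ D.Q := mul_mem (D.norm _ hk' q hqQ) (inv_mem hqQ)
    have e : k * m * k⁻¹ * m⁻¹ = g * (g⁻¹ * k * g * q * (g⁻¹ * k * g)⁻¹ * q⁻¹) * g⁻¹ := by rw [hm]; group
    rw [e, conj_pow]
    set c := g⁻¹ * k * g * q * (g⁻¹ * k * g)⁻¹ * q⁻¹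
    have : c ^ 4 = 1 := by
      rw [show (4 : ℕ) = 2 * 2 from rfl, pow_mul, pow_two, pow_two]
      rcases D.hQ.sq c hcQ with e' | e' <;> rw [e']
      · exact one_mul 1
      · exact D.hz2
    rw [this, mul_one, mul_inv_cancel]
  have hmi : D.perm m i = i := by
    have hfix : m * D.u i * m⁻¹ = D.u i := by
      rw [mul_inv_eq_iff_eq_mul]
      rcases h with e | e <;> rw [e] at hmw
      · exact hmw
      · rw [← mul_assoc, mul_assoc (D.u i) D.z m, ← hmz, ← mul_assoc] at hmw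
        exact mul_right_cancel hmw
    rcases D.act' hmz i with e | e <;> rw [hfix] at e
    · exact (D.u_sep _ _ (Or.inl e.symm))
    · exact (D.u_sep _ _ (Or.inr e)).symm
  have hm4 : m * m * (m * m) = 1 := by rw [hmm]; exact conj_invol g D.hz2
  have hmC := D.mem_C.2 hmz
  have hkC := D.mem_C.2 hkc
  let mc : centralizer ({D.z} : Set G) := ⟨m, hmC⟩
  let kc : centralizer ({D.z} : Set G) := ⟨k, hkC⟩
  have hp1 : D.perm m = 1 := by
    refine comm_four_trivial i hi (D.perm k) (D.perm_four k) hκi hκ3 hκ1 (D.perm m) (D.perm_four m) hmi ?_ ?_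
    · rw [show D.perm m = D.φ mc from D.perm_coe mc, ← map_pow, show mc ^ 4 = 1 from Subtype.ext (by
        show m ^ 4 = 1
        rw [show (4 : ℕ) = 2 * 2 from rfl, pow_mul, pow_two, pow_two]; exact hm4), map_one]
    · rw [show D.perm m = D.φ mc from D.perm_coe mc, show D.perm k = D.φ kc from D.perm_coe kc, ← map_inv,
        ← map_inv, ← map_mul, ← map_mul, ← map_mul, ← map_pow,
        show (kc * mc * kc⁻¹ * mc⁻¹) ^ 4 = 1 from Subtype.ext hc4, map_one]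
  have hne : w' ≠ 1 := conj_ne_one D.hQ.zne
  rcases D.hQ.sq m ((D.perm_eq_one hmz).1 hp1) with e | e <;> rw [hmm] at e
  · exact hne e
  · rcases h with e2 | e2 <;> rw [e] at e2
    · exact D.u_ne_z i e2.symm
    · exact D.u_ne_one i (mul_eq_right.1 e2.symm)

theorem u0_conj : D.u 0 * D.w * (D.u 0)⁻¹ = D.w * D.z := by
  rw [D.u_anti (i := 0) (j := 4) (by decide), mul_assoc (D.w * D.u 0) D.z,
    ← D.comm_of_mem (inv_mem (D.uQ 0)), ← mul_assoc, mul_inv_cancel_right]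

include hns in
/-- An element moving `z` to the fixed pair. -/
theorem exists_move : ∃ g : G, g * D.z * g⁻¹ = D.w ∧
    (g⁻¹ * D.z * g = D.w ∨ g⁻¹ * D.z * g = D.w * D.z) := by
  obtain ⟨m, hm, hzm⟩ := D.exists_conj_invSet hns
  obtain ⟨g0, rfl⟩ := isConj_iff.1 hzm
  obtain ⟨i, hi⟩ := D.u_cover _ hm
  obtain rfl := D.u_not hi
  obtain ⟨g, hg⟩ : ∃ g : G, g * D.z * g⁻¹ = D.w := by
    rcases hi with e | e
    · exact ⟨g0, e⟩
    · refine ⟨D.u 0 * g0, ?_⟩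
      rw [show D.u 0 * g0 * D.z * (D.u 0 * g0)⁻¹ = D.u 0 * (g0 * D.z * g0⁻¹) * (D.u 0)⁻¹ by group, e, ← conj_mul,
        D.u0_conj, D.comm_of_mem (D.uQ 0), mul_inv_cancel_right, mul_assoc, D.hz2, mul_one]
  have hy : g⁻¹ * D.z * g ∈ D.Q := D.pull_mem (Or.inl hg)
  have hyz : g⁻¹ * D.z * g ≠ D.z := fun e => D.u_ne_z 4 (by
    show D.w = D.z
    calc D.w = g * D.z * g⁻¹ := hg.symm
      _ = g * (g⁻¹ * D.z * g) * g⁻¹ := by rw [e]
      _ = D.z := back)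
  have hy1 : g⁻¹ * D.z * g ≠ 1 := by
    have := conj_ne_one (g := g⁻¹) D.hQ.zne
    rwa [inv_inv] at this
  obtain ⟨j, hj⟩ := D.u_cover _ ⟨hy, pull_invol g D.hz2, hy1, hyz⟩
  obtain rfl := D.u_not (g := g⁻¹) (i := j) (by rw [inv_inv]; exact hj)
  exact ⟨g, hg, hj⟩

include hns in
theorem conj_w : IsConj D.z D.w ∧ IsConj D.z (D.w * D.z) := by
  obtain ⟨g, hg, -⟩ := D.exists_move hns
  have h : IsConj D.z D.w := isConj_iff.2 ⟨g, hg⟩
  exact ⟨h, h.trans (isConj_iff.2 ⟨D.u 0, D.u0_conj⟩)⟩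

include hns in
/-- The conjugates of `z` in `Q`. -/
theorem conj_Q {x : G} (hx : x ∈ D.Q) (hzx : IsConj D.z x) : x = D.z ∨ x = D.w ∨ x = D.w * D.z := by
  by_cases hz : x = D.z
  · exact Or.inl hz
  obtain ⟨g, rfl⟩ := isConj_iff.1 hzx
  obtain ⟨i, hi⟩ := D.u_cover _ ⟨hx, conj_invol g D.hz2, conj_ne_one D.hQ.zne, hz⟩
  obtain rfl := D.u_not hi
  exact Or.inr hi

include hns in
/-- A conjugate whose pullback lies in `Q` lies in `Q`. -/
theorem mem_of_pull {g : G} (hy : g⁻¹ * D.z * g ∈ D.Q) : g * D.z * g⁻¹ ∈ D.Q := by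
  obtain ⟨g1, hg1, hg1'⟩ := D.exists_move hns
  have key : ∀ n : G, n * D.z * n⁻¹ = g⁻¹ * D.z * g → n⁻¹ * D.z * n ∈ D.Q → g * D.z * g⁻¹ ∈ D.Q := by
    intro n hn hn'
    have hc : g * n * D.z * (g * n)⁻¹ = D.z := by
      rw [show g * n * D.z * (g * n)⁻¹ = g * (n * D.z * n⁻¹) * g⁻¹ by group, hn, back]
    have hc' : g * n * D.z = D.z * (g * n) := mul_inv_eq_iff_eq_mul.1 hc
    have := D.norm _ hc' _ hn'
    rwa [show g * n * (n⁻¹ * D.z * n) * (g * n)⁻¹ = g * D.z * g⁻¹ by group] at this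
  have hmem : g1⁻¹ * D.z * g1 ∈ D.Q := by
    rcases hg1' with e | e <;> rw [e]
    exacts [D.uQ 4, mul_mem (D.uQ 4) D.hQ.zmem]
  rcases D.conj_Q hns hy (isConj_iff.2 ⟨g⁻¹, by rw [inv_inv]⟩) with e | e | e
  · have : g * D.z * g⁻¹ = D.z := by
      calc g * D.z * g⁻¹ = g * (g⁻¹ * D.z * g) * g⁻¹ := by rw [e]
        _ = D.z := back
    rw [this]; exact D.hQ.zmem
  · exact key g1 (by rw [hg1, e]) hmem
  · refine key (D.u 0 * g1) ?_ ?_
    · rw [show D.u 0 * g1 * D.z * (D.u 0 * g1)⁻¹ = D.u 0 * (g1 * D.z * g1⁻¹) * (D.u 0)⁻¹ by group, hg1,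
        D.u0_conj, e]
    · rw [show (D.u 0 * g1)⁻¹ * D.z * (D.u 0 * g1) = g1⁻¹ * ((D.u 0)⁻¹ * D.z * D.u 0) * g1 by group,
        mul_assoc (D.u 0)⁻¹ D.z, ← D.comm_of_mem (D.uQ 0), inv_mul_cancel_left]
      exact hmem

include hns in
/-- The conjugates of `z` in the centraliser. -/
theorem conj_C {x : G} (hzx : IsConj D.z x) (hxc : x * D.z = D.z * x) :
    x = D.z ∨ x = D.w ∨ x = D.w * D.z ∨ DT (D.perm x) := by
  obtain ⟨g, rfl⟩ := isConj_iff.1 hzx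
  set x := g * D.z * g⁻¹ with hxdef
  have hx2 : x * x = 1 := conj_invol g D.hz2
  rcases D.perm_invol hxc hx2 with h | h | h
  · rcases D.conj_Q hns ((D.perm_eq_one hxc).1 h) hzx with e | e | e
    exacts [Or.inl e, Or.inr (Or.inl e), Or.inr (Or.inr (Or.inl e))]
  · exact Or.inr (Or.inr (Or.inr h))
  exfalso
  have hy : g⁻¹ * D.z * g ∉ D.Q := fun hy => h.2.2.1 ((D.perm_eq_one hxc).2 (D.mem_of_pull hns hy))
  obtain ⟨⟨q, hqQ, hxq, hq2⟩, ⟨e, f, heQ, hfQ, hxe, hxf, hef⟩, h3, h4⟩ := D.tr_cent hxc hx2 h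
  obtain ⟨hyc, hyσ⟩ := D.pull_dt hxq.symm hq2 hy
  set y := g⁻¹ * D.z * g with hydef
  have hyw : y * D.w = D.w * y := ((D.dt_cent hyc (pull_invol g D.hz2) hyσ).2 (by simp)).2
  set u'' := g * D.w * g⁻¹ with hu''
  have hgy : g * y * g⁻¹ = D.z := back
  have hu''c : u'' * D.z = D.z * u'' := by
    rw [← hgy, hu'', conj_mul, ← hyw, ← conj_mul]
  have hu''x : u'' * x = x * u'' := by
    rw [hu'', hxdef, conj_mul, D.comm_of_mem (D.uQ 4), ← conj_mul]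
  have hu''2 : u'' * u'' = 1 := conj_invol g (D.uu 4)
  have hxQ : x ∉ D.Q := fun hQ => h.2.2.1 ((D.perm_eq_one hxc).2 hQ)
  have hcen : ∀ r ∈ D.Q, x * r = r * x → u'' * r = r * u'' := by
    intro r hr hxr
    have hr' := D.pull_z hxr.symm
    have hact : g⁻¹ * r * g * D.w * (g⁻¹ * r * g)⁻¹ = D.w ∨
        g⁻¹ * r * g * D.w * (g⁻¹ * r * g)⁻¹ = D.w * D.z := by
      have := D.act' hr' 4
      rwa [D.perm_four] at this
    rcases hact with e' | e'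
    · rw [eq_comm, hu'', ← mul_inv_eq_iff_eq_mul]
      calc r * (g * D.w * g⁻¹) * r⁻¹ = g * (g⁻¹ * r * g * D.w * (g⁻¹ * r * g)⁻¹) * g⁻¹ := by group
        _ = g * D.w * g⁻¹ := by rw [e']
    · exfalso
      apply hxQ
      have h5 : r * u'' * r⁻¹ = u'' * x := by
        calc r * u'' * r⁻¹ = g * (g⁻¹ * r * g * D.w * (g⁻¹ * r * g)⁻¹) * g⁻¹ := by rw [hu'']; group
          _ = u'' * x := by rw [e', hu'', hxdef, conj_mul]
      have h6 : u''⁻¹ * (r * u'' * r⁻¹) ∈ D.Q := by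
        rw [show u''⁻¹ * (r * u'' * r⁻¹) = (u''⁻¹ * r * u''⁻¹⁻¹) * r⁻¹ by group]
        refine mul_mem (D.norm _ ?_ r hr) (inv_mem hr)
        rw [invol_inv hu''2]; exact hu''c
      rwa [h5, inv_mul_cancel_left] at h6
  rcases D.perm_invol hu''c hu''2 with hp | hp | hp
  · rcases h3 u'' ((D.perm_eq_one hu''c).1 hp) hu''x.symm hcen with e' | e'
    · exact conj_ne_one (D.u_ne_one 4) e'
    · rw [← hgy] at e'
      have e2 : D.w = y := (MulAut.conj g).injective e'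
      have := D.uQ 4
      rw [show D.u 4 = y from e2] at this
      exact hy this
  · have he := (D.dt_cent hu''c hu''2 hp).1 ⟨heQ, hcen e heQ hxe⟩
    have hf := (D.dt_cent hu''c hu''2 hp).1 ⟨hfQ, hcen f hfQ hxf⟩
    simp only [Set.mem_insert_iff, Set.mem_singleton_iff] at he hf
    apply D.hQ.zne
    have hc : e * f = f * e := by
      have hzw : Commute D.w D.z := D.comm_of_mem (D.uQ 4)
      have hw : ∀ a, (a = 1 ∨ a = D.z ∨ a = D.w ∨ a = D.w * D.z) → Commute a D.w ∧ Commute a D.z := by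
        rintro a (rfl | rfl | rfl | rfl)
        exacts [⟨Commute.one_left _, Commute.one_left _⟩, ⟨hzw.symm, Commute.refl _⟩, ⟨Commute.refl _, hzw⟩,
          ⟨(Commute.refl _).mul_left hzw.symm, hzw.mul_left (Commute.refl _)⟩]
      obtain ⟨h1, h2⟩ := hw e he
      rcases hf with rfl | rfl | rfl | rfl
      exacts [(Commute.one_right e).eq, h2.eq, h1.eq, (h1.mul_right h2).eq]
    rw [hc] at hef
    exact (mul_eq_left.1 hef.symm)
  · have hτ : D.perm u'' = D.perm x := h4 u'' hu''c hp (by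
      rw [← D.perm_mul hu''c hxc, hu''x, D.perm_mul hxc hu''c]) hcen
    have hux : (u'' * x) * D.z = D.z * (u'' * x) := D.mem_C.1 (mul_mem (D.mem_C.2 hu''c) (D.mem_C.2 hxc))
    have hQ' : u'' * x ∈ D.Q := by
      rw [← D.perm_eq_one hux, D.perm_mul hu''c hxc, hτ, h.2.1]
    have hc' : ∀ r ∈ D.Q, x * r = r * x → u'' * x * r = r * (u'' * x) := fun r hr hxr => by
      rw [mul_assoc, hxr, ← mul_assoc, hcen r hr hxr, mul_assoc]
    have hxux : x * (u'' * x) = u'' * x * x := by rw [← mul_assoc, ← hu''x]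
    rcases h3 _ hQ' hxux hc' with e' | e'
    · rw [hu'', hxdef, conj_mul, conj_eq_one_iff] at e'
      exact D.u_ne_z 4 ((eq_inv_of_mul_eq_one_left e').trans D.z_inv)
    · rw [← hgy, hu'', hxdef, conj_mul] at e'
      have e2 : D.w * D.z = y := (MulAut.conj g).injective e'
      exact hy (e2 ▸ mul_mem (D.uQ 4) D.hQ.zmem)

end

end Data

end Cfsg.Agent.PGLThreeFourType
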