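import Cfsg.Agent.Lib.PGLThreeFourType.Basic

/-!
# Involution centraliser `(D₈ * Q₈).S₄`: involutions outside `Q`

* double transpositions: `dt_cent`, `dt_conj`
* transpositions: `tr_cent`
-/

set_option autoImplicit false
set_option linter.unusedSectionVars false
set_option linter.style.haveILetI false

namespace Cfsg.Agent.PGLThreeFourType

open Cfsg Subgroup OrderJTwo

variable {G : Type*} [Group G] [Finite G]

theorem dt_split : ∀ σ : Equiv.Perm (Fin 5), DT σ → ∃ a : Fin 5, a ≠ 4 ∧ a ≠ 0 ∧ a ≠ σ 0 ∧ σ a ≠ 4 ∧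
    σ 0 ≠ 4 ∧ ∀ k, k = 4 ∨ k = 0 ∨ k = σ 0 ∨ k = a ∨ k = σ a := by decide +kernel

theorem tr_split : ∀ σ : Equiv.Perm (Fin 5), TR σ → ∃ i a b : Fin 5, σ i ≠ i ∧ a ≠ 4 ∧ b ≠ 4 ∧ a ≠ b ∧
    σ a = a ∧ σ b = b ∧ i ≠ a ∧ i ≠ b ∧ σ i ≠ a ∧ σ i ≠ b ∧ i ≠ 4 ∧ σ i ≠ 4 ∧ σ (σ i) = i ∧
    ∀ k, k = 4 ∨ k = a ∨ k = b ∨ k = i ∨ k = σ i := by decide +kernel

set_option synthInstance.maxSize 4096 in
theorem tr_tr : ∀ σ : Equiv.Perm (Fin 5), TR σ → ∀ τ : Equiv.Perm (Fin 5), TR τ → τ ≠ σ → τ * σ = σ * τ →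
    ∀ k, k ≠ 4 → σ k = k → τ k ≠ k ∧ τ k ≠ 4 ∧ σ (τ k) = τ k := by decide +kernel

theorem exists_ne_pair : ∀ i j : Fin 5, ∃ k, k ≠ i ∧ k ≠ j := by decide

namespace Data

variable (D : Data G)

theorem invol_inv {x : G} (h : x * x = 1) : x⁻¹ = x := inv_eq_of_mul_eq_one_right h

theorem conj_z {x : G} (hx : x * D.z = D.z * x) : x * D.z * x⁻¹ = D.z := by rw [hx, mul_inv_cancel_right]

theorem inverts_pair {x : G} (hx : x * D.z = D.z * x) (hx2 : x * x = 1) {i j : Fin 5} (_hij : i ≠ j)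
    (h : D.perm x i = j) : x * (D.u i * D.u j) * x⁻¹ = (D.u i * D.u j)⁻¹ := by
  have e : (D.u i * D.u j)⁻¹ = D.u j * D.u i := by
    rw [mul_inv_rev, invol_inv (D.uu i), invol_inv (D.uu j)]
  have hinv : x⁻¹ = x := invol_inv hx2
  have back : ∀ a b : G, x * a * x⁻¹ = b → x * b * x⁻¹ = a := fun a b hab => by
    rw [← hab]
    calc x * (x * a * x⁻¹) * x⁻¹ = x * x * a * (x * x)⁻¹ := by group
      _ = a := by rw [hx2, one_mul, inv_one, mul_one]
  rw [e, ← conj_mul]
  rcases D.act' hx i with h1 | h1 <;> rw [h] at h1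
  · rw [h1, back _ _ h1]
  · have h2 := back _ _ h1
    rw [← conj_mul, D.conj_z hx] at h2
    have h3 : x * D.u j * x⁻¹ = D.u i * D.z := by
      rw [← h2, mul_assoc (x * D.u j * x⁻¹) D.z D.z, D.hz2, mul_one]
    rw [h1, h3, mul_assoc, ← mul_assoc D.z, ← D.comm_of_mem (D.uQ i), mul_assoc (D.u i), D.hz2, mul_one]

theorem inverts_not_fixed {i j : Fin 5} (hij : i ≠ j) : (D.u i * D.u j)⁻¹ ≠ D.u i * D.u j := by
  intro h
  rw [mul_inv_rev, invol_inv (D.uu i), invol_inv (D.uu j), D.u_anti hij] at h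
  exact D.hQ.zne (mul_eq_left.1 h.symm)

/-- The elements of `Q` fixed by `x` up to `z` and their supports. -/
theorem dt_inv_cases {x : G} (hx : x * D.z = D.z * x) (hσ : DT (D.perm x)) {q : G} (hq : q ∈ D.Q)
    (h : x * q * x⁻¹ = q ∨ x * q * x⁻¹ = q * D.z) :
    (q = 1 ∨ q = D.z ∨ q = D.w ∨ q = D.w * D.z) ∨
      ∃ i, i ≠ 4 ∧ (q = D.u i * D.u (D.perm x i) ∨ q = D.u i * D.u (D.perm x i) * D.z) := by
  set σ := D.perm x with hσd
  have hinv : ∀ k, D.anti q (σ k) = D.anti q k := fun k => by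
    have e := D.anti_conj hx hq k
    rcases h with h | h <;> rw [h] at e
    · exact e
    · rwa [D.anti_mul_z hq] at e
  rcases D.q_cases hq with h1 | h1 | ⟨i, hi⟩ | ⟨i, j, hij, hi⟩
  · exact Or.inl (Or.inl h1)
  · exact Or.inl (Or.inr (Or.inl h1))
  · have hp : ∀ k, D.anti q k = decide (i ≠ k) := fun k => by
      rcases hi with rfl | rfl
      · exact D.anti_u i k
      · rw [D.anti_mul_z (D.uQ i), D.anti_u]
    have h4 : i = 4 := by
      by_contra h4
      have e := hinv i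
      rw [hp, hp] at e
      simp [Ne.symm (hσ.2.2 i h4)] at e
    subst h4
    exact Or.inl (Or.inr (Or.inr hi))
  · have hp : ∀ k, D.anti q k = decide (k = i ∨ k = j) := fun k => by
      rcases hi with rfl | rfl
      · exact D.anti_uu' hij k
      · rw [D.anti_mul_z (mul_mem (D.uQ i) (D.uQ j)), D.anti_uu' hij]
    have key : ∀ a b : Fin 5, a ≠ b → (∀ k, D.anti q k = decide (k = a ∨ k = b)) → a ≠ 4 → σ a = b := by
      intro a b _ hp' ha
      have e := hinv a
      rw [hp', hp'] at e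
      simpa [hσ.2.2 a ha] using e
    right
    by_cases h4 : i = 4
    · exfalso
      have hj4 : j ≠ 4 := fun h => hij (h4.trans h.symm)
      have e := key j i hij.symm (fun k => by rw [hp]; simp [or_comm]) hj4
      have e' := congrArg σ e
      rw [← Equiv.Perm.mul_apply, hσ.2.1, h4, hσ.1] at e'
      exact hj4 e'
    · exact ⟨i, h4, by rw [key i j hij hp h4]; exact hi⟩

theorem dt_fix_w {x : G} (hx : x * D.z = D.z * x) (hx2 : x * x = 1) (hσ : DT (D.perm x)) :
    x * D.w * x⁻¹ = D.w := by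
  obtain ⟨a, ha4, ha0, ha', hb4, hc4, hall⟩ := dt_split _ hσ
  set σ := D.perm x
  have h0 : (0 : Fin 5) ≠ σ 0 := (hσ.2.2 0 (by decide)).symm
  have ha : a ≠ σ a := (hσ.2.2 a ha4).symm
  have hb0 : σ a ≠ 0 := fun e => ha' (by
    have := congrArg σ e
    rw [← Equiv.Perm.mul_apply, hσ.2.1] at this
    exact this)
  have hbc : σ a ≠ σ 0 := fun e => ha0 (σ.injective e)
  set q1 := D.u 0 * D.u (σ 0)
  set q2 := D.u a * D.u (σ a)
  have h1 : x * q1 * x⁻¹ = q1⁻¹ := D.inverts_pair hx hx2 h0 rfl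
  have h2 : x * q2 * x⁻¹ = q2⁻¹ := D.inverts_pair hx hx2 ha rfl
  have hq1 : q1 ∈ D.Q := mul_mem (D.uQ _) (D.uQ _)
  have hq2 : q2 ∈ D.Q := mul_mem (D.uQ _) (D.uQ _)
  have hp : ∀ k, D.anti (q1 * q2) k = D.anti D.w k := fun k => by
    rw [D.anti_mul hq1 hq2, D.anti_uu' h0, D.anti_uu' ha, D.anti_u]
    rcases hall k with rfl | rfl | rfl | rfl | rfl <;>
      simp [ha0, ha', hb0, hbc, h0, ha, Ne.symm hc4, Ne.symm hb4, Ne.symm ha4, Ne.symm ha0,
        Ne.symm ha', Ne.symm hb0, Ne.symm hbc, Ne.symm h0, Ne.symm ha]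
  -- the two inverted elements commute
  have hcom : q1 * q2 = q2 * q1 := by
    have hz0 : D.anti q1 a = false ∧ D.anti q1 (σ a) = false := by
      rw [D.anti_uu' h0, D.anti_uu' h0]
      simp [ha0, ha', hb0, hbc]
    show q1 * (D.u a * D.u (σ a)) = D.u a * D.u (σ a) * q1
    rw [← mul_assoc, D.anti_false.1 hz0.1, mul_assoc, D.anti_false.1 hz0.2, ← mul_assoc]
  have h12 : x * (q1 * q2) * x⁻¹ = (q1 * q2)⁻¹ := by
    rw [← conj_mul, h1, h2, ← mul_inv_rev, hcom]
  rcases D.anti_inj (mul_mem hq1 hq2) (D.uQ 4) hp with e | e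
  · rw [← e] at h12
    rwa [invol_inv (D.uu 4)] at h12
  · have e' : q1 * q2 = D.w * D.z := JTwoType.eq_or_of_pair D.hz2 e
    rw [e', ← conj_mul, D.conj_z hx, invol_inv (mul_mem_invSet D.hQ (D.u_mem 4)).2.1] at h12
    exact mul_right_cancel h12

/-- The centraliser in `Q` of a double transposition. -/
theorem dt_cent {x : G} (hx : x * D.z = D.z * x) (hx2 : x * x = 1) (hσ : DT (D.perm x)) {q : G} :
    (q ∈ D.Q ∧ x * q = q * x) ↔ q ∈ ({1, D.z, D.w, D.w * D.z} : Set G) := by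
  constructor
  · rintro ⟨hq, h⟩
    have h' : x * q * x⁻¹ = q := by rw [h, mul_inv_cancel_right]
    rcases D.dt_inv_cases hx hσ hq (Or.inl h') with hh | ⟨i, hi, hh⟩
    · simpa using hh
    · exfalso
      have hne : i ≠ D.perm x i := (hσ.2.2 i hi).symm
      have e := D.inverts_pair hx hx2 hne rfl
      rcases hh with rfl | rfl
      · rw [h'] at e; exact D.inverts_not_fixed hne e.symm
      · rw [← conj_mul, D.conj_z hx, e] at h'
        exact D.inverts_not_fixed hne (mul_right_cancel h')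
  · intro h
    have hw : x * D.w = D.w * x := mul_inv_eq_iff_eq_mul.1 (D.dt_fix_w hx hx2 hσ)
    rcases h with rfl | rfl | rfl | rfl
    · exact ⟨one_mem _, by simp⟩
    · exact ⟨D.hQ.zmem, hx⟩
    · exact ⟨D.uQ 4, hw⟩
    · exact ⟨mul_mem (D.uQ 4) D.hQ.zmem, by rw [← mul_assoc, hw, mul_assoc, hx, ← mul_assoc]⟩

/-- All involutions in the coset of a double transposition are conjugate under `Q`. -/
theorem dt_conj {x : G} (hx : x * D.z = D.z * x) (hx2 : x * x = 1) (hσ : DT (D.perm x)) {q : G}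
    (hq : q ∈ D.Q) (h : x * q * (x * q) = 1) : ∃ r ∈ D.Q, r * x * r⁻¹ = x * q := by
  classical
  obtain ⟨a, ha4, -, -, -, -, hall⟩ := dt_split _ hσ
  set σ := D.perm x
  have hinv : x⁻¹ = x := invol_inv hx2
  let f : G → G := fun r => x * r * x⁻¹ * r⁻¹
  set I := {p : G | p ∈ D.Q ∧ x * p * x⁻¹ = p⁻¹} with hI
  have hqI : q ∈ I := ⟨hq, by
    rw [hinv]
    exact eq_inv_of_mul_eq_one_left (by rw [← h]; group)⟩
  have hf : ∀ r ∈ D.Q, f r ∈ I := fun r hr => by
    refine ⟨mul_mem (D.norm x hx r hr) (inv_mem hr), ?_⟩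
    show x * (x * r * x⁻¹ * r⁻¹) * x⁻¹ = (x * r * x⁻¹ * r⁻¹)⁻¹
    rw [hinv]
    calc x * (x * r * x * r⁻¹) * x = (x * x) * r * x * r⁻¹ * x := by group
      _ = r * x * r⁻¹ * x := by rw [hx2, one_mul]
      _ = r * x⁻¹ * r⁻¹ * x⁻¹ := by rw [hinv]
      _ = _ := by group
  -- at most eight elements are inverted
  set q1 := D.u 0 * D.u (σ 0)
  set q2 := D.u a * D.u (σ a)
  have hI8 : I.ncard ≤ 8 := by
    let L : List G := [1, D.z, D.w, D.w * D.z, q1, q1 * D.z, q2, q2 * D.z]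
    have hsub : I ⊆ {p | p ∈ L} := by
      rintro p ⟨hp, hp'⟩
      have h' : x * p * x⁻¹ = p ∨ x * p * x⁻¹ = p * D.z := by
        rcases D.hQ.sq p hp with e | e
        · exact Or.inl (hp'.trans (invol_inv e))
        · exact Or.inr (hp'.trans (inv_eq_of_mul_eq_one_right (by rw [← mul_assoc, e, D.hz2])))
      rcases D.dt_inv_cases hx hσ hp h' with hh | ⟨i, hi, hh⟩
      · rcases hh with rfl | rfl | rfl | rfl <;> simp [L]
      · have hflip : ∀ k, k ≠ 4 → D.u (σ k) * D.u (σ (σ k)) = D.u k * D.u (σ k) * D.z := fun k hk => by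
          rw [← Equiv.Perm.mul_apply, hσ.2.1, Equiv.Perm.one_apply, D.u_anti (hσ.2.2 k hk)]
        have hmem : ∀ k, k ≠ 4 → (k = i) → D.u i * D.u (σ i) ∈ [q1, q1 * D.z, q2, q2 * D.z] := by
          intro k hk e
          rcases hall i with h4 | e1 | e1 | e1 | e1
          · exact absurd h4 hi
          · subst e1; simp [q1]
          · subst e1; rw [hflip 0 (by decide)]; simp [q1]
          · subst e1; simp [q2]
          · subst e1; rw [hflip a ha4]; simp [q2]
        have hm := hmem i hi rfl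
        have hz' : ∀ s : G, s * D.z * D.z = s := fun s => by rw [mul_assoc, D.hz2, mul_one]
        rcases hh with rfl | rfl
        · show D.u i * D.u (σ i) ∈ L
          simp only [List.mem_cons, List.not_mem_nil, or_false] at hm
          rcases hm with e | e | e | e <;> simp [L, e]
        · show D.u i * D.u (σ i) * D.z ∈ L
          simp only [List.mem_cons, List.not_mem_nil, or_false] at hm
          rcases hm with e | e | e | e <;> simp [L, e, hz']
    refine (Set.ncard_le_ncard hsub (Set.toFinite _)).trans ?_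
    rw [show {p | p ∈ L} = (L.toFinset : Set G) by ext; simp, Set.ncard_coe_finset]
    exact (List.toFinset_card_le L).trans le_rfl
  -- at least eight are commutators
  have hF : 8 ≤ (f '' (D.Q : Set G)).ncard := by
    have hfin : (D.Q : Set G).Finite := Set.toFinite _
    have hcard : hfin.toFinset.card = 32 := by
      rw [← Set.ncard_eq_toFinset_card _ hfin, ← Nat.card_coe_set_eq, SetLike.coe_sort_coe, D.hQ.card]
    have hle := Finset.card_le_mul_card_image hfin.toFinset 4 (f := f) (fun b hb => by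
      obtain ⟨r0, hr0, rfl⟩ := Finset.mem_image.1 hb
      rw [Set.Finite.mem_toFinset] at hr0
      let L : List G := [r0, r0 * D.z, r0 * D.w, r0 * (D.w * D.z)]
      refine (Finset.card_le_card (t := L.toFinset) fun r hr => ?_).trans (List.toFinset_card_le L)
      obtain ⟨hrQ, hfr⟩ := Finset.mem_filter.1 hr
      rw [Set.Finite.mem_toFinset] at hrQ
      have hm : r0⁻¹ * r ∈ D.Q ∧ x * (r0⁻¹ * r) = (r0⁻¹ * r) * x := by
        refine ⟨mul_mem (inv_mem hr0) hrQ, mul_inv_eq_iff_eq_mul.1 ?_⟩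
        have hfr' : x * r * x⁻¹ * r⁻¹ = x * r0 * x⁻¹ * r0⁻¹ := hfr
        calc x * (r0⁻¹ * r) * x⁻¹ = (x * r0 * x⁻¹)⁻¹ * (x * r * x⁻¹ * r⁻¹) * r := by group
          _ = _ := by rw [hfr']; group
      have hm' := (D.dt_cent hx hx2 hσ).1 hm
      simp only [Set.mem_insert_iff, Set.mem_singleton_iff] at hm'
      rcases hm' with e | e | e | e <;> rw [inv_mul_eq_iff_eq_mul] at e <;>
        simp [L, e])
    rw [hcard] at hle
    have himg : f '' (D.Q : Set G) = ((hfin.toFinset.image f : Finset G) : Set G) := by simp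
    rw [himg, Set.ncard_coe_finset]
    omega
  have heq : f '' (D.Q : Set G) = I :=
    Set.eq_of_subset_of_ncard_le (Set.image_subset_iff.2 hf) (hI8.trans hF) (Set.toFinite _)
  obtain ⟨r, hr, hfr⟩ := heq.ge hqI
  refine ⟨r, hr, ?_⟩
  rw [← hfr]
  show r * x * r⁻¹ = x * (x * r * x⁻¹ * r⁻¹)
  rw [hinv]
  calc r * x * r⁻¹ = (x * x) * (r * x * r⁻¹) := by rw [hx2, one_mul]
    _ = _ := by group

/-- The centraliser in `Q` of a transposition. -/
theorem tr_cent {x : G} (hx : x * D.z = D.z * x) (hx2 : x * x = 1) (hσ : TR (D.perm x)) :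
    (∃ q ∈ D.Q, x * q = q * x ∧ q * q = D.z) ∧
    (∃ e f, e ∈ D.Q ∧ f ∈ D.Q ∧ x * e = e * x ∧ x * f = f * x ∧ e * f = f * e * D.z) ∧
    (∀ m ∈ D.Q, x * m = m * x → (∀ q ∈ D.Q, x * q = q * x → m * q = q * m) → m = 1 ∨ m = D.z) ∧
    (∀ y : G, y * D.z = D.z * y → TR (D.perm y) → D.perm y * D.perm x = D.perm x * D.perm y →
      (∀ q ∈ D.Q, x * q = q * x → y * q = q * y) → D.perm y = D.perm x) := by
  obtain ⟨i, a, b, hi, ha4, hb4, hab, hσa, hσb, hia, hib, hja, hjb, hi4, hj4, hσσ, hall⟩ := tr_split _ hσ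
  set σ := D.perm x with hσd
  set j := σ i with hj
  have hij : i ≠ j := Ne.symm hi
  set p := D.u i * D.u j with hp
  have hpQ : p ∈ D.Q := mul_mem (D.uQ _) (D.uQ _)
  have hxp : x * p * x⁻¹ = p⁻¹ := D.inverts_pair hx hx2 hij rfl
  have hpinv : p⁻¹ = p * D.z := by
    refine inv_eq_of_mul_eq_one_right ?_
    have hpp : p * p = D.z := (D.hQ.sq p hpQ).resolve_left fun e =>
      D.inverts_not_fixed hij (invol_inv e)
    rw [← mul_assoc, hpp, D.hz2]
  -- fixed representatives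
  have rep : ∀ k, σ k = k → k ≠ i → k ≠ j →
      ∃ e ∈ D.Q, x * e = e * x ∧ (e = D.u k ∨ e = D.u k * p) := by
    intro k hk _ _
    rcases D.act' hx k with h | h <;> rw [← hσd, hk] at h
    · exact ⟨D.u k, D.uQ k, mul_inv_eq_iff_eq_mul.1 h, Or.inl rfl⟩
    · refine ⟨D.u k * p, mul_mem (D.uQ k) hpQ, mul_inv_eq_iff_eq_mul.1 ?_, Or.inr rfl⟩
      rw [← conj_mul, h, hxp, hpinv, mul_assoc, ← mul_assoc D.z, ← D.comm_of_mem hpQ, mul_assoc p D.z D.z, D.hz2,
        mul_one]
  obtain ⟨ea, heaQ, hxea, hea⟩ := rep a hσa (Ne.symm hia) (Ne.symm hja)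
  obtain ⟨eb, hebQ, hxeb, heb⟩ := rep b hσb (Ne.symm hib) (Ne.symm hjb)
  obtain ⟨ef, hefQ, hxef, hef⟩ := rep 4 (D.perm_four x) (Ne.symm hi4) (Ne.symm hj4)
  have antie : ∀ k e, (e = D.u k ∨ e = D.u k * p) → ∀ t, (t ≠ i ∧ t ≠ j) → D.anti e t = decide (k ≠ t) := by
    intro k e he t ht
    rcases he with rfl | rfl
    · exact D.anti_u k t
    · rw [D.anti_mul (D.uQ k) hpQ, D.anti_u, D.anti_uu' hij]
      simp [ht.1, ht.2]
  -- pairwise anticommuting
  have hpair : ∀ k l, k ≠ l → k ≠ i → k ≠ j → l ≠ i → l ≠ j → ∀ e f, (e = D.u k ∨ e = D.u k * p) →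
      (f = D.u l ∨ f = D.u l * p) → e * f = f * e * D.z := by
    intro k l hkl hki hkj hli hlj e f he hf
    have heQ : e ∈ D.Q := by
      rcases he with rfl | rfl
      exacts [D.uQ k, mul_mem (D.uQ k) hpQ]
    have h1 : e * D.u l = D.u l * e * D.z :=
      (D.anti_true heQ).1 (by rw [antie k e he l ⟨hli, hlj⟩]; simp [hkl])
    rcases hf with rfl | rfl
    · exact h1
    · have h2 : e * p = p * e := by
        have hc : ∀ t, D.anti p t = false → p * D.u t = D.u t * p := fun t => D.anti_false.1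
        have hk : p * D.u k = D.u k * p := hc k (by rw [D.anti_uu' hij]; simp [hki, hkj])
        rcases he with rfl | rfl
        · exact hk.symm
        · rw [← mul_assoc p, hk]
      rw [← mul_assoc, h1, mul_assoc (D.u l * e) D.z p, ← D.comm_of_mem hpQ, ← mul_assoc, mul_assoc (D.u l) e p, h2,
        ← mul_assoc]
  have hab' := hpair a b hab (Ne.symm hia) (Ne.symm hja) (Ne.symm hib) (Ne.symm hjb) ea eb hea heb
  refine ⟨?_, ⟨ea, eb, heaQ, hebQ, hxea, hxeb, hab'⟩, ?_, ?_⟩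
  · -- an element with square `z`
    rcases D.hQ.sq ea heaQ with h1 | h1
    swap
    · exact ⟨ea, heaQ, hxea, h1⟩
    rcases D.hQ.sq eb hebQ with h2 | h2
    swap
    · exact ⟨eb, hebQ, hxeb, h2⟩
    refine ⟨ea * eb, mul_mem heaQ hebQ, by rw [← mul_assoc, hxea, mul_assoc, hxeb, ← mul_assoc], ?_⟩
    have hba : eb * ea = ea * eb * D.z := by rw [hab', mul_assoc, D.hz2, mul_one]
    calc ea * eb * (ea * eb) = ea * (eb * ea) * eb := by group
      _ = ea * (ea * eb * D.z) * eb := by rw [hba]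
      _ = ea * ea * eb * (D.z * eb) := by group
      _ = ea * ea * (eb * eb) * D.z := by rw [← D.comm_of_mem hebQ]; group
      _ = D.z := by rw [h1, h2, one_mul, one_mul]
  · intro m hm hxm hcen
    have hinvm : ∀ t, D.anti m (σ t) = D.anti m t := fun t => by
      have e := D.anti_conj hx hm t
      rwa [show x * m * x⁻¹ = m by rw [hxm, mul_inv_cancel_right]] at e
    have hmp : D.anti m i = D.anti m j := (hinvm i).symm
    have hk : ∀ k e, k ≠ i → k ≠ j → (e = D.u k ∨ e = D.u k * p) → m * e = e * m → D.anti m k = false := by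
      intro k e hki hkj he hme
      rcases he with rfl | rfl
      · exact D.anti_false.2 hme
      · rw [D.anti_false]
        by_contra hne
        have h1 : m * D.u k = D.u k * m * D.z :=
          (D.hQ.comm m hm _ (D.uQ k)).resolve_left hne
        have hmpp : m * p = p * m := by
          rcases Bool.eq_false_or_eq_true (D.anti m i) with h' | h'
          · have h1i := (D.anti_true hm).1 h'
            have h1j := (D.anti_true hm).1 (hmp ▸ h')
            rw [hp, ← mul_assoc, h1i, mul_assoc (D.u i * m) D.z (D.u j), ← D.comm_of_mem (D.uQ j), ← mul_assoc,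
              mul_assoc (D.u i) m (D.u j), h1j, ← mul_assoc, ← mul_assoc, mul_assoc (D.u i * D.u j * m) D.z D.z,
              D.hz2, mul_one]
          · have h1i := D.anti_false.1 h'
            have h1j := D.anti_false.1 (hmp ▸ h' : D.anti m j = false)
            rw [hp, ← mul_assoc, h1i, mul_assoc, h1j, ← mul_assoc]
        rw [← mul_assoc, h1, mul_assoc (D.u k * m) D.z p, ← D.comm_of_mem hpQ, ← mul_assoc, mul_assoc (D.u k) m p,
          hmpp, ← mul_assoc] at hme
        exact D.hQ.zne (mul_eq_left.1 hme)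
    have fa := hk a ea (Ne.symm hia) (Ne.symm hja) hea (hcen ea heaQ hxea)
    have fb := hk b eb (Ne.symm hib) (Ne.symm hjb) heb (hcen eb hebQ hxeb)
    have f4 := hk 4 ef (Ne.symm hi4) (Ne.symm hj4) hef (hcen ef hefQ hxef)
    rcases Bool.eq_false_or_eq_true (D.anti m i) with hmi | hmi
    · exfalso
      have hpat : ∀ t, D.anti p t = D.anti m t := fun t => by
        rw [D.anti_uu' hij]
        rcases hall t with rfl | rfl | rfl | rfl | rfl
        · rw [f4]; simp [Ne.symm hi4, Ne.symm hj4]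
        · rw [fa]; simp [Ne.symm hia, Ne.symm hja]
        · rw [fb]; simp [Ne.symm hib, Ne.symm hjb]
        · rw [hmi]; simp
        · rw [← hmp, hmi]; simp
      have hxm' : x * m * x⁻¹ = m := by rw [hxm, mul_inv_cancel_right]
      rcases D.anti_inj hpQ hm hpat with e | e <;> rw [e] at hxm'
      · exact D.inverts_not_fixed hij (hxp.symm.trans hxm')
      · rw [← conj_mul, D.conj_z hx, hxp] at hxm'
        exact D.inverts_not_fixed hij (mul_right_cancel hxm')
    · refine D.anti_eq_zero hm fun t => ?_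
      rcases hall t with rfl | rfl | rfl | rfl | rfl
      exacts [f4, fa, fb, hmi, hmp ▸ hmi]
  · intro y hy hτ hcomm hycen
    by_contra hne
    set τ := D.perm y with hτd
    have hsupp : ∀ k e, e ∈ D.Q → (e = D.u k ∨ e = D.u k * p) → x * e = e * x →
        ∀ t, D.anti e (τ t) = D.anti e t := fun k e heQ _ hxe t => by
      have e' := D.anti_conj hy heQ t
      rwa [show y * e * y⁻¹ = e by rw [hycen e heQ hxe, mul_inv_cancel_right]] at e'
    obtain ⟨h1, h2, h3⟩ := tr_tr σ hσ τ hτ hne hcomm a ha4 hσa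
    have hτa : τ a = b := by
      rcases hall (τ a) with e | e | e | e | e
      · exact absurd e h2
      · exact absurd e h1
      · exact e
      · rw [e] at h3; exact absurd h3 hi
      · rw [e, hσσ] at h3; exact absurd h3 hij
    have e := hsupp a ea heaQ hea hxea a
    rw [hτa, antie a ea hea b ⟨Ne.symm hib, Ne.symm hjb⟩, antie a ea hea a ⟨Ne.symm hia, Ne.symm hja⟩] at e
    simp [hab] at e

end Data

end Cfsg.Agent.PGLThreeFourType
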