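import Cfsg.Agent.EqLemmas
import Cfsg.Agent.S0813
import Cfsg.Agent.S0820
import Cfsg.Agent.Lib.AutPSL.Count
import Cfsg.Agent.Lib.GLOrder.Basic

/-!
# `PSL₃(4)`, `PGL₃(4)` and their automorphism groups

* `card_psl`, `card_pgl`, `card_aut`
* `pow_four_of_comm` : centralizers of involutions in `PSL₃(4)` are 2-groups
* `nonempty_aut_pgl` : `PSL₃(4)` and `PGL₃(4)` have the same automorphism group
-/

set_option autoImplicit false
set_option linter.style.haveILetI false

open Matrix

namespace Cfsg.Agent.PGLThreeFourType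

variable {F : Type*} [Field F] [Fintype F]

theorem charP_two_of_card (hF : Fintype.card F = 4) : CharP F 2 :=
  charP_of_card_eq_prime_pow (f := 2) (by rw [hF]; norm_num)

theorem card_sl (hF : Fintype.card F = 4) : Nat.card (Matrix.SpecialLinearGroup (Fin 3) F) = 60480 := by
  rw [GLOrder.card_SL, Nat.card_eq_fintype_card, hF]
  simp only [show Finset.Ico 1 3 = {1, 2} from rfl]
  decide

theorem card_psl (hF : Fintype.card F = 4) :
    Nat.card (Matrix.ProjectiveSpecialLinearGroup (Fin 3) F) = 20160 := by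
  rw [GLOrder.card_PSL, card_sl hF, Nat.card_eq_fintype_card (α := F), hF]
  simp

theorem card_pgl (hF : Fintype.card F = 4) : Nat.card (Matrix.ProjGenLinGroup (Fin 3) F) = 60480 := by
  rw [GLOrder.card_PGL, card_sl hF]

theorem card_aut (hF : Fintype.card F = 4) :
    Nat.card (MulAut (Matrix.ProjectiveSpecialLinearGroup (Fin 3) F)) = 241920 := by
  haveI : Fact (Nat.Prime 2) := ⟨Nat.prime_two⟩
  rw [Cfsg.Agent.S0813.result 2 2 (by norm_num) (by rw [hF]; norm_num) 3 (by norm_num) (by norm_num),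
    card_pgl hF]
  norm_num

/-- The standard transvection. -/
def stdT (F : Type*) [Field F] : Matrix.SpecialLinearGroup (Fin 3) F :=
  ⟨!![1, 0, 1; 0, 1, 0; 0, 0, 1], by simp [Matrix.det_fin_three]⟩

theorem pow_four_std (hF : Fintype.card F = 4) {g : Matrix.SpecialLinearGroup (Fin 3) F}
    (h : AutPSL.proj (Fin 3) F g * AutPSL.proj (Fin 3) F (stdT F) =
      AutPSL.proj (Fin 3) F (stdT F) * AutPSL.proj (Fin 3) F g) :
    AutPSL.proj (Fin 3) F g ^ 4 = 1 := by
  haveI := charP_two_of_card hF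
  have two : (2 : F) = 0 := CharTwo.two_eq_zero
  rw [← map_mul, ← map_mul] at h
  obtain ⟨c, -, hc⟩ := AutPSL.proj_eq_iff.1 h
  have e : ∀ i j, ((!![1, 0, 1; 0, 1, 0; 0, 0, 1] : Matrix (Fin 3) (Fin 3) F) * g.1) i j =
      c * (g.1 * (!![1, 0, 1; 0, 1, 0; 0, 0, 1] : Matrix (Fin 3) (Fin 3) F)) i j :=
    fun i j => congrFun (congrFun hc i) j
  have hM := g.2
  set M : Matrix (Fin 3) (Fin 3) F := g.1 with hMdef
  have e00 := e 0 0
  have e01 := e 0 1
  have e02 := e 0 2
  have e10 := e 1 0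
  have e11 := e 1 1
  have e12 := e 1 2
  have e20 := e 2 0
  have e21 := e 2 1
  simp [Matrix.mul_apply, Fin.sum_univ_three] at e00 e01 e02 e10 e11 e12 e20 e21
  rw [Matrix.det_fin_three] at hM
  rcases eq_or_ne c 1 with rfl | hc1
  · have h20 : M 2 0 = 0 := by linear_combination e00
    have h21 : M 2 1 = 0 := by linear_combination e01
    have h22 : M 2 2 = M 0 0 := by linear_combination e02
    have h10 : M 1 0 = 0 := by linear_combination -e12
    rw [h20, h21, h22, h10] at hM
    have ha : M 0 0 ≠ 0 := fun e0 => by simp [e0] at hM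
    have h3 : M 0 0 ^ 3 = 1 := by
      have := FiniteField.pow_card_sub_one_eq_one (M 0 0) ha
      rwa [hF] at this
    have h11 : M 1 1 = M 0 0 := mul_left_cancel₀ (mul_ne_zero ha ha) (by linear_combination hM - h3)
    rw [← map_pow, ← map_one (AutPSL.proj (Fin 3) F)]
    refine (AutPSL.proj_eq_iff.2 ⟨M 0 0 ^ 4, ?_, ?_⟩).symm
    · rw [Fintype.card_fin]
      linear_combination (M 0 0 ^ 9 + M 0 0 ^ 6 + M 0 0 ^ 3 + 1) * h3
    · have hM' : M = !![M 0 0, M 0 1, M 0 2; 0, M 0 0, M 1 2; 0, 0, M 0 0] := by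
        ext i j
        fin_cases i <;> fin_cases j <;> simp [h20, h21, h22, h10, h11]
      have h2 : M * M = !![M 0 0 ^ 2, 0, M 0 1 * M 1 2; 0, M 0 0 ^ 2, 0; 0, 0, M 0 0 ^ 2] := by
        conv_lhs => rw [hM']
        ext i j
        fin_cases i <;> fin_cases j <;> simp [Matrix.mul_apply, Fin.sum_univ_three] <;>
          first | ring1 | linear_combination (M 0 0 * M 0 1) * two | linear_combination (M 0 0 * M 1 2) * two |
            linear_combination (M 0 0 * M 0 2) * two
      rw [Matrix.SpecialLinearGroup.coe_pow, Matrix.SpecialLinearGroup.coe_one]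
      rw [← hMdef]
      rw [show (4 : ℕ) = 2 + 2 from rfl, pow_add, pow_two, h2]
      ext i j
      fin_cases i <;> fin_cases j <;> simp [Matrix.mul_apply, Fin.sum_univ_three] <;>
        first | ring1 | linear_combination (M 0 0 ^ 2 * (M 0 1 * M 1 2)) * two
  · exfalso
    have z : ∀ {m : F}, m = c * m → m = 0 := fun {m} hm => by
      by_contra h0
      exact hc1 ((mul_eq_right₀ h0).1 hm.symm)
    have h10 : M 1 0 = 0 := (by tauto : M 1 0 = 0 ∨ M 1 0 = c * M 1 0).elim id z
    have h11 : M 1 1 = 0 := (by tauto : M 1 1 = 0 ∨ M 1 1 = c * M 1 1).elim id z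
    have h20 : M 2 0 = 0 := (by tauto : M 2 0 = 0 ∨ M 2 0 = c * M 2 0).elim id z
    have h21 : M 2 1 = 0 := (by tauto : M 2 1 = 0 ∨ M 2 1 = c * M 2 1).elim id z
    rw [h10, h11, h20, h21] at hM
    simp at hM

/-- The centralizer of an involution of `PSL₃(4)` is a 2-group. -/
theorem pow_four_of_comm (hF : Fintype.card F = 4) {x k : Matrix.ProjectiveSpecialLinearGroup (Fin 3) F}
    (hx : orderOf x = 2) (h : k * x = x * k) : k ^ 4 = 1 := by
  obtain ⟨A, h₀, rfl, hA⟩ := Cfsg.Agent.S0820.exists_conj_std hF x hx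
  set a := AutPSL.proj (Fin 3) F A
  set t := AutPSL.proj (Fin 3) F (stdT F)
  have hAt : AutPSL.proj (Fin 3) F h₀ * a = a * t := by
    rw [← map_mul, ← map_mul]
    refine congrArg _ (Subtype.ext ?_)
    rw [Matrix.SpecialLinearGroup.coe_mul, Matrix.SpecialLinearGroup.coe_mul, hA]
    congr 1
    ext i j
    fin_cases i <;> fin_cases j <;> simp [stdT]
  obtain ⟨g, hg⟩ := AutPSL.proj_surjective (a⁻¹ * k * a)
  have ht : t = a⁻¹ * AutPSL.proj (Fin 3) F h₀ * a := by rw [mul_assoc, hAt, inv_mul_cancel_left]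
  have h' : k * AutPSL.proj (Fin 3) F h₀ = AutPSL.proj (Fin 3) F h₀ * k := h
  have key := pow_four_std hF (g := g) (by
    rw [hg]
    show a⁻¹ * k * a * t = t * (a⁻¹ * k * a)
    rw [ht]
    calc a⁻¹ * k * a * (a⁻¹ * AutPSL.proj (Fin 3) F h₀ * a) = a⁻¹ * (k * AutPSL.proj (Fin 3) F h₀) * a := by group
      _ = _ := by rw [h']; group)
  rw [hg, show (4 : ℕ) = 2 + 2 from rfl, pow_add, pow_two] at key
  calc k ^ 4 = k * k * k * k := by simp [pow_succ]
    _ = a * (a⁻¹ * k * a * (a⁻¹ * k * a) * (a⁻¹ * k * a * (a⁻¹ * k * a))) * a⁻¹ := by group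
    _ = 1 := by rw [key, mul_one, mul_inv_cancel]

/-- `PGL₃(4)` and `PSL₃(4)` have the same automorphism group. -/
theorem nonempty_aut_pgl (hF : Fintype.card F = 4)
    [IsSimpleGroup (Matrix.ProjectiveSpecialLinearGroup (Fin 3) F)]
    (hna : ¬ IsMulCommutative (Matrix.ProjectiveSpecialLinearGroup (Fin 3) F)) :
    Nonempty (MulAut (Matrix.ProjectiveSpecialLinearGroup (Fin 3) F) ≃*
      MulAut (GL (Fin 3) F ⧸ Subgroup.center (GL (Fin 3) F))) := by
  classical
  set P := Matrix.ProjectiveSpecialLinearGroup (Fin 3) F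
  set M := MulAut P
  haveI : Finite M := Nat.finite_of_card_ne_zero (by rw [card_aut hF]; norm_num)
  have hcinj : Function.Injective (MulAut.conj (G := P)) := by
    refine (MonoidHom.ker_eq_bot_iff _).1
      ((IsSimpleGroup.eq_bot_or_eq_top_of_normal _ inferInstance).resolve_right fun h => hna ⟨⟨fun a b => ?_⟩⟩)
    have h1 : MulAut.conj a = 1 := MonoidHom.mem_ker.1 (h ▸ Subgroup.mem_top _)
    have h2 := DFunLike.congr_fun h1 b
    rwa [MulAut.conj_apply, MulAut.one_apply, mul_inv_eq_iff_eq_mul] at h2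
  let ω : GL (Fin 3) F →* M :=
    MonoidHom.mk' (fun g => AutPSL.semi g (RingEquiv.refl F)) fun g h => (AutPSL.semi_refl_mul (m := 1) g h).symm
  set J : Subgroup M := ω.range
  have hker : ω.ker = Subgroup.center (GL (Fin 3) F) := by
    ext g
    rw [MonoidHom.mem_ker]
    exact (AutPSL.semi_eq_one_iff (m := 1)).trans ⟨fun h => h.2, fun h => ⟨rfl, h⟩⟩
  have eJ : (GL (Fin 3) F ⧸ Subgroup.center (GL (Fin 3) F)) ≃* J :=
    (QuotientGroup.quotientMulEquivOfEq hker.symm).trans (QuotientGroup.quotientKerEquivRange ω)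
  have hJ : Nat.card J = 60480 := by
    rw [← card_pgl hF, ← Nat.card_congr eJ.toEquiv]
    rfl
  haveI hJn : J.Normal := by
    refine ⟨fun j hj m => ?_⟩
    obtain ⟨h, rfl⟩ := hj
    have hs : ∀ (g : GL (Fin 3) F) (σ : F ≃+* F) (h : GL (Fin 3) F),
        AutPSL.semi g σ * ω h * (AutPSL.semi g σ)⁻¹ ∈ J := fun g σ h =>
      ⟨g * Matrix.GeneralLinearGroup.map (σ : F →+* F) h * g⁻¹, by
        rw [eq_mul_inv_iff_mul_eq]
        show AutPSL.semi _ _ * _ = _ * AutPSL.semi _ _
        rw [AutPSL.semi_mul, AutPSL.semi_mul]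
        congr 1
        simp [mul_assoc]⟩
    rcases AutPSL.exists_semi_or (m := 1) m with ⟨g, σ, hm⟩ | ⟨g, σ, hm⟩
    · exact hm ▸ hs g σ h
    · have e : AutPSL.invT * ω h * AutPSL.invT⁻¹ = ω (AutPSL.ctr h) := by
        rw [mul_inv_eq_iff_eq_mul]
        exact AutPSL.invT_semi h _
      rw [hm, show AutPSL.semi g σ * AutPSL.invT * ω h * (AutPSL.semi g σ * AutPSL.invT)⁻¹ =
        AutPSL.semi g σ * (AutPSL.invT * ω h * AutPSL.invT⁻¹) * (AutPSL.semi g σ)⁻¹ by group, e]
      exact hs g σ _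
  have hIJ : ∀ x : P, MulAut.conj x ∈ J := by
    intro x
    obtain ⟨s, rfl⟩ := AutPSL.proj_surjective (n := Fin 3) (F := F) x
    refine ⟨Matrix.SpecialLinearGroup.toGL s, MulEquiv.ext fun p => ?_⟩
    obtain ⟨t, rfl⟩ := AutPSL.proj_surjective (n := Fin 3) (F := F) p
    show AutPSL.semi _ _ (AutPSL.proj _ _ t) = _
    rw [MulAut.conj_apply, ← map_inv, ← map_mul, ← map_mul]
    refine AutPSL.semi_proj_eq _ _ ?_
    simp [Matrix.inv_def]
  have hmc : ∀ (m : M) (x : P), m * MulAut.conj x * m⁻¹ = MulAut.conj (m x) := fun m x => by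
    rw [mul_inv_eq_iff_eq_mul]
    exact AutPSL.mul_aut_conj (m := 1) m x
  have hcent : ∀ m : M, (∀ x : P, m * MulAut.conj x * m⁻¹ = MulAut.conj x) → m = 1 := fun m h =>
    MulEquiv.ext fun x => hcinj ((hmc m x).symm.trans (h x))
  let Ψ : M →* MulAut J := MulAut.conjNormal
  let c : P →* J := (MulAut.conj (G := P)).codRestrict J hIJ
  set I : Subgroup J := c.range
  have hΨc : ∀ (m : M) (x : P), Ψ m (c x) = c (m x) := fun m x => Subtype.ext (hmc m x)
  haveI : I.Normal := by
    refine ⟨fun i hi j => ?_⟩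
    obtain ⟨x, rfl⟩ := hi
    exact ⟨(j : M) x, Subtype.ext (hmc (j : M) x).symm⟩
  have hI : Nat.card I = 20160 := by
    rw [← card_psl hF]
    exact (Nat.card_congr (MonoidHom.ofInjective (f := c) fun a b h => hcinj (congrArg Subtype.val h)).toEquiv).symm
  have hidx : I.index = 3 := by
    have := I.card_mul_index
    rw [hI, hJ] at this
    omega
  have hstab : ∀ (α : MulAut J) (x : P), ∃ y, c y = α (c x) := by
    intro α x
    let f : P →* J ⧸ I := (QuotientGroup.mk' I).comp (α.toMonoidHom.comp c)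
    have hf : f.ker = ⊤ := by
      refine (IsSimpleGroup.eq_bot_or_eq_top_of_normal _ inferInstance).resolve_left fun hb => ?_
      have := Nat.card_le_card_of_injective f ((MonoidHom.ker_eq_bot_iff f).1 hb)
      rw [card_psl hF, ← Subgroup.index_eq_card, hidx] at this
      omega
    exact (QuotientGroup.eq_one_iff _).1 (MonoidHom.mem_ker.1 (hf ▸ Subgroup.mem_top x : x ∈ f.ker))
  have hinj : Function.Injective Ψ := by
    rw [injective_iff_map_eq_one]
    intro m hm
    refine hcent m fun x => ?_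
    have := congrArg Subtype.val (DFunLike.congr_fun hm (c x))
    exact this
  have hsurj : Function.Surjective Ψ := by
    intro α
    choose r hr using hstab
    have hcinj' : Function.Injective c := fun a b h => hcinj (congrArg Subtype.val h)
    let a : P →* P := MonoidHom.mk' (r α) fun x y => hcinj' (by rw [map_mul, hr, hr, hr, map_mul, map_mul])
    have ha : Function.Injective a := fun x y h => hcinj' (α.injective (by
      rw [← hr, ← hr]; exact congrArg c h))
    let m : M := MulEquiv.ofBijective a (Finite.injective_iff_bijective.1 ha)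
    refine ⟨m, MulEquiv.ext fun j => ?_⟩
    have hfix : ∀ x : P, Ψ m (c x) = α (c x) := fun x => (hΨc m x).trans (hr α x)
    set β : MulAut J := (Ψ m)⁻¹ * α
    have hβ : ∀ x : P, β (c x) = c x := fun x => by
      rw [MulAut.mul_apply, ← hfix, ← MulAut.mul_apply, inv_mul_cancel, MulAut.one_apply]
    have hβj : β j = j := by
      have h1 : ((j⁻¹ * β j : J) : M) = 1 := by
        refine hcent _ fun x => ?_
        have e2 : j * c x * j⁻¹ = c ((j : M) x) := Subtype.ext (hmc (j : M) x)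
        have e3 := congrArg β e2
        rw [map_mul, map_mul, map_inv, hβ, hβ, ← e2] at e3
        have e4 : j⁻¹ * β j * c x * (j⁻¹ * β j)⁻¹ = c x := by
          rw [_root_.mul_inv_rev, inv_inv, show j⁻¹ * β j * c x * ((β j)⁻¹ * j) = j⁻¹ * (β j * c x * (β j)⁻¹) * j by group,
            e3]
          group
        exact congrArg Subtype.val e4
      have h2 : j⁻¹ * β j = 1 := Subtype.ext h1
      exact (inv_mul_eq_one.1 h2).symm
    calc Ψ m j = Ψ m (β j) := by rw [hβj]
      _ = α j := by rw [← MulAut.mul_apply, mul_inv_cancel_left]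
  exact ⟨(MulEquiv.ofBijective Ψ ⟨hinj, hsurj⟩).trans (MulAut.congr eJ.symm)⟩

end Cfsg.Agent.PGLThreeFourType
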