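import Cfsg.Agent.Lib.PGLThreeFourType.Transfer
import Cfsg.Agent.Lib.PGLThreeFourType.Model
import Cfsg.Agent.Lib.L34Sylow.Simple
import Cfsg.Agent.Lib.Linear.GenTools

/-!
# Involution centraliser `(D₈ * Q₈).S₄`: identification

* `Data.nonempty_equiv` : the nonsolvable groups are `Aut PGL₃(4)`
-/

set_option autoImplicit false
set_option linter.style.haveILetI false

namespace Cfsg.Agent.PGLThreeFourType

open Cfsg Subgroup OrderJTwo
open Cfsg.Agent.SU32 (K4)

variable {G : Type*} [Group G] [Finite G]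

namespace Data

variable (D : Data G)

include D in
theorem nonempty_equiv (hns : ¬ Group.IsSolvable G) {F : Type*} [Field F] [Fintype F]
    (hF : Fintype.card F = 4) :
    Nonempty (G ≃* MulAut (GL (Fin 3) F ⧸ Subgroup.center (GL (Fin 3) F))) := by
  classical
  haveI : Fact (Nat.Prime 2) := ⟨Nat.prime_two⟩
  obtain ⟨g, hg⟩ := D.exists_mover hns
  obtain ⟨N, hN, hsimple, hna, hC, hT⟩ := D.exists_socle hns hg
  haveI := hN
  haveI := hsimple
  obtain ⟨PN, hPN⟩ := D.sylow_N hns hg hsimple hna hT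
  obtain ⟨f, hf, hfr, -⟩ := D.exists_hom_T hg
  have hfN : ∀ x, f x ∈ N := fun x => hT (hfr ▸ ⟨x, rfl⟩)
  let Fr : L34Sylow.Frm N :=
    { S := PN
      ι := f.codRestrict N hfN
      inj := fun a b h => hf (congrArg Subtype.val h)
      range_eq := by
        rw [hPN]
        ext x
        rw [mem_subgroupOf, ← hfr]
        exact ⟨fun ⟨a, ha⟩ => ⟨a, congrArg Subtype.val ha⟩, fun ⟨a, ha⟩ => ⟨a, Subtype.ext ha⟩⟩ }
  have h2 : 2 ∣ Nat.card N :=
    ((by norm_num : 2 ∣ 64).trans (Fr.card_S ▸ Subgroup.card_subgroup_dvd_card (Fr.S : Subgroup N)))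
  obtain ⟨e₀⟩ := Fr.nonempty_psl (L34Sylow.pPrimeCore_eq_bot_of_simple hsimple h2)
  let e : N ≃* Matrix.ProjectiveSpecialLinearGroup (Fin 3) F :=
    e₀.trans (Linear.pslMapEquiv (FiniteField.ringEquivOfCardEq (by rw [hF, SU32.K4.card_eq])))
  haveI hP : IsSimpleGroup (Matrix.ProjectiveSpecialLinearGroup (Fin 3) F) :=
    IsSimpleGroup.isSimpleGroup_of_surjective e.toMonoidHom e.surjective
  have hnaP : ¬ IsMulCommutative (Matrix.ProjectiveSpecialLinearGroup (Fin 3) F) := fun h =>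
    hna ⟨⟨fun a b => e.injective (by rw [map_mul, map_mul, h.is_comm.comm])⟩⟩
  obtain ⟨eA⟩ := nonempty_aut_pgl hF hnaP
  -- `N ∩ C(z)` has order 64 and `G = N C(z)`
  have hzT : D.z ∈ D.T := D.B_le_T (D.V0_le_B (D.mem_V0.2 (Or.inr (Or.inl rfl))))
  let zN : N := ⟨D.z, hT hzT⟩
  have hzN : orderOf (e zN) = 2 := by rw [e.orderOf_eq, Subgroup.orderOf_mk, D.orderOf_z]
  set CN : Subgroup N := centralizer ({zN} : Set N)
  have hCNp : IsPGroup 2 CN := fun k => ⟨2, by
    refine Subtype.ext (e.injective ?_)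
    rw [Subgroup.coe_pow, map_pow, Subgroup.coe_one, map_one]
    refine pow_four_of_comm hF hzN ?_
    rw [← map_mul, ← map_mul, mem_centralizer_singleton_iff.1 k.2]⟩
  have hle : (PN : Subgroup N) ≤ CN := fun x hx => by
    rw [hPN, mem_subgroupOf] at hx
    exact mem_centralizer_singleton_iff.2 (Subtype.ext (D.T_le_C hx))
  have hCN : Nat.card CN = 64 := by rw [PN.is_maximal' hCNp hle]; exact Fr.card_S
  set C : Subgroup G := centralizer ({D.z} : Set G)
  have hNC : Nat.card (N.subgroupOf C) = 64 := by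
    rw [← hCN]
    exact Nat.card_congr
      { toFun := fun x => ⟨⟨x.1.1, x.2⟩, mem_centralizer_singleton_iff.2 (Subtype.ext (D.mem_C.1 x.1.2))⟩
        invFun := fun x => ⟨⟨x.1.1, D.mem_C.2 (congrArg Subtype.val (mem_centralizer_singleton_iff.1 x.2))⟩, x.1.2⟩
        left_inv := fun _ => rfl
        right_inv := fun _ => rfl }
  let π : C →* G ⧸ N := (QuotientGroup.mk' N).comp C.subtype
  have hπ : Function.Surjective π := by
    intro q
    obtain ⟨x, rfl⟩ := QuotientGroup.mk'_surjective N q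
    let y : N := ⟨x * D.z * x⁻¹, hN.conj_mem _ zN.2 x⟩
    have hy : orderOf (e y) = 2 := by
      rw [e.orderOf_eq, Subgroup.orderOf_mk, ← MulAut.conj_apply, MulEquiv.orderOf_eq, D.orderOf_z]
    obtain ⟨p, hp⟩ := isConj_iff.1 (Cfsg.Agent.S0820.result hF (e zN) (e y) hzN hy)
    obtain ⟨n, rfl⟩ := e.surjective p
    rw [← map_inv, ← map_mul, ← map_mul] at hp
    have hn : (n : G) * D.z * (n : G)⁻¹ = x * D.z * x⁻¹ := congrArg Subtype.val (e.injective hp)
    refine ⟨⟨(n : G)⁻¹ * x, D.mem_C.2 ?_⟩, ?_⟩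
    · calc (n : G)⁻¹ * x * D.z = (n : G)⁻¹ * (x * D.z * x⁻¹) * x := by group
        _ = _ := by rw [← hn]; group
    · show (QuotientGroup.mk' N) ((n : G)⁻¹ * x) = _
      rw [map_mul, map_inv, show (QuotientGroup.mk' N) (n : G) = 1 from (QuotientGroup.eq_one_iff (n : G)).2 n.2,
        inv_one, one_mul]
  have hker : π.ker = N.subgroupOf C := by
    ext x
    rw [MonoidHom.mem_ker, mem_subgroupOf]
    exact QuotientGroup.eq_one_iff _
  have hidx : N.index = 12 := by
    have h1 := (N.subgroupOf C).card_mul_index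
    rw [hNC, D.card_C, ← hker, Subgroup.index_ker, MonoidHom.range_eq_top.2 hπ, Subgroup.card_top,
      ← Subgroup.index_eq_card] at h1
    omega
  have hG : Nat.card G = 241920 := by
    rw [← N.card_mul_index, hidx, Nat.card_congr e.toEquiv, card_psl hF]
  let Φ : G →* MulAut (Matrix.ProjectiveSpecialLinearGroup (Fin 3) F) :=
    (MulAut.congr e).toMonoidHom.comp (MulAut.conjNormal (H := N))
  have hΦ : ∀ x p, Φ x p = e (MulAut.conjNormal x (e.symm p)) := fun x p => rfl
  have hΦinj : Function.Injective Φ := by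
    rw [injective_iff_map_eq_one]
    intro x hx
    rw [← Subgroup.mem_bot, ← hC, Subgroup.mem_centralizer_iff]
    intro k hk
    have h1 := hΦ x (e ⟨k, hk⟩)
    rw [hx, MulAut.one_apply, e.symm_apply_apply] at h1
    have h2 := congrArg Subtype.val (e.injective h1)
    rw [MulAut.conjNormal_apply] at h2
    exact (mul_inv_eq_iff_eq_mul.1 h2.symm).symm
  haveI : Finite (MulAut (Matrix.ProjectiveSpecialLinearGroup (Fin 3) F)) :=
    Nat.finite_of_card_ne_zero (by rw [card_aut hF]; norm_num)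
  have hΦbij : Function.Bijective Φ :=
    (Nat.bijective_iff_injective_and_card Φ).2 ⟨hΦinj, hG.trans (card_aut hF).symm⟩
  exact ⟨(MulEquiv.ofBijective Φ hΦbij).trans eA⟩

end Data

end Cfsg.Agent.PGLThreeFourType
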