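import Cfsg.Agent.Lib.OrderJTwo.Quaternionic
import Cfsg.Agent.Lib.PGroup.Extraspecial
import Cfsg.Agent.Lib.JTwoType.Setup

/-!
# The group `2^(1+4)` of minus type

* `exists_invSet`, `invSet_card`: five pairs of non-central involutions
* `invSet_comm`: commuting ones differ by `z`
-/

set_option autoImplicit false
set_option linter.unusedSectionVars false
set_option linter.style.haveILetI false

namespace Cfsg.Agent.PGLThreeFourType

open Cfsg Subgroup OrderJTwo
open scoped commutatorElement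

variable {G : Type*} [Group G] [Finite G] {Q : Subgroup G} {z : G}

theorem exists_invSet (hQ : Q32 Q z) : ∃ u, u ∈ invSet Q z := by
  classical
  have hz : z * z = 1 := hQ.sqz
  obtain ⟨x, hx, hx1, hxz⟩ : ∃ x ∈ Q, x ≠ 1 ∧ x ≠ z := by
    by_contra h
    push Not at h
    have hsub : (Q : Set G) ⊆ {1, z} := fun x hx => by
      rcases em (x = 1) with h1 | h1
      · exact Or.inl h1
      · exact Or.inr (h x hx h1)
    have := Set.ncard_le_ncard hsub (Set.toFinite _)
    rw [← Nat.card_coe_set_eq, SetLike.coe_sort_coe, hQ.card, Set.ncard_pair (Ne.symm hQ.zne)] at this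
    omega
  by_contra hno
  push Not at hno
  have hsq : ∀ y ∈ Q, y ≠ 1 → y ≠ z → y * y = z := fun y hy h1 h2 =>
    (hQ.sq y hy).resolve_left fun h => hno y ⟨hy, h, h1, h2⟩
  -- the centraliser of `x` is the cyclic group it generates
  let U : Subgroup G := Q ⊓ Subgroup.centralizer {x}
  have hUmem : ∀ y, y ∈ U ↔ y ∈ Q ∧ x * y = y * x := fun y => by
    simp only [U, Subgroup.mem_inf, Subgroup.mem_centralizer_iff, Set.mem_singleton_iff, forall_eq]
  have hsub : (U : Set G) ⊆ {1, z, x, x * z} := by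
    intro y hy
    obtain ⟨hyQ, hxy⟩ := (hUmem y).1 hy
    by_cases h1 : y = 1
    · exact Or.inl h1
    by_cases h2 : y = z
    · exact Or.inr (Or.inl h2)
    have e : x * y * (x * y) = 1 := by
      rw [mul_assoc, ← mul_assoc y, ← hxy, mul_assoc x y y, hsq y hyQ h1 h2, ← mul_assoc, hsq x hx hx1 hxz, hz]
    have hxy' : x * y = 1 ∨ x * y = z := by
      by_contra h
      push Not at h
      exact hno _ ⟨mul_mem hx hyQ, e, h.1, h.2⟩
    have hxinv : x⁻¹ = x * z := inv_eq_of_mul_eq_one_right (by rw [← mul_assoc, hsq x hx hx1 hxz, hz])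
    rcases hxy' with h | h
    · exact Or.inr (Or.inr (Or.inr ((eq_inv_of_mul_eq_one_right h).trans hxinv)))
    · refine Or.inr (Or.inr (Or.inl ?_))
      rw [eq_inv_mul_of_mul_eq h, hxinv, mul_assoc, hz, mul_one]
  have hcard : Nat.card Q ≤ 2 * Nat.card U := by
    refine card_le_two_mul Q U inf_le_left fun a ha b hb haU hbU => (hUmem _).2 ⟨mul_mem ha hb, ?_⟩
    have ha' := (hQ.comm x hx a ha).resolve_left fun h => haU ((hUmem a).2 ⟨ha, h⟩)
    have hb' := (hQ.comm x hx b hb).resolve_left fun h => hbU ((hUmem b).2 ⟨hb, h⟩)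
    rw [← mul_assoc, ha', mul_assoc (a * x) z b, ← hQ.zcomm b hb, ← mul_assoc, mul_assoc a x b, hb']
    simp only [mul_assoc, hz, mul_one]
  have h4 : Nat.card U ≤ 4 := by
    rw [← SetLike.coe_sort_coe, Nat.card_coe_set_eq]
    refine (Set.ncard_le_ncard hsub (Set.toFinite _)).trans ?_
    refine (Set.ncard_insert_le _ _).trans ?_
    have h1 := Set.ncard_insert_le z ({x, x * z} : Set G)
    have h2 := Set.ncard_insert_le x ({x * z} : Set G)
    rw [Set.ncard_singleton] at h2
    omega
  rw [hQ.card] at hcard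
  omega

theorem invSet_comm (hQ : Q32 Q z)
    (hminus : ∀ A : Subgroup Q, Cfsg.IsElementaryAbelian 2 A → Nat.card A ≠ 8) :
    ∀ u ∈ invSet Q z, ∀ w ∈ invSet Q z, u * w = w * u → w = u ∨ w = u * z := by
  classical
  intro u hu w hw huw
  by_contra hne
  push Not at hne
  have hwW : w ∉ four hQ hu := by
    rintro (h | h | h | h)
    · exact hw.2.2.1 h
    · exact hw.2.2.2 h
    · exact hne.1 h
    · exact hne.2 h
  set W := four hQ hu with hWdef
  have hWQ : W ≤ Q := by
    rintro a (rfl | rfl | rfl | rfl)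
    · exact one_mem Q
    · exact hQ.zmem
    · exact hu.1
    · exact mul_mem hu.1 hQ.zmem
  have hW2 : ∀ a ∈ W, a * a = 1 := by
    rintro a (rfl | rfl | rfl | rfl)
    · exact one_mul 1
    · exact hQ.sqz
    · exact hu.2.1
    · exact (mul_mem_invSet hQ hu).2.1
  have hWw : ∀ a ∈ W, a * w = w * a := by
    rintro a (rfl | rfl | rfl | rfl)
    · rw [one_mul, mul_one]
    · exact (hQ.zcomm w hw.1).symm
    · exact huw
    · rw [mul_assoc, ← hQ.zcomm w hw.1, ← mul_assoc, huw, mul_assoc]
  let A : Subgroup G :=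
    { carrier := {a | a ∈ W ∨ w * a ∈ W}
      one_mem' := Or.inl (one_mem W)
      mul_mem' := by
        intro a b ha hb
        rcases ha with ha | ha <;> rcases hb with hb | hb
        · exact Or.inl (mul_mem ha hb)
        · right
          rw [← mul_assoc, ← hWw a ha, mul_assoc]
          exact mul_mem ha hb
        · right
          rw [← mul_assoc]
          exact mul_mem ha hb
        · left
          obtain ⟨a', ha', rfl⟩ : ∃ a' ∈ W, a = w * a' :=
            ⟨w * a, ha, by rw [← mul_assoc, hw.2.1, one_mul]⟩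
          have e : w * a' * b = a' * (w * b) := by rw [← hWw a' ha', mul_assoc]
          rw [e]
          exact mul_mem ha' hb
      inv_mem' := by
        intro a ha
        rcases ha with ha | ha
        · exact Or.inl (inv_mem ha)
        · right
          have h' := inv_mem ha
          have e : w * a⁻¹ = (w * a)⁻¹ := by
            obtain ⟨a', ha', rfl⟩ : ∃ a' ∈ W, a = w * a' :=
              ⟨w * a, ha, by rw [← mul_assoc, hw.2.1, one_mul]⟩
            rw [mul_inv_rev w a', ← mul_assoc, ← mul_assoc w w a', hw.2.1, one_mul,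
              inv_eq_of_mul_eq_one_right (hW2 a' ha'), inv_eq_of_mul_eq_one_right hw.2.1, ← hWw a' ha',
              mul_assoc, hw.2.1, mul_one]
          rw [e]; exact h' }
  have hAcarrier : (A : Set G) = (W : Set G) ∪ (fun a => w * a) '' (W : Set G) := by
    ext a
    constructor
    · rintro (h | h)
      · exact Or.inl h
      · exact Or.inr ⟨w * a, h, by show w * (w * a) = a; rw [← mul_assoc, hw.2.1, one_mul]⟩
    · rintro (h | ⟨b, hb, rfl⟩)
      · exact Or.inl h
      · right
        show w * (w * b) ∈ W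
        rw [← mul_assoc, hw.2.1, one_mul]
        exact hb
  have hA8 : Nat.card A = 8 := by
    rw [← SetLike.coe_sort_coe, Nat.card_coe_set_eq, hAcarrier, Set.ncard_union_eq ?_ (Set.toFinite _) (Set.toFinite _),
      Set.ncard_image_of_injective _ (mul_right_injective w), ← Nat.card_coe_set_eq, SetLike.coe_sort_coe,
      card_four hQ hu]
    rw [Set.disjoint_left]
    rintro a ha ⟨b, hb, rfl⟩
    apply hwW
    have := mul_mem (show w * b ∈ W from ha) (inv_mem hb)
    rwa [mul_inv_cancel_right] at this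
  have hAQ : A ≤ Q := by
    rintro a (ha | ha)
    · exact hWQ ha
    · have := mul_mem hw.1 (hWQ ha)
      rwa [← mul_assoc, hw.2.1, one_mul] at this
  have hsq : ∀ a ∈ A, a * a = 1 := by
    rintro a (ha | ha)
    · exact hW2 a ha
    · obtain ⟨b, hb, rfl⟩ : ∃ b ∈ W, a = w * b :=
        ⟨w * a, ha, by rw [← mul_assoc, hw.2.1, one_mul]⟩
      rw [mul_assoc, ← mul_assoc b, hWw b hb, mul_assoc w b b, hW2 b hb, mul_one, hw.2.1]
  have hcomm : ∀ a ∈ A, ∀ b ∈ A, a * b = b * a := by
    intro a ha b hb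
    have e := inv_eq_of_mul_eq_one_right (hsq _ (mul_mem ha hb))
    rw [mul_inv_rev, inv_eq_of_mul_eq_one_right (hsq a ha), inv_eq_of_mul_eq_one_right (hsq b hb)] at e
    exact e.symm
  refine hminus (A.subgroupOf Q) ⟨isMulCommutative_iff.mpr fun a b => Subtype.ext (Subtype.ext
    (hcomm _ a.2 _ b.2)), fun a ha => Subtype.ext ?_⟩ ?_
  · rw [pow_two]; exact hsq _ ha
  · rw [Nat.card_congr (subgroupOfEquivOfLe hAQ).toEquiv, hA8]

theorem invSet_card (hQ : Q32 Q z)
    (hcomm2 : ∀ u ∈ invSet Q z, ∀ w ∈ invSet Q z, u * w = w * u → w = u ∨ w = u * z) :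
    (invSet Q z).ncard = 10 := by
  classical
  obtain ⟨u, hu⟩ := exists_invSet hQ
  let U : Subgroup G := Q ⊓ Subgroup.centralizer {u}
  have hUmem : ∀ x, x ∈ U ↔ x ∈ Q ∧ u * x = x * u := fun x => by
    simp only [U, Subgroup.mem_inf, Subgroup.mem_centralizer_iff, Set.mem_singleton_iff, forall_eq]
  have hout : ∀ x ∈ Q, x ∉ U → u * x = x * u * z := fun x hx hxU =>
    (hQ.comm u hu.1 x hx).resolve_left fun h => hxU ((hUmem x).mpr ⟨hx, h⟩)
  have hU : Nat.card U = 16 := by
    have h1 := card_le_two_mul Q U inf_le_left (by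
      intro a ha b hb haU hbU
      refine (hUmem _).mpr ⟨mul_mem ha hb, ?_⟩
      rw [← mul_assoc, hout a ha haU, mul_assoc (a * u) z b, ← hQ.zcomm b hb, ← mul_assoc, mul_assoc a u b,
        hout b hb hbU]
      simp only [mul_assoc, hQ.sqz, mul_one])
    have hne : Nat.card U ≠ 32 := fun h => by
      have e : U = Q := Subgroup.eq_of_le_of_card_ge inf_le_left (by rw [h, hQ.card])
      rcases hQ.cen u hu.1 (fun y hy => ((hUmem y).mp (e ▸ hy)).2) with h | h
      · exact hu.2.2.1 h
      · exact hu.2.2.2 h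
    have hd := Subgroup.card_dvd_of_le (inf_le_left : U ≤ Q)
    rw [hQ.card] at hd h1
    obtain ⟨i, hi, hi'⟩ := (Nat.dvd_prime_pow Nat.prime_two).mp (show Nat.card U ∣ 2 ^ 5 from hd)
    rw [hi'] at h1 hne ⊢
    interval_cases i <;> simp_all
  -- the involutions outside `U`
  set O := (Q : Set G) \ U with hO
  have hOcard : O.ncard = 16 := by
    have := Set.ncard_sdiff_add_ncard_of_subset (s := (U : Set G)) (t := (Q : Set G)) (inf_le_left : U ≤ Q)
    rw [← Nat.card_coe_set_eq (U : Set G), ← Nat.card_coe_set_eq (Q : Set G), SetLike.coe_sort_coe,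
      SetLike.coe_sort_coe, hU, hQ.card, ← hO] at this
    omega
  set O1 := {x | x ∈ O ∧ x * x = 1}
  set O2 := {x | x ∈ O ∧ x * x = z}
  have hflip : ∀ x ∈ O, x * u ∈ O ∧ (x * u) * (x * u) = x * x * z := by
    rintro x ⟨hx, hxU⟩
    refine ⟨⟨mul_mem hx hu.1, fun h => hxU ?_⟩, ?_⟩
    · have huU : u ∈ U := (hUmem u).mpr ⟨hu.1, rfl⟩
      have := mul_mem h (inv_mem huU)
      simpa using this
    · calc (x * u) * (x * u) = x * (u * x) * u := by group
        _ = x * (x * u * z) * u := by rw [hout x hx hxU]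
        _ = x * x * (u * (z * u)) := by group
        _ = x * x * z := by rw [← hQ.zcomm u hu.1, ← mul_assoc u u z, hu.2.1, one_mul]
  have hO12 : O1.ncard = O2.ncard := by
    have : O2 = (fun x => x * u) '' O1 := by
      ext x
      constructor
      · rintro ⟨hx, hx2⟩
        obtain ⟨h1, h2⟩ := hflip x hx
        exact ⟨x * u, ⟨h1, by rw [h2, hx2, hQ.sqz]⟩, by simp [mul_assoc, hu.2.1]⟩
      · rintro ⟨y, ⟨hy, hy2⟩, rfl⟩
        exact ⟨(hflip y hy).1, by rw [(hflip y hy).2, hy2, one_mul]⟩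
    rw [this, Set.ncard_image_of_injective _ (mul_left_injective u)]
  have hO16 : O1.ncard + O2.ncard = 16 := by
    rw [← hOcard, ← Set.ncard_union_eq ?_ (Set.toFinite _) (Set.toFinite _)]
    · congr 1
      ext x
      constructor
      · rintro (h | h) <;> exact h.1
      · intro hx; exact (hQ.sq x hx.1).imp (fun h => ⟨hx, h⟩) fun h => ⟨hx, h⟩
    · rw [Set.disjoint_left]
      rintro x ⟨-, h1⟩ ⟨-, h2⟩
      exact hQ.zne (h2.symm.trans h1)
  -- commuting involutions
  have huU : u ∈ U := (hUmem _).mpr ⟨hu.1, rfl⟩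
  have hzU : u * z ∈ U := (hUmem _).mpr ⟨mul_mem hu.1 hQ.zmem, by rw [mul_assoc u z u, ← hQ.zcomm u hu.1]⟩
  have hdec : invSet Q z = O1 ∪ {u, u * z} := by
    ext x
    constructor
    · intro hx
      by_cases hxU : x ∈ U
      · exact Or.inr (hcomm2 u hu x hx ((hUmem x).1 hxU).2)
      · exact Or.inl ⟨⟨hx.1, hxU⟩, hx.2.1⟩
    · rintro (⟨⟨hx, hxU⟩, hx2⟩ | h | h)
      · exact ⟨hx, hx2, fun h => hxU (h ▸ one_mem U),
          fun h => hxU (h ▸ (hUmem z).mpr ⟨hQ.zmem, hQ.zcomm u hu.1⟩)⟩
      · rw [h]; exact hu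
      · rw [Set.mem_singleton_iff.mp h]; exact mul_mem_invSet hQ hu
  have hpair : ({u, u * z} : Set G).ncard = 2 := Set.ncard_pair fun h => hQ.zne (by simpa using h.symm)
  have hd1 : Disjoint O1 ({u, u * z} : Set G) := Set.disjoint_left.mpr fun x hx hx' => by
    rcases hx' with h | h
    · exact hx.1.2 (h ▸ huU)
    · exact hx.1.2 (Set.mem_singleton_iff.mp h ▸ hzU)
  rw [hdec, Set.ncard_union_eq hd1 (Set.toFinite _) (Set.toFinite _), hpair]
  omega

end Cfsg.Agent.PGLThreeFourType
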