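import Cfsg.Agent.Lib.PGLThreeFourType.MinusType
import Cfsg.Prelude.Def_CaseTheorems
import Cfsg.Agent.Lib.JTwoType.Setup

/-!
# Involution centraliser `(D₈ * Q₈).S₄`: setup

* `Data`: `C(z)` acts on the five pairs of non-central involutions of `Q` as the stabiliser of the
  last one in the symmetric group, with kernel `Q`
* `exists_data`: such data from the hypotheses of the statement
-/

set_option autoImplicit false
set_option linter.unusedSectionVars false
set_option linter.style.haveILetI false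

namespace Cfsg.Agent.PGLThreeFourType

open Cfsg Subgroup OrderJTwo
open JTwoType (eq_or_of_pair exists_eq_mul)
open scoped commutatorElement

variable {G : Type*} [Group G] [Finite G]

/-- The data attached to an involution `z`. -/
structure Data (G : Type*) [Group G] where
  z : G
  Q : Subgroup G
  u : Fin 5 → G
  φ : Subgroup.centralizer ({z} : Set G) →* Equiv.Perm (Fin 5)
  hQ : Q32 Q z
  le : Q ≤ Subgroup.centralizer ({z} : Set G)
  norm : ∀ g, g * z = z * g → ∀ x ∈ Q, g * x * g⁻¹ ∈ Q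
  self : ∀ g : G, (∀ x ∈ Q, g * x = x * g) → g ∈ Q
  comm2 : ∀ a ∈ invSet Q z, ∀ b ∈ invSet Q z, a * b = b * a → b = a ∨ b = a * z
  card10 : (invSet Q z).ncard = 10
  u_mem : ∀ i, u i ∈ invSet Q z
  u_cover : ∀ x ∈ invSet Q z, ∃ i, x = u i ∨ x = u i * z
  u_sep : ∀ i j, (u i = u j ∨ u i = u j * z) → i = j
  act : ∀ (g : Subgroup.centralizer ({z} : Set G)) (i : Fin 5),
    (g : G) * u i * (g : G)⁻¹ = u (φ g i) ∨ (g : G) * u i * (g : G)⁻¹ = u (φ g i) * z
  ker : ∀ g, φ g = 1 ↔ (g : G) ∈ Q
  fix : ∀ g, φ g 4 = 4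
  surj : ∀ σ : Equiv.Perm (Fin 5), σ 4 = 4 → ∃ g, φ g = σ

/-- The basic facts on `Q`. -/
theorem q32_of_extraspecial (z : G) (hz : orderOf z = 2) (Qc : Subgroup (centralizer ({z} : Set G))) [Qc.Normal]
    (h2c : centralizer (Qc : Set (centralizer ({z} : Set G))) ≤ Qc) (hex : Cfsg.IsExtraspecial 2 Qc)
    (hcard : Nat.card Qc = 32) :
    Q32 (Qc.map (centralizer ({z} : Set G)).subtype) z := by
  classical
  have hz2 : z * z = 1 := by rw [← pow_two, ← hz, pow_orderOf_eq_one]
  have hz1 : z ≠ 1 := fun h => by simp [h] at hz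
  set Q : Subgroup G := Qc.map (centralizer ({z} : Set G)).subtype with hQdef
  have hCmem : ∀ x, x ∈ (centralizer ({z} : Set G)) ↔ x * z = z * x := fun x => mem_centralizer_singleton_iff
  have hQC : Q ≤ (centralizer ({z} : Set G)) := map_subtype_le Qc
  have hself : ∀ g : G, (∀ x ∈ Q, g * x = x * g) → g * z = z * g → g ∈ Q := by
    intro g hg hgz
    refine ⟨⟨g, (hCmem g).2 hgz⟩, h2c ?_, rfl⟩
    exact mem_centralizer_iff.2 fun q hq => Subtype.ext (hg q ⟨q, hq, rfl⟩).symm
  have hzQ : z ∈ Q := hself z (fun x hx => ((hCmem x).1 (hQC hx)).symm) rfl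
  have hES : PGroup.IsES 2 ↥Qc := PGroup.isES_of_isExtraspecial hex
  have hzQc : (⟨z, hQC hzQ⟩ : (centralizer ({z} : Set G))) ∈ Qc := by
    obtain ⟨q, hq, hqz⟩ := hzQ
    rwa [show (⟨z, _⟩ : (centralizer ({z} : Set G))) = q from Subtype.ext hqz.symm]
  have hcen : ∀ r : Qc, r ∈ center Qc → ((r : (centralizer ({z} : Set G))) : G) = 1 ∨ ((r : (centralizer ({z} : Set G))) : G) = z := by
    intro r hr
    have hzc : (⟨⟨z, hQC hzQ⟩, hzQc⟩ : Qc) ∈ center Qc :=
      mem_center_iff.mpr fun g => Subtype.ext (Subtype.ext ((hCmem (g : (centralizer ({z} : Set G)))).mp (g : (centralizer ({z} : Set G))).2))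
    have hne : (⟨⟨⟨z, hQC hzQ⟩, hzQc⟩, hzc⟩ : center Qc) ≠ 1 := fun h => hz1
      (congrArg (fun w : center Qc => (((w : Qc) : (centralizer ({z} : Set G))) : G)) h)
    have huniq := (Nat.card_eq_two_iff' (1 : center Qc)).mp hES.card_center
    rcases em ((⟨r, hr⟩ : center Qc) = 1) with h | h
    · exact Or.inl (congrArg (fun w : center Qc => (((w : Qc) : (centralizer ({z} : Set G))) : G)) h)
    · exact Or.inr (congrArg (fun w : center Qc => (((w : Qc) : (centralizer ({z} : Set G))) : G)) (huniq.unique h hne))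
  have hQ32 : Q32 Q z := by
    refine ⟨?_, hzQ, hz2, hz1, fun x hx => (hCmem x).mp (hQC hx), ?_, ?_, ?_⟩
    · rw [hQdef, card_map_of_injective (centralizer ({z} : Set G)).subtype_injective, hcard]
    · rintro _ ⟨r, hr, rfl⟩ _ ⟨s, hs, rfl⟩
      have e' : (r : G) * s = (((⁅(⟨r, hr⟩ : Qc), ⟨s, hs⟩⁆ : Qc) : (centralizer ({z} : Set G))) : G) * ((s : G) * r) := by
        simp only [commutatorElement_def, Subgroup.coe_mul, Subgroup.coe_inv]; group
      rcases hcen _ (hES.comm_mem ⟨r, hr⟩ ⟨s, hs⟩) with h | h <;> rw [h] at e'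
      · exact Or.inl (by simpa using e')
      · right
        show (r : G) * s = s * r * z
        rw [e', ← (hCmem _).mp (mul_mem s.2 r.2)]
    · rintro _ ⟨r, hr, rfl⟩
      have := hcen _ (hES.pow_mem ⟨r, hr⟩)
      simpa [pow_two] using this
    · rintro _ ⟨r, hr, rfl⟩ hcom
      exact hcen ⟨r, hr⟩ (mem_center_iff.mpr fun g => Subtype.ext (Subtype.ext
        (hcom ((g : (centralizer ({z} : Set G))) : G) ⟨g, g.2, rfl⟩).symm))
  exact hQ32

theorem perm_four_central : ∀ x : Equiv.Perm (Fin 4), (∀ y, y * x = x * y) → x = 1 := by decide +kernel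

/-- The generators of the four group of double transpositions. -/
def dtA : Equiv.Perm (Fin 4) := Equiv.swap 0 1 * Equiv.swap 2 3

/-- The generators of the four group of double transpositions. -/
def dtB : Equiv.Perm (Fin 4) := Equiv.swap 0 2 * Equiv.swap 1 3

theorem dt_conj : (∃ σ, σ * dtA * σ⁻¹ = dtB) ∧ (∃ σ, σ * dtA * σ⁻¹ = dtA * dtB) ∧
    dtA * dtA = 1 ∧ dtB * dtB = 1 ∧ dtA * dtB = dtB * dtA ∧ dtA ≠ 1 ∧ dtA ≠ dtB := by decide +kernel

theorem dt_normal : ∀ σ, (σ * dtA * σ⁻¹ = dtA ∨ σ * dtA * σ⁻¹ = dtB ∨ σ * dtA * σ⁻¹ = dtA * dtB) ∧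
    (σ * dtB * σ⁻¹ = dtA ∨ σ * dtB * σ⁻¹ = dtB ∨ σ * dtB * σ⁻¹ = dtA * dtB) := by decide +kernel

theorem even_four_fix : ∀ a : Equiv.Perm (Fin 5), a * a = 1 → a ≠ 1 → Equiv.Perm.sign a = 1 →
    ∀ b : Equiv.Perm (Fin 5), b * b = 1 → b ≠ 1 → b ≠ a → Equiv.Perm.sign b = 1 → a * b = b * a →
    ∃ i, a i = i ∧ b i = i ∧ ∀ j, a j = j → b j = j → j = i := by decide +kernel

/-- A copy of the symmetric group of degree four in that of degree five fixes a point. -/
theorem exists_fixed (ψ : Equiv.Perm (Fin 4) →* Equiv.Perm (Fin 5)) (hψ : Function.Injective ψ) :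
    ∃ i, ∀ σ, ψ σ i = i := by
  obtain ⟨⟨σ1, h1⟩, ⟨σ2, h2⟩, ha, hb, hab, ha1, habne⟩ := dt_conj
  have hsgn : ∀ σ x, Equiv.Perm.sign (ψ (σ * x * σ⁻¹)) = Equiv.Perm.sign (ψ x) := fun σ x => by
    rw [map_mul, map_mul, map_mul, map_mul, map_inv, map_inv, mul_comm (Equiv.Perm.sign (ψ σ)),
      mul_inv_cancel_right]
  have hsa : Equiv.Perm.sign (ψ dtA) = 1 := by
    have e1 : Equiv.Perm.sign (ψ dtA) = Equiv.Perm.sign (ψ dtB) := by rw [← h1, hsgn]
    have e2 : Equiv.Perm.sign (ψ dtA) = Equiv.Perm.sign (ψ (dtA * dtB)) := by rw [← h2, hsgn]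
    rw [map_mul, map_mul, ← e1] at e2
    exact left_eq_mul.1 e2
  have hsb : Equiv.Perm.sign (ψ dtB) = 1 := by rw [← h1, hsgn, hsa]
  have hA1 : ψ dtA ≠ 1 := fun h => ha1 (hψ (h.trans (map_one ψ).symm))
  have hB1 : ψ dtB ≠ 1 := fun h => ha1 (by
    have := hψ (h.trans (map_one ψ).symm)
    rw [← h1] at this
    exact conj_eq_one_iff.1 this)
  obtain ⟨i, hai, hbi, huniq⟩ := even_four_fix (ψ dtA) (by rw [← map_mul, ha, map_one]) hA1 hsa (ψ dtB)
    (by rw [← map_mul, hb, map_one]) hB1 (fun h => habne (hψ h).symm) hsb (by rw [← map_mul, hab, map_mul])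
  refine ⟨i, fun σ => huniq _ ?_ ?_⟩
  all_goals
    have key : ∀ x, (x = dtA ∨ x = dtB ∨ x = dtA * dtB) → ψ x i = i := by
      rintro x (rfl | rfl | rfl)
      · exact hai
      · exact hbi
      · rw [map_mul, Equiv.Perm.mul_apply, hbi, hai]
    have hn := dt_normal σ⁻¹
    rw [inv_inv] at hn
  · have h3 := key _ hn.1
    rw [map_mul, map_mul, map_inv, Equiv.Perm.mul_apply, Equiv.Perm.mul_apply, Equiv.Perm.inv_eq_iff_eq] at h3
    exact h3
  · have h3 := key _ hn.2
    rw [map_mul, map_mul, map_inv, Equiv.Perm.mul_apply, Equiv.Perm.mul_apply, Equiv.Perm.inv_eq_iff_eq] at h3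
    exact h3

theorem exists_data (z : G) (hz : orderOf z = 2) (Qc : Subgroup (centralizer ({z} : Set G))) [Qc.Normal]
    (hex : Cfsg.IsExtraspecial 2 Qc) (hcard : Nat.card Qc = 32)
    (hminus : ∀ A : Subgroup Qc, Cfsg.IsElementaryAbelian 2 A → Nat.card A ≠ 8)
    (h2c : centralizer (Qc : Set (centralizer ({z} : Set G))) ≤ Qc)
    (e : (centralizer ({z} : Set G)) ⧸ Qc ≃* Equiv.Perm (Fin 4)) :
    ∃ D : Data G, D.z = z := by
  classical
  have hQ32 := q32_of_extraspecial z hz Qc h2c hex hcard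
  have hz2 : z * z = 1 := hQ32.sqz
  have hz1 : z ≠ 1 := hQ32.zne
  set Q : Subgroup G := Qc.map (centralizer ({z} : Set G)).subtype with hQdef
  have hCmem : ∀ x, x ∈ (centralizer ({z} : Set G)) ↔ x * z = z * x := fun x => mem_centralizer_singleton_iff
  have hQC : Q ≤ (centralizer ({z} : Set G)) := map_subtype_le Qc
  have hself : ∀ g : G, (∀ x ∈ Q, g * x = x * g) → g ∈ Q := by
    intro g hg
    refine ⟨⟨g, (hCmem g).2 (hg z hQ32.zmem)⟩, h2c ?_, rfl⟩
    exact mem_centralizer_iff.2 fun q hq => Subtype.ext (hg q ⟨q, hq, rfl⟩).symm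
  have hnorm : ∀ g, g * z = z * g → ∀ x ∈ Q, g * x * g⁻¹ ∈ Q := by
    rintro g hg _ ⟨q, hq, rfl⟩
    exact ⟨⟨g, (hCmem g).2 hg⟩ * q * ⟨g, (hCmem g).2 hg⟩⁻¹,
      Subgroup.Normal.conj_mem (by assumption) q hq _, rfl⟩
  have hcomm2 : ∀ a ∈ invSet Q z, ∀ b ∈ invSet Q z, a * b = b * a → b = a ∨ b = a * z := by
    let eQ : ↥Qc ≃* ↥Q := Qc.equivMapOfInjective _ (centralizer ({z} : Set G)).subtype_injective
    refine invSet_comm hQ32 fun A hA hA8 => hminus (A.map eQ.symm.toMonoidHom) ⟨?_, ?_⟩ ?_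
    · refine isMulCommutative_iff.mpr ?_
      rintro ⟨_, a, ha, rfl⟩ ⟨_, b, hb, rfl⟩
      refine Subtype.ext ?_
      show eQ.symm a * eQ.symm b = eQ.symm b * eQ.symm a
      rw [← map_mul, ← map_mul]
      exact congrArg eQ.symm (congrArg Subtype.val (hA.1.is_comm.comm ⟨a, ha⟩ ⟨b, hb⟩))
    · rintro _ ⟨a, ha, rfl⟩
      show eQ.symm a ^ 2 = 1
      rw [← map_pow, hA.2 a ha, map_one]
    · rw [card_map_of_injective eQ.symm.injective, hA8]
  have h10 := invSet_card hQ32 hcomm2
  -- the five pairs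
  set I := invSet Q z with hI
  let st : Setoid I :=
    { r := fun x y => (y : G) = x ∨ (y : G) = x * z
      iseqv := ⟨fun x => Or.inl rfl, fun {x y} h => h.elim (fun h => Or.inl h.symm)
        (fun h => Or.inr (eq_or_of_pair hz2 h)), fun {x y w} h h' => by
          rcases h with h | h <;> rcases h' with h' | h' <;> rw [h', h]
          · exact Or.inl rfl
          · exact Or.inr rfl
          · exact Or.inr rfl
          · left; rw [mul_assoc, hz2, mul_one]⟩ }
  have hI2 : ∀ P : Quotient st, Nat.card {x : I // Quotient.mk st x = P} = 2 := by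
    intro P
    induction P using Quotient.ind with
    | _ x =>
      let xz : I := ⟨(x : G) * z, mul_mem_invSet hQ32 x.2⟩
      have hne : x ≠ xz := fun h => hz1 (by
        have : (x : G) * z = (x : G) * 1 := by rw [mul_one]; exact (congrArg Subtype.val h).symm
        exact mul_left_cancel this)
      have hset : {y : I | Quotient.mk st y = Quotient.mk st x} = {x, xz} := by
        ext y
        simp only [Set.mem_ofPred_eq, Set.mem_insert_iff, Set.mem_singleton_iff]
        constructor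
        · intro h
          rcases (Quotient.exact h.symm : (y : G) = x ∨ (y : G) = x * z) with h' | h'
          · exact Or.inl (Subtype.ext h')
          · exact Or.inr (Subtype.ext h')
        · rintro (rfl | rfl)
          · rfl
          · exact (Quotient.sound (Or.inr rfl : (xz : G) = x ∨ (xz : G) = x * z)).symm
      rw [← Set.coe_ofPred, Nat.card_coe_set_eq, hset, Set.ncard_pair hne]
  haveI : Fintype (Quotient st) := Fintype.ofFinite _
  have hP5 : Nat.card (Quotient st) = 5 := by
    have h := Nat.card_congr (Equiv.sigmaFiberEquiv (Quotient.mk st))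
    rw [Nat.card_sigma, Finset.sum_congr rfl fun P _ => hI2 P, Finset.sum_const, Finset.card_univ, smul_eq_mul,
      Nat.card_coe_set_eq, h10, ← Nat.card_eq_fintype_card] at h
    omega
  let E5 : Quotient st ≃ Fin 5 := Finite.equivFinOfCardEq hP5
  let u : Fin 5 → G := fun i => ((E5.symm i).out : I)
  let idx : I → Fin 5 := fun x => E5 (Quotient.mk st x)
  have hidx : ∀ x : I, (x : G) = u (idx x) ∨ (x : G) = u (idx x) * z := by
    intro x
    have : Quotient.mk st (E5.symm (idx x)).out = Quotient.mk st x := by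
      rw [Quotient.out_eq]
      exact E5.symm_apply_apply _
    exact Quotient.exact this
  have hsep : ∀ i j, (u i = u j ∨ u i = u j * z) → i = j := by
    intro i j h
    apply E5.symm.injective
    rw [← Quotient.out_eq (E5.symm i), ← Quotient.out_eq (E5.symm j)]
    exact (Quotient.sound (h : (((E5.symm i).out : I) : G) = ((E5.symm j).out : I) ∨ _)).symm
  -- the action
  have hconjI : ∀ g : (centralizer ({z} : Set G)), ∀ x ∈ I, (g : G) * x * (g : G)⁻¹ ∈ I := fun g x hx =>
    ⟨hnorm g ((hCmem g).1 g.2) x hx.1, by rw [conj_mul, hx.2.1]; group,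
      fun h => hx.2.2.1 (conj_eq_one_iff.mp h),
      fun h => hx.2.2.2 ((MulAut.conj (g : G)).injective (h.trans (show z = (g : G) * z * (g : G)⁻¹ by
        rw [(hCmem g).1 g.2, mul_inv_cancel_right])))⟩
  let act : (centralizer ({z} : Set G)) → Fin 5 → Fin 5 := fun g i => idx ⟨_, hconjI g (u i) (E5.symm i).out.2⟩
  have hact : ∀ (g : (centralizer ({z} : Set G))) (i : Fin 5), (g : G) * u i * (g : G)⁻¹ = u (act g i) ∨ (g : G) * u i * (g : G)⁻¹ = u (act g i) * z :=
    fun g i => hidx ⟨_, hconjI g (u i) (E5.symm i).out.2⟩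
  have hgz : ∀ (g : (centralizer ({z} : Set G))) (x : G), (g : G) * (x * z) * (g : G)⁻¹ = (g : G) * x * (g : G)⁻¹ * z := fun g x => by
    rw [← conj_mul, show (g : G) * z * (g : G)⁻¹ = z by rw [(hCmem g).1 g.2, mul_inv_cancel_right]]
  have huniq : ∀ (g : (centralizer ({z} : Set G))) i j, ((g : G) * u i * (g : G)⁻¹ = u j ∨ (g : G) * u i * (g : G)⁻¹ = u j * z) →
      act g i = j := by
    intro g i j h
    refine hsep _ _ ?_
    rcases hact g i with h1 | h1 <;> rcases h with h2 | h2 <;> rw [h1] at h2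
    · exact Or.inl h2
    · exact Or.inr h2
    · exact Or.inr (eq_or_of_pair hz2 h2.symm)
    · exact Or.inl (mul_right_cancel h2)
  have hone : act 1 = id := funext fun i => huniq 1 i i (Or.inl (by simp))
  have hmulact : ∀ g h : (centralizer ({z} : Set G)), act (g * h) = act g ∘ act h := by
    intro g h
    funext i
    apply huniq
    have e1 : ((g * h : (centralizer ({z} : Set G))) : G) * u i * ((g * h : (centralizer ({z} : Set G))) : G)⁻¹ =
        (g : G) * ((h : G) * u i * (h : G)⁻¹) * (g : G)⁻¹ := by rw [Subgroup.coe_mul]; group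
    rcases hact h i with h1 | h1 <;> rw [e1, h1]
    · exact hact g _
    · rcases hact g (act h i) with h2 | h2 <;> rw [hgz, h2]
      · exact Or.inr rfl
      · left
        rw [mul_assoc, hz2, mul_one]
        rfl
  let φ : (centralizer ({z} : Set G)) →* Equiv.Perm (Fin 5) :=
    { toFun := fun g => ⟨act g, act g⁻¹, fun i => by
          show (act g⁻¹ ∘ act g) i = i
          rw [← hmulact, inv_mul_cancel, hone]; rfl, fun i => by
          show (act g ∘ act g⁻¹) i = i
          rw [← hmulact, mul_inv_cancel, hone]; rfl⟩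
      map_one' := Equiv.ext fun i => congrFun hone i
      map_mul' := fun g h => Equiv.ext fun i => congrFun (hmulact g h) i }
  have hQker : ∀ g : (centralizer ({z} : Set G)), (g : G) ∈ Q → φ g = 1 := by
    intro g hg
    refine Equiv.ext fun i => huniq g i i ?_
    have hu : u i ∈ I := (E5.symm i).out.2
    rcases hQ32.comm g hg (u i) hu.1 with h | h
    · left; rw [h, mul_inv_cancel_right]
    · right
      rw [h, mul_assoc, ← hQ32.zcomm _ (inv_mem hg), ← mul_assoc, mul_inv_cancel_right]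
  -- kernel
  have hgen : ∀ g : (centralizer ({z} : Set G)), (∀ i, (g : G) * u i * (g : G)⁻¹ = u i) → (g : G) ∈ Q ∧
      ((g : G) = 1 ∨ (g : G) = z) := by
    intro g hg
    have hfixI : ∀ x ∈ I, (g : G) * x * (g : G)⁻¹ = x := by
      intro x hx
      rcases hidx ⟨x, hx⟩ with h' | h' <;> simp only at h' <;> rw [h']
      · exact hg _
      · rw [hgz, hg]
    have hall : ∀ x ∈ Q, (g : G) * x * (g : G)⁻¹ = x := by
      intro x hx
      rcases hQ32.sq x hx with hx2 | hx2
      · by_cases h1 : x = 1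
        · simp [h1]
        by_cases h2 : x = z
        · rw [h2, (hCmem g).1 g.2, mul_inv_cancel_right]
        exact hfixI x ⟨hx, hx2, h1, h2⟩
      · obtain ⟨a, ha, b, hb, rfl, -⟩ := exists_eq_mul hQ32 h10 hx hx2
        rw [← conj_mul, hfixI a ha, hfixI b hb]
    have hcomg : ∀ x ∈ Q, (g : G) * x = x * (g : G) := fun x hx => mul_inv_eq_iff_eq_mul.1 (hall x hx)
    exact ⟨hself g hcomg, hQ32.cen g (hself g hcomg) hcomg⟩
  have hQcker : Qc ≤ φ.ker := fun q hq => hQker q ⟨q, hq, rfl⟩
  have hK : Nat.card φ.ker ≤ 64 := by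
    let K0 : Subgroup (centralizer ({z} : Set G)) :=
      ⨅ i, (centralizer ({u i} : Set G)).comap (centralizer ({z} : Set G)).subtype
    have hK0 : ∀ g, g ∈ K0 ↔ ∀ i, (g : G) * u i * (g : G)⁻¹ = u i := fun g => by
      simp only [K0, mem_iInf, mem_comap, mem_centralizer_singleton_iff, mul_inv_eq_iff_eq_mul, coe_subtype]
    let sgn : φ.ker → Fin 5 → Bool := fun g i => decide (((g : centralizer ({z} : Set G)) : G) * u i * ((g : centralizer ({z} : Set G)) : G)⁻¹ = u i)
    have hsgn : ∀ g : φ.ker, ∀ i, ((g : centralizer ({z} : Set G)) : G) * u i * ((g : centralizer ({z} : Set G)) : G)⁻¹ =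
        if sgn g i then u i else u i * z := by
      intro g i
      have hi : φ g i = i := by rw [MonoidHom.mem_ker.1 g.2]; rfl
      rcases hact g i with h | h <;> rw [show act g i = i from hi] at h
      · simp [sgn, h]
      · rw [if_neg]
        · exact h
        · simp only [sgn, decide_eq_true_eq, h]
          intro h'
          exact hz1 (mul_eq_left.1 h')
    have h1 : (K0.subgroupOf φ.ker).index ≤ 32 := by
      let f : φ.ker ⧸ K0.subgroupOf φ.ker → Fin 5 → Bool := fun x => sgn x.out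
      have hf : Function.Injective f := by
        intro x y h
        rw [← x.out_eq', ← y.out_eq', QuotientGroup.eq, mem_subgroupOf, hK0]
        intro i
        have e1 := hsgn x.out i
        have e2 := hsgn y.out i
        have e3 : sgn x.out i = sgn y.out i := congrFun h i
        rw [e3, ← e2] at e1
        simp only [Subgroup.coe_mul, Subgroup.coe_inv]
        set a := (((x.out : φ.ker) : centralizer ({z} : Set G)) : G)
        set b := (((y.out : φ.ker) : centralizer ({z} : Set G)) : G)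
        calc a⁻¹ * b * u i * (a⁻¹ * b)⁻¹ = a⁻¹ * (b * u i * b⁻¹) * a := by group
          _ = a⁻¹ * (a * u i * a⁻¹) * a := by rw [e1]
          _ = u i := by group
      have := Nat.card_le_card_of_injective f hf
      rwa [← index_eq_card, Nat.card_fun, Nat.card_eq_fintype_card, Nat.card_eq_fintype_card, Fintype.card_bool,
        Fintype.card_fin] at this
    have h2 : Nat.card (K0.subgroupOf φ.ker) ≤ 2 := by
      have hsub : ∀ g : K0.subgroupOf φ.ker, (((g : φ.ker) : centralizer ({z} : Set G)) : G) ∈ ({1, z} : Set G) :=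
        fun g => (hgen _ ((hK0 _).1 g.2)).2
      have h := Nat.card_le_card_of_injective (fun g => (⟨_, hsub g⟩ : ({1, z} : Set G))) (fun a b h => by
        exact Subtype.ext (Subtype.ext (Subtype.ext (congrArg Subtype.val h :))))
      rwa [Nat.card_coe_set_eq, Set.ncard_pair (Ne.symm hz1)] at h
    have := (K0.subgroupOf φ.ker).card_mul_index
    rw [← this]
    exact Nat.mul_le_mul h2 h1
  have hker : φ.ker = Qc := by
    set M : Subgroup (Equiv.Perm (Fin 4)) := φ.ker.map (e.toMonoidHom.comp (QuotientGroup.mk' Qc)) with hM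
    have hsurj : Function.Surjective (e.toMonoidHom.comp (QuotientGroup.mk' Qc)) :=
      e.surjective.comp (QuotientGroup.mk'_surjective Qc)
    haveI : M.Normal := Normal.map inferInstance _ hsurj
    have hkc : (e.toMonoidHom.comp (QuotientGroup.mk' Qc)).ker = Qc := by
      ext g
      show e (QuotientGroup.mk' Qc g) = 1 ↔ _
      rw [map_eq_one_iff _ e.injective]
      exact QuotientGroup.eq_one_iff g
    have hM2 : Nat.card M * 32 = Nat.card φ.ker := by
      have h := ((e.toMonoidHom.comp (QuotientGroup.mk' Qc)).comp φ.ker.subtype).ker.card_mul_index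
      rw [index_ker, MonoidHom.range_comp, range_subtype, ← hM, ← MonoidHom.comap_ker, hkc,
        show Nat.card (Qc.comap φ.ker.subtype) = 32 from
          (Nat.card_congr (subgroupOfEquivOfLe hQcker).toEquiv).trans hcard] at h
      rw [← h, Nat.mul_comm]
    have hMbot : M = ⊥ := by
      have hle : Nat.card M ≤ 2 := by omega
      refine (eq_bot_iff_forall _).2 fun x hx => perm_four_central x fun y => ?_
      by_contra hne
      have hx1 : x ≠ 1 := fun h => hne (by simp [h])
      have hy : y * x * y⁻¹ ≠ x := fun h => hne (mul_inv_eq_iff_eq_mul.1 h)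
      have h3 : ({1, x, y * x * y⁻¹} : Set (Equiv.Perm (Fin 4))) ⊆ M := by
        rintro a (rfl | rfl | rfl)
        · exact one_mem M
        · exact hx
        · exact Normal.conj_mem inferInstance x hx y
      have := Set.ncard_le_ncard h3 (Set.toFinite _)
      rw [Set.ncard_insert_of_notMem (by
          simp only [Set.mem_insert_iff, Set.mem_singleton_iff, not_or]
          exact ⟨Ne.symm hx1, fun h => hx1 (conj_eq_one_iff.1 h.symm)⟩), Set.ncard_pair (Ne.symm hy),
        ← Nat.card_coe_set_eq, SetLike.coe_sort_coe] at this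
      omega
    refine le_antisymm ?_ hQcker
    rw [hM, Subgroup.map_eq_bot_iff, hkc] at hMbot
    exact hMbot
  -- the image
  let ψ : Equiv.Perm (Fin 4) →* Equiv.Perm (Fin 5) :=
    (QuotientGroup.lift Qc φ hker.ge).comp e.symm.toMonoidHom
  have hψinj : Function.Injective ψ := by
    rw [← MonoidHom.ker_eq_bot_iff]
    refine (eq_bot_iff_forall _).2 fun σ hσ => ?_
    obtain ⟨g, hg⟩ := QuotientGroup.mk_surjective (e.symm σ)
    have h1 : φ g = 1 := by
      have h' : QuotientGroup.lift Qc φ hker.ge (e.symm σ) = 1 := hσ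
      rwa [← hg, QuotientGroup.lift_mk] at h'
    have h2 : e.symm σ = 1 := by rw [← hg, QuotientGroup.eq_one_iff, ← hker]; exact h1
    exact e.symm.injective (h2.trans (map_one e.symm).symm)
  obtain ⟨i₀, hi₀⟩ := exists_fixed ψ hψinj
  have hfix : ∀ g, φ g i₀ = i₀ := fun g => by
    have := hi₀ (e (QuotientGroup.mk g))
    change QuotientGroup.lift Qc φ hker.ge (e.symm (e (QuotientGroup.mk g))) i₀ = i₀ at this
    rwa [e.symm_apply_apply, QuotientGroup.lift_mk] at this
  have hsurjφ : ∀ σ : Equiv.Perm (Fin 5), σ i₀ = i₀ → ∃ g, φ g = σ := by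
    intro σ hσ
    let St : Subgroup (Equiv.Perm (Fin 5)) := MulAction.stabilizer (Equiv.Perm (Fin 5)) i₀
    have hle : φ.range ≤ St := by
      rintro _ ⟨g, rfl⟩
      exact hfix g
    have hSt : Nat.card St = 24 := by
      have h := MulAction.index_stabilizer_of_transitive (Equiv.Perm (Fin 5)) i₀
      have h' := St.card_mul_index
      rw [show St.index = 5 by rw [h, Nat.card_fin], Nat.card_perm,
        Nat.card_fin, show (5 : ℕ).factorial = 120 by rfl] at h'
      omega
    have h24 : Nat.card φ.range = 24 := by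
      rw [← index_ker, hker, index_eq_card, Nat.card_congr e.toEquiv, Nat.card_perm, Nat.card_eq_fintype_card,
        Fintype.card_fin]
      rfl
    have heq : φ.range = St := Subgroup.eq_of_le_of_card_ge hle (by rw [hSt, h24])
    exact heq.ge (MulAction.mem_stabilizer_iff.2 hσ)
  let s : Equiv.Perm (Fin 5) := Equiv.swap i₀ 4
  refine ⟨{ z := z, Q := Q, u := fun i => u (s i), φ := (MulAut.conj s).toMonoidHom.comp φ, hQ := hQ32,
            le := hQC, norm := hnorm, self := hself, comm2 := hcomm2, card10 := h10,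
            u_mem := fun i => (E5.symm (s i)).out.2, u_cover := ?_, u_sep := fun i j h => s.injective (hsep _ _ h),
            act := ?_, ker := ?_, fix := ?_, surj := ?_ }, rfl⟩
  · intro x hx
    obtain ⟨i, hi⟩ : ∃ i, x = u i ∨ x = u i * z := ⟨_, hidx ⟨x, hx⟩⟩
    exact ⟨s i, by rwa [show s (s i) = i from Equiv.swap_apply_self _ _ _]⟩
  · intro g i
    have e' : s ((s * φ g * s⁻¹ : Equiv.Perm (Fin 5)) i) = φ g (s i) := by
      simp [s, Equiv.Perm.mul_apply]
    show _ = u (s ((s * φ g * s⁻¹ : Equiv.Perm (Fin 5)) i)) ∨ _ = u (s ((s * φ g * s⁻¹ : Equiv.Perm (Fin 5)) i)) * z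
    rw [e']
    exact hact g (s i)
  · intro g
    rw [MonoidHom.comp_apply, MulEquiv.coe_toMonoidHom, map_eq_one_iff _ (MulAut.conj s).injective,
      ← MonoidHom.mem_ker, hker]
    exact ⟨fun h => ⟨g, h, rfl⟩, fun ⟨q, hq, hqg⟩ => (Subtype.ext hqg : q = g) ▸ hq⟩
  · intro g
    show (s * φ g * s⁻¹ : Equiv.Perm (Fin 5)) 4 = 4
    simp [s, Equiv.Perm.mul_apply, hfix g]
  · intro σ hσ
    obtain ⟨g, hg⟩ := hsurjφ (s⁻¹ * σ * s) (by simp [s, Equiv.Perm.mul_apply, hσ])
    refine ⟨g, ?_⟩
    show s * φ g * s⁻¹ = σ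
    rw [hg]; group

end Cfsg.Agent.PGLThreeFourType
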