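import Cfsg.Agent.Lib.PGLThreeFourType.TGroup
import Cfsg.Agent.Lib.PGroup.Basic
import Cfsg.Agent.Lib.L34Sylow.Minimal
import Cfsg.Agent.Lib.Transfer.Tate

/-!
# Involution centraliser `(D₈ * Q₈).S₄`: the socle

* `oddCore_eq_bot`: the odd core is trivial in the nonsolvable case
* `exists_socle`: a simple normal subgroup with trivial centraliser containing `T`
-/

set_option autoImplicit false
set_option linter.unusedSectionVars false
set_option linter.style.haveILetI false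

namespace Cfsg.Agent.PGLThreeFourType

open Cfsg Subgroup OrderJTwo
open L34Sylow (Factor exists_factor)

variable {G : Type*} [Group G] [Finite G]

theorem elem_v4 : ∀ σ : Equiv.Perm (Fin 5), σ 4 = 4 → σ * σ = 1 →
    (∀ κ : Equiv.Perm (Fin 5), κ 4 = 4 → σ * (κ * σ * κ⁻¹) = (κ * σ * κ⁻¹) * σ) → σ = 1 ∨ DT σ := by
  decide +kernel

theorem exists_dt_comm : ∀ σ : Equiv.Perm (Fin 5), σ 4 = 4 → σ ≠ 1 → DT σ ∨
    (∃ κ : Equiv.Perm (Fin 5), κ 4 = 4 ∧ DT (κ * σ * κ⁻¹ * σ⁻¹)) ∨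
    (∃ κ κ' : Equiv.Perm (Fin 5), κ 4 = 4 ∧ κ' 4 = 4 ∧
      DT (κ' * (κ * σ * κ⁻¹ * σ⁻¹) * κ'⁻¹ * (κ * σ * κ⁻¹ * σ⁻¹)⁻¹)) := by decide +kernel

theorem exists_dt_moving : ∀ i j : Fin 5, i ≠ 4 → j ≠ 4 → i ≠ j → ∃ σ, DT σ ∧ σ i = j := by decide +kernel

theorem exists_moved : ∀ σ : Equiv.Perm (Fin 5), σ 4 = 4 → σ ≠ 1 → σ * σ = 1 →
    ∃ i, i ≠ 4 ∧ σ i ≠ i ∧ σ i ≠ 4 := by decide +kernel

theorem pattern_moved : ∀ i j : Fin 5, i ≠ j → (i = 4 ∨ j = 4) → ∃ σ : Equiv.Perm (Fin 5), σ 4 = 4 ∧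
    ∀ s : Bool, ∃ t, decide (σ t = i ∨ σ t = j) ≠ xor (decide (t = i ∨ t = j)) (s && decide (σ t ≠ 4)) := by
  decide +kernel

theorem pattern_moved' : ∀ i : Fin 5, i ≠ 4 → ∃ σ : Equiv.Perm (Fin 5), σ 4 = 4 ∧
    ∀ s : Bool, ∃ t, decide (i ≠ σ t) ≠ xor (decide (i ≠ t)) (s && decide (σ t ≠ 4)) := by decide +kernel

namespace Data

variable (D : Data G)

/-- The commutator of an involution with a pair it moves. -/
theorem comm_u {x : G} (hx : x * D.z = D.z * x) {i : Fin 5} (hi : D.perm x i ≠ i) :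
    ∃ e, (e = D.u i * D.u (D.perm x i) ∨ e = D.u i * D.u (D.perm x i) * D.z) ∧
      D.u i * x * (D.u i)⁻¹ * x⁻¹ = e ∧ e * e ≠ 1 := by
  have hsq : D.u i * D.u (D.perm x i) * (D.u i * D.u (D.perm x i)) ≠ 1 := fun h =>
    D.inverts_not_fixed (Ne.symm hi) (invol_inv h)
  refine ⟨_, ?_, rfl, ?_⟩
  all_goals
    rw [show D.u i * x * (D.u i)⁻¹ * x⁻¹ = D.u i * (x * (D.u i)⁻¹ * x⁻¹) by group, invol_inv (D.uu i)]
    rcases D.act' hx i with e | e <;> rw [e]
  · exact Or.inl rfl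
  · exact Or.inr (mul_assoc _ _ _).symm
  · exact hsq
  · rw [← mul_assoc (D.u i)]
    have hc := D.comm_of_mem (mul_mem (D.uQ i) (D.uQ (D.perm x i)))
    rw [mul_assoc (D.u i * D.u (D.perm x i)) D.z, ← mul_assoc D.z, ← hc,
      mul_assoc (D.u i * D.u (D.perm x i)) D.z D.z, D.hz2, mul_one]
    exact hsq

theorem V0_sq {a : G} (h : a ∈ D.V0) : a * a = 1 := by
  rcases h with e | e | e | e <;> rw [e]
  exacts [one_mul 1, D.hz2, D.uu 4, D.wz_sq]

/-- A conjugate of `z` inverts the odd core. -/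
theorem conj_inverts {y x : G} (hy : IsConj D.z y) (hx : x ∈ oddCore G) : y * x * y⁻¹ = x⁻¹ := by
  haveI := Cores.pPrimeCore_normal 2 G
  obtain ⟨g, rfl⟩ := isConj_iff.1 hy
  have h := D.inverts (Normal.conj_mem inferInstance x hx g⁻¹ : g⁻¹ * x * g⁻¹⁻¹ ∈ oddCore G)
  calc g * D.z * g⁻¹ * x * (g * D.z * g⁻¹)⁻¹ = g * (D.z * (g⁻¹ * x * g⁻¹⁻¹) * D.z⁻¹) * g⁻¹ := by group
    _ = x⁻¹ := by rw [h]; group

theorem conj_mem_normal {N : Subgroup G} (hN : N.Normal) {x y : G} (h : IsConj x y) (hx : x ∈ N) : y ∈ N := by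
  obtain ⟨g, rfl⟩ := isConj_iff.1 h
  exact hN.conj_mem x hx g

/-- A Sylow 2-subgroup containing `Q` centralises `z`, which spans its centre. -/
theorem sylow_facts (P : Sylow 2 G) (hQP : D.Q ≤ (P : Subgroup G)) :
    (P : Subgroup G) ≤ centralizer ({D.z} : Set G) ∧
      ∀ c : (P : Subgroup G), c ∈ center (P : Subgroup G) → c ≠ 1 → (c : G) = D.z := by
  haveI : Fact (Nat.Prime 2) := ⟨Nat.prime_two⟩
  have hcen : ∀ c : (P : Subgroup G), c ∈ center (P : Subgroup G) → c ≠ 1 → (c : G) = D.z := by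
    intro c hc hc1
    have h : ∀ q ∈ D.Q, (c : G) * q = q * c := fun q hq =>
      (congrArg Subtype.val (mem_center_iff.1 hc ⟨q, hQP hq⟩)).symm
    exact (D.hQ.cen _ (D.self _ h) h).resolve_left fun e => hc1 (Subtype.ext e)
  refine ⟨fun x hx => ?_, hcen⟩
  have hne : (⊤ : Subgroup (P : Subgroup G)) ≠ ⊥ := by
    intro h
    exact D.hQ.zne (congrArg Subtype.val ((eq_bot_iff_forall _).1 h ⟨D.z, hQP D.hQ.zmem⟩ (mem_top _)))
  obtain ⟨c, -, hc, hco⟩ := PGroup.exists_central_order_p P.2 hne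
  have hcz := hcen c hc fun e => by simp [e] at hco
  rw [D.mem_C, ← hcz]
  exact congrArg Subtype.val (mem_center_iff.1 hc ⟨x, hx⟩)

theorem exists_sylow : ∃ P : Sylow 2 G, D.Q ≤ (P : Subgroup G) :=
  (IsPGroup.of_card (n := 5) (by rw [D.hQ.card]; rfl)).exists_le_sylow

variable (hns : ¬ Group.IsSolvable G)

include hns D in
theorem oddCore_eq_bot : oddCore G = ⊥ := by
  refine (eq_bot_iff_forall _).2 fun x hx => ?_
  obtain ⟨hw, hwz⟩ := D.conj_w hns
  have h1 := D.conj_inverts hw hx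
  have h2 := D.conj_inverts hwz hx
  have h3 : x = x⁻¹ := by
    calc x = D.w * (D.z * x * D.z⁻¹) * D.w⁻¹ := by
          rw [D.inverts hx, show D.w * x⁻¹ * D.w⁻¹ = (D.w * x * D.w⁻¹)⁻¹ by group, h1, inv_inv]
      _ = D.w * D.z * x * (D.w * D.z)⁻¹ := by group
      _ = x⁻¹ := h2
  obtain ⟨n, ⟨k, rfl⟩, hn⟩ := odd_pow_eq_one hx
  have hx2 : x * x = 1 := by conv_lhs => arg 2; rw [h3]
                             rw [mul_inv_cancel]
  rwa [pow_succ, pow_mul, pow_two, hx2, one_pow, one_mul] at hn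

include hns in
/-- A nontrivial normal subgroup contains the four group. -/
theorem V0_le_normal {N : Subgroup G} (hN : N.Normal) (h : N ≠ ⊥) : D.V0 ≤ N := by
  haveI : Fact (Nat.Prime 2) := ⟨Nat.prime_two⟩
  obtain ⟨P, hQP⟩ := D.exists_sylow
  obtain ⟨t, ht, ht2⟩ := L34Sylow.exists_involution_of_normal (D.oddCore_eq_bot hns) hN h
  have h2 : IsPGroup 2 (zpowers t) := IsPGroup.of_card (n := 1) (by rw [Nat.card_zpowers, ht2, pow_one])
  obtain ⟨P', hP'⟩ := h2.exists_le_sylow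
  obtain ⟨c, hc⟩ := MulAction.exists_smul_eq G P' P
  haveI : (N.subgroupOf (P : Subgroup G)).Normal := hN.subgroupOf _
  have hne : N.subgroupOf (P : Subgroup G) ≠ ⊥ := by
    intro e
    have hm : c * t * c⁻¹ ∈ (P : Subgroup G) := by
      rw [← hc, Sylow.coe_subgroup_smul, mem_pointwise_smul_iff_inv_smul_mem]
      simpa [MulAut.smul_def, MulAut.conj_symm_apply, mul_assoc] using hP' (mem_zpowers t)
    have := (eq_bot_iff_forall _).1 e ⟨_, hm⟩ (hN.conj_mem t ht c)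
    have h1 : t = 1 := conj_eq_one_iff.1 (congrArg Subtype.val this)
    simp [h1] at ht2
  obtain ⟨a, haN, hac, hao⟩ := PGroup.exists_central_order_p P.2 hne
  have hzN : D.z ∈ N := (D.sylow_facts P hQP).2 a hac (fun e => by simp [e] at hao) ▸ haN
  obtain ⟨hw, hwz⟩ := D.conj_w hns
  rintro x (rfl | rfl | rfl | rfl)
  exacts [one_mem N, hzN, conj_mem_normal hN hw hzN, conj_mem_normal hN hwz hzN]

theorem solvable_C_conj {t : G} (ht : IsConj D.z t) : Group.IsSolvable (centralizer ({t} : Set G)) := by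
  obtain ⟨g, rfl⟩ := isConj_iff.1 ht
  haveI := D.isSolvable_C
  refine Group.isSolvable_of_isSolvable_injective
    (f := ((MulAut.conj g⁻¹).toMonoidHom.comp (centralizer ({g * D.z * g⁻¹} : Set G)).subtype).codRestrict
      (centralizer ({D.z} : Set G)) fun x => D.mem_C.2 ?_) ?_
  · show g⁻¹ * (x : G) * g⁻¹⁻¹ * D.z = D.z * (g⁻¹ * (x : G) * g⁻¹⁻¹)
    rw [inv_inv]
    exact D.pull_z (mem_centralizer_singleton_iff.1 x.2)
  · intro a b h
    exact Subtype.ext ((MulAut.conj g⁻¹).injective (congrArg Subtype.val h))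

include hns D in
/-- A minimal normal subgroup is not abelian. -/
theorem minimal_nonabelian {N : Subgroup G} [hN : N.Normal] (h : N ≠ ⊥)
    (hmin : ∀ M : Subgroup G, M.Normal → M ≤ N → M = ⊥ ∨ M = N) : ¬ IsMulCommutative N := by
  intro hc
  have hV := D.V0_le_normal hns hN h
  have hzN : D.z ∈ N := hV (Or.inr (Or.inl rfl))
  have hwN : D.w ∈ N := hV (Or.inr (Or.inr (Or.inl rfl)))
  have hcm : ∀ a ∈ N, ∀ b ∈ N, a * b = b * a := fun a ha b hb =>
    congrArg Subtype.val (hc.is_comm.comm ⟨a, ha⟩ ⟨b, hb⟩)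
  have hsq : ∀ a ∈ N, a * a = 1 := fun a ha =>
    L34Sylow.sq_of_abelian_minimal (D.oddCore_eq_bot hns) h hmin hc ha
  have hCV : ∀ a ∈ N, a ∈ D.CV := fun a ha => D.mem_CV.2 ⟨hcm a ha _ hzN, hcm a ha _ hwN⟩
  have hNQ : ∀ a ∈ N, a ∈ D.Q → a ∈ D.V0 := fun a ha hQ => D.B_invol (mem_inf.2 ⟨hQ, hCV a ha⟩) (hsq a ha)
  have hle : N ≤ D.V0 := by
    intro x hx
    have hxz := (D.mem_CV.1 (hCV x hx)).1
    rcases elem_v4 (D.perm x) (D.perm_four x) (by rw [← D.perm_mul hxz hxz, hsq x hx, D.perm_one]) (fun κ hκ => by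
        obtain ⟨k, hk, rfl⟩ := D.perm_surj hκ
        have hy : k * x * k⁻¹ ∈ N := hN.conj_mem x hx k
        have hyz := (D.mem_CV.1 (hCV _ hy)).1
        rw [← D.perm_conj hk hxz, ← D.perm_mul hxz hyz, hcm x hx _ hy, D.perm_mul hyz hxz]) with hσ | hσ
    · exact hNQ x hx ((D.perm_eq_one hxz).1 hσ)
    · exfalso
      obtain ⟨e, he, hdef, hne⟩ := D.comm_u hxz (hσ.2.2 0 (by decide))
      have heQ : e ∈ D.Q := by
        rcases he with rfl | rfl
        · exact mul_mem (D.uQ _) (D.uQ _)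
        · exact mul_mem (mul_mem (D.uQ _) (D.uQ _)) D.hQ.zmem
      exact hne (hsq e (hdef ▸ mul_mem (hN.conj_mem x hx _) (inv_mem hx)))
  have hNV : N = D.V0 := le_antisymm hle hV
  -- then the group is small
  apply hns
  let f : G ⧸ centralizer ({D.z} : Set G) → ({D.z, D.w, D.w * D.z} : Set G) :=
    Quotient.lift (fun g => (⟨g * D.z * g⁻¹, by
      have hm : g * D.z * g⁻¹ ∈ D.V0 := hNV ▸ hN.conj_mem _ hzN g
      rcases hm with e | e | e | e
      · exact absurd e (conj_ne_one D.hQ.zne)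
      · exact Or.inl e
      · exact Or.inr (Or.inl e)
      · exact Or.inr (Or.inr e)⟩ : ({D.z, D.w, D.w * D.z} : Set G))) fun a b hab => by
      refine Subtype.ext ?_
      have hc' := D.mem_C.1 (QuotientGroup.leftRel_apply.1 hab)
      show a * D.z * a⁻¹ = b * D.z * b⁻¹
      calc a * D.z * a⁻¹ = a * (a⁻¹ * b * D.z * (a⁻¹ * b)⁻¹) * a⁻¹ := by rw [hc', mul_inv_cancel_right]
        _ = _ := by group
  have hf : Function.Injective f := by
    rintro ⟨a⟩ ⟨b⟩ e
    refine Quotient.sound (QuotientGroup.leftRel_apply.2 (D.mem_C.2 ?_))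
    have e' : a * D.z * a⁻¹ = b * D.z * b⁻¹ := congrArg Subtype.val e
    calc a⁻¹ * b * D.z = a⁻¹ * (b * D.z * b⁻¹) * b := by group
      _ = a⁻¹ * (a * D.z * a⁻¹) * b := by rw [e']
      _ = _ := by group
  have hidx : (centralizer ({D.z} : Set G)).index ≤ 3 := by
    refine (Nat.card_le_card_of_injective f hf).trans ?_
    rw [Nat.card_coe_set_eq]
    have h1 := Set.ncard_insert_le D.z ({D.w, D.w * D.z} : Set G)
    have h2 := Set.ncard_insert_le D.w ({D.w * D.z} : Set G)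
    rw [Set.ncard_singleton] at h2
    omega
  have hG := (centralizer ({D.z} : Set G)).card_mul_index
  rw [D.card_C] at hG
  have hpos : 0 < (centralizer ({D.z} : Set G)).index := Nat.pos_of_ne_zero Subgroup.index_ne_zero_of_finite
  obtain ⟨a, b, hab⟩ : ∃ a b : ℕ, Nat.card G = 2 ^ a * 3 ^ b := by
    rw [← hG]
    obtain h1 | h1 | h1 : (centralizer ({D.z} : Set G)).index = 1 ∨ (centralizer ({D.z} : Set G)).index = 2 ∨
        (centralizer ({D.z} : Set G)).index = 3 := by omega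
    · exact ⟨8, 1, by rw [h1]; rfl⟩
    · exact ⟨9, 1, by rw [h1]; rfl⟩
    · exact ⟨8, 2, by rw [h1]; rfl⟩
  exact CharApp.isSolvable_of_card_eq_prime_pow_mul 2 3 Nat.prime_two Nat.prime_three _ _ rfl a b hab

include hns D in
/-- A minimal normal subgroup is simple and its centraliser is trivial. -/
theorem minimal_simple {N : Subgroup G} [hN : N.Normal] (h : N ≠ ⊥)
    (hmin : ∀ M : Subgroup G, M.Normal → M ≤ N → M = ⊥ ∨ M = N) :
    IsSimpleGroup N ∧ Subgroup.centralizer (N : Set G) = ⊥ := by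
  haveI : Fact (Nat.Prime 2) := ⟨Nat.prime_two⟩
  have hna := D.minimal_nonabelian hns h hmin
  obtain ⟨K, hK⟩ := exists_factor h hmin hna
  by_cases hall : ∀ g : G, K.map (MulAut.conj g).toMonoidHom = K
  · have hKn : K.Normal := ⟨fun k hk g => by rw [← hall g]; exact L34Sylow.map_conj_mem hk⟩
    obtain rfl : K = N := (hmin K hKn hK.le).resolve_left hK.ne_bot
    refine ⟨hK.simple, ?_⟩
    by_contra hC
    haveI : (Subgroup.centralizer (K : Set G)).Normal := inferInstance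
    have hz1 := D.V0_le_normal hns ‹_› hC (Or.inr (Or.inl rfl) : D.z ∈ D.V0)
    have hz2 := D.V0_le_normal hns hN h (Or.inr (Or.inl rfl) : D.z ∈ D.V0)
    exact D.hQ.zne (hK.center hz2 fun k hk => mem_centralizer_iff.1 hz1 k hk)
  exfalso
  push Not at hall
  obtain ⟨g, hg⟩ := hall
  haveI hKN : (K.subgroupOf N).Normal := Cores.subgroupOf_normal_of_le_normalizer hK.norm
  have hKeven : 2 ∣ Nat.card K := by
    by_contra hodd
    have hle : K.subgroupOf N ≤ pPrimeCore 2 N := Cores.le_pPrimeCore hKN (by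
      rw [Nat.card_congr (subgroupOfEquivOfLe hK.le).toEquiv]
      exact (Nat.prime_two.coprime_iff_not_dvd.2 hodd).symm)
    have hbot : (pPrimeCore 2 N).map N.subtype = ⊥ := L34Sylow.eq_bot_of_odd (D.oddCore_eq_bot hns)
      (Cores.map_subtype_normal_of_characteristic N _) (by
        rw [card_map_of_injective N.subtype_injective]
        exact Nat.coprime_two_right.1 (Cores.coprime_card_pPrimeCore 2))
    refine hK.ne_bot ((eq_bot_iff_forall _).2 fun x hx => ?_)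
    exact (eq_bot_iff_forall _).1 hbot x ⟨⟨x, hK.le hx⟩, hle hx, rfl⟩
  obtain ⟨P, hQP⟩ := D.exists_sylow
  obtain ⟨hPC, -⟩ := D.sylow_facts P hQP
  obtain ⟨t0, ht0⟩ := exists_prime_orderOf_dvd_card' 2 hKeven
  have h2 : IsPGroup 2 (zpowers (t0 : G)) := IsPGroup.of_card (n := 1) (by
    rw [Nat.card_zpowers, pow_one, Subgroup.orderOf_coe, ht0])
  obtain ⟨P', hP'⟩ := h2.exists_le_sylow
  obtain ⟨c, hc⟩ := MulAction.exists_smul_eq G P' P
  have hm : c * (t0 : G) * c⁻¹ ∈ (P : Subgroup G) := by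
    rw [← hc, Sylow.coe_subgroup_smul, mem_pointwise_smul_iff_inv_smul_mem]
    simpa [MulAut.smul_def, MulAut.conj_symm_apply, mul_assoc] using hP' (mem_zpowers (t0 : G))
  -- a factor meeting `P` and a different factor
  set K' := K.map (MulAut.conj c).toMonoidHom
  have hK' : Factor N K' := hK.conj c
  obtain ⟨L, hL, hLK⟩ : ∃ L, Factor N L ∧ L ≠ K' := by
    by_cases h1 : K = K'
    · exact ⟨_, hK.conj g, h1 ▸ hg⟩
    · exact ⟨K, hK, h1⟩
  set SN : Subgroup G := N ⊓ (P : Subgroup G) with hSN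
  haveI hKS : (K'.subgroupOf SN).Normal :=
    Cores.subgroupOf_normal_of_le_normalizer (le_trans inf_le_left hK'.norm)
  have hSp : IsPGroup 2 SN := P.2.to_le inf_le_right
  have hne : K'.subgroupOf SN ≠ ⊥ := fun e => by
    have := (eq_bot_iff_forall _).1 e ⟨_, hN.conj_mem _ (hK.le t0.2) c, hm⟩ (L34Sylow.map_conj_mem t0.2)
    have h1 : (t0 : G) = 1 := conj_eq_one_iff.1 (congrArg Subtype.val this)
    rw [← Subgroup.orderOf_coe, h1, orderOf_one] at ht0
    omega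
  obtain ⟨t, htK, htc, hto⟩ := PGroup.exists_central_order_p hSp hne
  have ht2 : (t : G) * t = 1 := by
    have h' : t ^ 2 = 1 := by rw [← hto, pow_orderOf_eq_one]
    rw [pow_two] at h'
    exact congrArg Subtype.val h'
  have hcomm : ∀ s ∈ N, s ∈ (P : Subgroup G) → (t : G) * s = s * t := fun s hs hs' =>
    (congrArg Subtype.val (mem_center_iff.1 htc ⟨s, hs, hs'⟩)).symm
  have hV := D.V0_le_normal hns hN h
  have htz : (t : G) * D.z = D.z * t := D.mem_C.1 (hPC t.2.2)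
  have htw : (t : G) * D.w = D.w * t :=
    hcomm _ (hV (Or.inr (Or.inr (Or.inl rfl)))) (hQP (D.uQ 4))
  have htQ : (t : G) ∈ D.Q := by
    by_contra hQ
    have hσ1 : D.perm t ≠ 1 := fun e => hQ ((D.perm_eq_one htz).1 e)
    obtain ⟨i, -, hmov, -⟩ := exists_moved _ (D.perm_four _) hσ1
      (by rw [← D.perm_mul htz htz, ht2, D.perm_one])
    obtain ⟨e, he, hdef, hne⟩ := D.comm_u htz hmov
    have heQ : e ∈ D.Q := by
      rcases he with rfl | rfl
      · exact mul_mem (D.uQ _) (D.uQ _)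
      · exact mul_mem (mul_mem (D.uQ _) (D.uQ _)) D.hQ.zmem
    have heN : e ∈ N := hdef ▸ mul_mem (hN.conj_mem _ t.2.1 _) (inv_mem t.2.1)
    have hfix := hcomm e heN (hQP heQ)
    have hinv : (t : G) * e * (t : G)⁻¹ = e⁻¹ := by
      rw [← hdef]
      have htt : (t : G)⁻¹ = t := invol_inv ht2
      calc (t : G) * (D.u i * t * (D.u i)⁻¹ * (t : G)⁻¹) * (t : G)⁻¹
          = t * D.u i * t * (D.u i)⁻¹ * ((t : G) * t)⁻¹ := by group
        _ = t * D.u i * (t : G)⁻¹ * (D.u i)⁻¹ := by rw [ht2, htt]; group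
        _ = (D.u i * t * (D.u i)⁻¹ * (t : G)⁻¹)⁻¹ := by group
    rw [hfix, mul_inv_cancel_right] at hinv
    exact hne (mul_eq_one_iff_eq_inv.2 hinv)
  have htV : (t : G) ∈ D.V0 := D.B_invol (mem_inf.2 ⟨htQ, D.mem_CV.2 ⟨htz, htw⟩⟩) ht2
  have htconj : IsConj D.z (t : G) := by
    obtain ⟨hw, hwz⟩ := D.conj_w hns
    rcases htV with e | e | e | e
    · exfalso
      rw [← Subgroup.orderOf_coe, e, orderOf_one] at hto
      omega
    · rw [e]
    · rw [e]; exact hw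
    · rw [e]; exact hwz
  haveI := D.solvable_C_conj htconj
  have hLC : L ≤ centralizer ({(t : G)} : Set G) := fun l hl =>
    mem_centralizer_singleton_iff.2 (hK'.commute hL hLK.symm htK hl).symm
  haveI : Group.IsSolvable L := Group.isSolvable_of_isSolvable_injective (f := inclusion hLC) (inclusion_injective hLC)
  haveI := hL.simple
  exact hL.nonab (isMulCommutative_iff.mpr fun a b => (IsSimpleGroup.comm_iff_isSolvable.2 ‹_›) a b)

variable {g : G}

include hns in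
/-- A simple normal subgroup meets the centraliser outside `Q`. -/
theorem exists_outside (hg : D.Mover g) {N : Subgroup G} [hN : N.Normal] (hsimple : IsSimpleGroup N)
    (hna : ¬ IsMulCommutative N) : ∃ x ∈ N, x * D.z = D.z * x ∧ x ∉ D.Q := by
  haveI : Fact (Nat.Prime 2) := ⟨Nat.prime_two⟩
  by_contra hno
  push Not at hno
  have hNne : N ≠ ⊥ := fun e => hna (isMulCommutative_iff.mpr fun a b => Subtype.ext (by
    have ha := a.2
    have hb := b.2
    simp only [e, mem_bot] at ha hb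
    simp [ha, hb]))
  have hV := D.V0_le_normal hns hN hNne
  have hX : ∀ x ∈ N, x ∈ D.CV → x ∈ D.V0 := by
    intro x hx hxc
    have hxB : x ∈ D.B := mem_inf.2 ⟨hno x hx (D.mem_CV.1 hxc).1, hxc⟩
    have hc := Mover.conj_CV D hg hxc
    have := D.conj_B_inter hg hxB (hno _ (hN.conj_mem x hx g) (D.mem_CV.1 hc).1)
    refine D.B_invol hxB ?_
    have e := D.V0_sq this
    rw [conj_mul] at e
    exact conj_eq_one_iff.1 e
  have hNC : ∀ x ∈ N, x * D.z = D.z * x → x ∈ D.V0 := by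
    intro x hx hxz
    have hxQ := hno x hx hxz
    by_cases hxw : x * D.w = D.w * x
    · exact hX x hx (D.mem_CV.2 ⟨hxz, hxw⟩)
    exfalso
    have h4 : D.anti x 4 = true := by
      by_contra h
      exact hxw (D.anti_false.1 (by simpa using h))
    have key : ∀ σ : Equiv.Perm (Fin 5), σ 4 = 4 → ∃ s : Bool, ∀ t,
        D.anti x (σ t) = xor (D.anti x t) (s && decide (σ t ≠ 4)) := by
      intro σ hσ
      obtain ⟨c, hc, rfl⟩ := D.perm_surj_CV hσ
      have hcz := (D.mem_CV.1 hc).1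
      have hy : c * x * c⁻¹ ∈ D.Q := D.norm c hcz x hxQ
      set e := x⁻¹ * (c * x * c⁻¹) with he
      have heQ : e ∈ D.Q := mul_mem (inv_mem hxQ) hy
      have h4' : D.anti (c * x * c⁻¹) 4 = true := by
        have := D.anti_conj hcz hxQ 4
        rwa [D.perm_four, h4] at this
      have hem : ∀ t, D.anti (c * x * c⁻¹) t = xor (D.anti x t) (D.anti e t) := fun t => by
        rw [← D.anti_mul hxQ heQ, he, mul_inv_cancel_left]
      have he4 : D.anti e 4 = false := by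
        have := hem 4
        rw [h4, h4'] at this
        revert this
        cases D.anti e 4 <;> simp
      have heV : e ∈ D.V0 := hX e (mul_mem (inv_mem hx) (hN.conj_mem x hx c))
        (D.mem_CV.2 ⟨D.comm_of_mem heQ, D.anti_false.1 he4⟩)
      obtain ⟨s, hs⟩ : ∃ s : Bool, ∀ t, D.anti e t = (s && decide (t ≠ 4)) := by
        rcases heV with h | h | h | h <;> rw [h]
        · exact ⟨false, fun t => by rw [D.anti_one]; rfl⟩
        · exact ⟨false, fun t => by rw [D.anti_z]; rfl⟩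
        · exact ⟨true, fun t => by rw [D.anti_u, Bool.true_and]; exact decide_eq_decide.2 ne_comm⟩
        · exact ⟨true, fun t => by rw [D.anti_mul_z (D.uQ 4), D.anti_u, Bool.true_and]; exact decide_eq_decide.2 ne_comm⟩
      refine ⟨s, fun t => ?_⟩
      have e1 := D.anti_conj hcz hxQ t
      rw [hem, hs] at e1
      revert e1
      cases D.anti x t <;> cases D.anti x (D.perm c t) <;> cases (s && decide (D.perm c t ≠ 4)) <;> simp
    have kill : ∀ P : Fin 5 → Bool, (∀ t, D.anti x t = P t) → (∃ σ : Equiv.Perm (Fin 5), σ 4 = 4 ∧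
        ∀ s : Bool, ∃ t, P (σ t) ≠ xor (P t) (s && decide (σ t ≠ 4))) → False := by
      rintro P hP ⟨σ, hσ, h⟩
      obtain ⟨s, hs⟩ := key σ hσ
      obtain ⟨t, ht⟩ := h s
      exact ht (by rw [← hP, ← hP, hs t])
    rcases D.q_cases hxQ with e | e | ⟨i, hi⟩ | ⟨i, j, hij, hi⟩
    · rw [e, D.anti_one] at h4; simp at h4
    · rw [e, D.anti_z] at h4; simp at h4
    · have hp : ∀ t, D.anti x t = decide (i ≠ t) := fun t => by
        rcases hi with rfl | rfl
        · exact D.anti_u i t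
        · rw [D.anti_mul_z (D.uQ i), D.anti_u]
      have hi4 : i ≠ 4 := by rw [hp] at h4; simpa using h4
      exact kill _ hp (pattern_moved' i hi4)
    · have hp : ∀ t, D.anti x t = decide (t = i ∨ t = j) := fun t => by
        rcases hi with rfl | rfl
        · exact D.anti_uu' hij t
        · rw [D.anti_mul_z (mul_mem (D.uQ i) (D.uQ j)), D.anti_uu' hij]
      have h4' : i = 4 ∨ j = 4 := by
        rw [hp] at h4
        exact (of_decide_eq_true h4).imp Eq.symm Eq.symm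
      exact kill _ hp (pattern_moved i j hij h4')
  have hzN : D.z ∈ N := hV (Or.inr (Or.inl rfl))
  have hwC : ∀ c ∈ D.V0, c ≠ 1 → ∀ x ∈ N, x * c = c * x → x ∈ D.V0 := by
    have h1 : ∀ x ∈ N, x * D.w = D.w * x → x ∈ D.V0 := fun x hx h => by
      have hp : (g⁻¹ * x * g) * D.z = D.z * (g⁻¹ * x * g) := D.pull_z (by rw [hg.1]; exact h)
      have := Mover.mem_V0 D hg (hNC _ (hN.conj_mem' x hx g) hp)
      rwa [back] at this
    intro c hc hc1 x hx hxc
    rcases hc with rfl | rfl | rfl | rfl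
    · exact absurd rfl hc1
    · exact hNC x hx hxc
    · exact h1 x hx hxc
    · have hu : (D.u 0)⁻¹ * x * D.u 0 ∈ D.V0 := h1 _ (hN.conj_mem' x hx _) (by
        have := pull_comm (g := D.u 0) hxc
        rwa [show (D.u 0)⁻¹ * (D.w * D.z) * D.u 0 = D.w by rw [← D.u0_conj]; group] at this)
      have hu' : x * D.w = D.w * x := by
        have e : (D.u 0)⁻¹ * x * D.u 0 * (D.w * D.z) = D.w * D.z * ((D.u 0)⁻¹ * x * D.u 0) :=
          (D.V0_comm hu (D.V0_le_B (Or.inr (Or.inr (Or.inr rfl)) : D.w * D.z ∈ D.V0)).2).symm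
        have hwz' : D.u 0 * (D.w * D.z) * (D.u 0)⁻¹ = D.w := by
          rw [← conj_mul, D.u0_conj, D.conj_z (D.comm_of_mem (D.uQ 0)), mul_assoc, D.hz2, mul_one]
        calc x * D.w = D.u 0 * ((D.u 0)⁻¹ * x * D.u 0 * (D.w * D.z)) * (D.u 0)⁻¹ := by
              conv_lhs => rw [← hwz']
              group
          _ = D.u 0 * (D.w * D.z * ((D.u 0)⁻¹ * x * D.u 0)) * (D.u 0)⁻¹ := by rw [e]
          _ = D.w * x := by
              conv_rhs => rw [← hwz']
              group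
      exact h1 x hx hu'
  -- the four group is a Sylow 2-subgroup of `N`
  have h4 : IsPGroup 2 (D.V0.subgroupOf N) := IsPGroup.of_card (n := 2) (by
    rw [Nat.card_congr (subgroupOfEquivOfLe hV).toEquiv, card_four]; rfl)
  obtain ⟨R, hR⟩ := h4.exists_le_sylow
  have hRtop : (⊤ : Subgroup (R : Subgroup N)) ≠ ⊥ := fun h => D.hQ.zne
    (congrArg (fun a : (R : Subgroup N) => ((a : N) : G))
      ((eq_bot_iff_forall _).1 h ⟨⟨D.z, hzN⟩, hR (mem_subgroupOf.2 (Or.inr (Or.inl rfl)))⟩ (mem_top _)))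
  obtain ⟨c, -, hcc, hco⟩ := PGroup.exists_central_order_p R.2 hRtop
  have hcz : ((c : N) : G) * D.z = D.z * ((c : N) : G) :=
    (congrArg (fun a : (R : Subgroup N) => ((a : N) : G))
      (mem_center_iff.1 hcc ⟨⟨D.z, hzN⟩, hR (mem_subgroupOf.2 (Or.inr (Or.inl rfl)))⟩)).symm
  have hcV : ((c : N) : G) ∈ D.V0 := hNC _ (c : N).2 hcz
  have hc1 : ((c : N) : G) ≠ 1 := fun e => by
    rw [← Subgroup.orderOf_coe, ← Subgroup.orderOf_coe, e, orderOf_one] at hco
    omega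
  have hRV : ∀ x : N, x ∈ (R : Subgroup N) → (x : G) ∈ D.V0 := fun x hx =>
    hwC _ hcV hc1 x x.2 (congrArg (fun a : (R : Subgroup N) => ((a : N) : G)) (mem_center_iff.1 hcc ⟨x, hx⟩))
  obtain ⟨n, hnR, hnz⟩ : ∃ n : N, n ∈ normalizer ((R : Subgroup N) : Set N) ∧
      (n : G) * D.z * (n : G)⁻¹ ≠ D.z := by
    by_contra hall
    push Not at hall
    obtain ⟨P, K, hK, hKP⟩ := Transfer.hasNormalPComplement_of_normalizer_le_centralizer R fun n hn => by
      have hnV : (n : G) ∈ D.V0 := hNC _ n.2 (mul_inv_eq_iff_eq_mul.1 (hall n hn))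
      refine mem_centralizer_iff.2 fun r hr => Subtype.ext ?_
      exact D.V0_comm hnV (D.V0_le_B (hRV r hr)).2
    haveI := hsimple
    have hcard : Nat.card P = Nat.card (R : Subgroup N) := Nat.card_congr (Sylow.equiv P R).toEquiv
    rcases hK.eq_bot_or_eq_top with e | e
    · rw [e] at hKP
      have hPtop : (P : Subgroup N) = ⊤ := isComplement'_bot_left.1 hKP
      rw [show Nat.card P = Nat.card N by
        rw [← Nat.card_congr (Subgroup.topEquiv (G := N)).toEquiv, ← hPtop]] at hcard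
      have hR' : (R : Subgroup N) = ⊤ := eq_top_of_card_eq _ hcard.symm
      apply hna
      exact isMulCommutative_iff.mpr fun a b => Subtype.ext
        (D.V0_comm (hRV b (hR' ▸ mem_top b)) (D.V0_le_B (hRV a (hR' ▸ mem_top a))).2)
    · rw [e] at hKP
      have hPbot : (P : Subgroup N) = ⊥ := isComplement'_top_left.1 hKP
      rw [show Nat.card P = 1 from Subgroup.card_eq_one.2 hPbot] at hcard
      refine hRtop ?_
      rw [eq_bot_iff_forall]
      intro a _
      exact Subtype.ext ((eq_bot_iff_forall _).1 (Subgroup.card_eq_one.1 hcard.symm) a a.2)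
  have hnV : ∀ a ∈ D.V0, (n : G) * a * (n : G)⁻¹ ∈ D.V0 := fun a ha =>
    hRV _ ((Subgroup.mem_normalizer_iff.1 hnR ⟨a, hV ha⟩).1 (hR (mem_subgroupOf.2 ha)))
  have hnV' : ∀ a ∈ D.V0, (n : G)⁻¹ * a * n ∈ D.V0 := fun a ha => by
    have := hRV _ ((Subgroup.mem_normalizer_iff.1 (inv_mem hnR) ⟨a, hV ha⟩).1 (hR (mem_subgroupOf.2 ha)))
    change (n : G)⁻¹ * a * (n : G)⁻¹⁻¹ ∈ D.V0 at this
    rwa [inv_inv] at this
  obtain ⟨b, hb, hbV⟩ : ∃ b ∈ D.B, b ∉ D.V0 := by
    by_contra h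
    push Not at h
    have := Subgroup.card_le_of_le (h : D.B ≤ D.V0)
    rw [D.card_B, card_four] at this
    omega
  have hnb : (n : G) * b * (n : G)⁻¹ ∈ D.CV := by
    have hcomm : ∀ a ∈ D.V0, (n : G) * b * (n : G)⁻¹ * a = a * ((n : G) * b * (n : G)⁻¹) := fun a ha => by
      have e := D.V0_comm (hnV' a ha) hb.2
      calc (n : G) * b * (n : G)⁻¹ * a = (n : G) * (b * ((n : G)⁻¹ * a * n)) * (n : G)⁻¹ := by group
        _ = (n : G) * ((n : G)⁻¹ * a * n * b) * (n : G)⁻¹ := by rw [e]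
        _ = _ := by group
    exact D.mem_CV.2 ⟨hcomm _ (Or.inr (Or.inl rfl)), hcomm _ (Or.inr (Or.inr (Or.inl rfl)))⟩
  have heV : (n : G) * b * (n : G)⁻¹ * b⁻¹ ∈ D.V0 := by
    refine hX _ ?_ (mul_mem hnb (inv_mem hb.2))
    rw [show (n : G) * b * (n : G)⁻¹ * b⁻¹ = n * (b * (n : G)⁻¹ * b⁻¹) by group]
    exact mul_mem n.2 (hN.conj_mem _ (inv_mem n.2) b)
  apply hnz
  set e := (n : G) * b * (n : G)⁻¹ * b⁻¹ with he
  have h1 : (n : G) * b * (n : G)⁻¹ = e * b := by rw [he]; group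
  calc (n : G) * D.z * (n : G)⁻¹ = e * b * (e * b) := by rw [← h1, conj_mul, D.B_sq hb hbV]
    _ = e * (b * e) * b := by group
    _ = e * e * (b * b) := by rw [D.V0_comm heV hb.2]; group
    _ = D.z := by rw [D.V0_sq heV, one_mul, D.B_sq hb hbV]

include hns in
/-- There is a simple normal subgroup containing `T` with trivial centraliser. -/
theorem exists_socle (hg : D.Mover g) : ∃ N : Subgroup G, N.Normal ∧ IsSimpleGroup N ∧ ¬ IsMulCommutative N ∧
    Subgroup.centralizer (N : Set G) = ⊥ ∧ D.T ≤ N := by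
  classical
  obtain ⟨N, ⟨hNn, hN0⟩, hNmin⟩ := (Set.toFinite {R : Subgroup G | R.Normal ∧ R ≠ ⊥}).exists_minimal
    ⟨⊤, inferInstance, fun e => by
      have := (eq_bot_iff_forall _).1 e D.z (mem_top _)
      exact D.hQ.zne this⟩
  have hmin : ∀ M : Subgroup G, M.Normal → M ≤ N → M = ⊥ ∨ M = N := fun M hM hle => by
    by_contra h
    push Not at h
    exact h.2 (le_antisymm hle (hNmin ⟨hM, h.1⟩ hle))
  haveI := hNn
  have hna := D.minimal_nonabelian hns hN0 hmin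
  obtain ⟨hs, hC⟩ := D.minimal_simple hns hN0 hmin
  refine ⟨N, hNn, hs, hna, hC, ?_⟩
  obtain ⟨x, hxN, hxz, hxQ⟩ := D.exists_outside hns hg hs hna
  have hcommN : ∀ κ : Equiv.Perm (Fin 5), κ 4 = 4 → ∀ y ∈ N, y * D.z = D.z * y →
      ∃ y' ∈ N, y' * D.z = D.z * y' ∧ D.perm y' = κ * D.perm y * κ⁻¹ * (D.perm y)⁻¹ := by
    intro κ hκ y hy hyz
    obtain ⟨k, hk, rfl⟩ := D.perm_surj hκ
    have hC1 := mul_mem (mul_mem (D.mem_C.2 hk) (D.mem_C.2 hyz)) (inv_mem (D.mem_C.2 hk))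
    refine ⟨k * y * k⁻¹ * y⁻¹, mul_mem (hNn.conj_mem y hy k) (inv_mem hy),
      D.mem_C.1 (mul_mem hC1 (inv_mem (D.mem_C.2 hyz))), ?_⟩
    rw [D.perm_mul (D.mem_C.1 hC1) (D.mem_C.1 (inv_mem (D.mem_C.2 hyz))), D.perm_conj hk hyz, D.perm_inv hyz]
  obtain ⟨y, hyN, hyz, hyσ⟩ : ∃ y ∈ N, y * D.z = D.z * y ∧ DT (D.perm y) := by
    rcases exists_dt_comm _ (D.perm_four x) (fun e => hxQ ((D.perm_eq_one hxz).1 e)) with
      h | ⟨κ, hκ, h⟩ | ⟨κ, κ', hκ, hκ', h⟩
    · exact ⟨x, hxN, hxz, h⟩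
    · obtain ⟨y, h1, h2, h3⟩ := hcommN κ hκ x hxN hxz
      exact ⟨y, h1, h2, h3 ▸ h⟩
    · obtain ⟨y, h1, h2, h3⟩ := hcommN κ hκ x hxN hxz
      obtain ⟨y', h1', h2', h3'⟩ := hcommN κ' hκ' y h1 h2
      exact ⟨y', h1', h2', by rw [h3', h3]; exact h⟩
  have hV := D.V0_le_normal hns hNn hN0
  have hB : D.B ≤ N := by
    intro b hb
    by_cases hbV : b ∈ D.V0
    · exact hV hbV
    obtain ⟨i, j, hij, hi, hj, hp⟩ := D.pair_of_B hb hbV
    obtain ⟨σ, hσ, hσi⟩ := exists_dt_moving i j hi hj hij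
    obtain ⟨ρ, hρ4, hρ⟩ := dt_perm_conj _ hyσ _ hσ
    obtain ⟨k, hk, rfl⟩ := D.perm_surj hρ4
    have hy' : k * y * k⁻¹ ∈ N := hNn.conj_mem y hyN k
    have hy'z : (k * y * k⁻¹) * D.z = D.z * (k * y * k⁻¹) :=
      D.mem_C.1 (mul_mem (mul_mem (D.mem_C.2 hk) (D.mem_C.2 hyz)) (inv_mem (D.mem_C.2 hk)))
    have hpy : D.perm (k * y * k⁻¹) i = j := by rw [D.perm_conj hk hyz, hρ, hσi]
    obtain ⟨e, he, hdef, -⟩ := D.comm_u hy'z (by rw [hpy]; exact hij.symm)
    rw [hpy] at he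
    have heN : e ∈ N := hdef ▸ mul_mem (hNn.conj_mem _ hy' _) (inv_mem hy')
    have heQ : e ∈ D.Q ∧ ∀ t, D.anti e t = decide (t = i ∨ t = j) := by
      rcases he with rfl | rfl
      · exact ⟨mul_mem (D.uQ _) (D.uQ _), fun t => D.anti_uu' hij t⟩
      · exact ⟨mul_mem (mul_mem (D.uQ _) (D.uQ _)) D.hQ.zmem, fun t => by
          rw [D.anti_mul_z (mul_mem (D.uQ i) (D.uQ j)), D.anti_uu' hij]⟩
    rcases D.anti_inj heQ.1 hb.1 (fun t => by rw [heQ.2, hp]) with r | r <;> rw [r]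
    · exact heN
    · exact mul_mem heN (hV (Or.inr (Or.inl rfl)))
  exact D.T_le_of hg hB fun q hq => hNn.conj_mem q (hB hq) g

end Data

end Cfsg.Agent.PGLThreeFourType
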