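import Cfsg.Agent.Lib.PGLThreeFourType.Fusion
import Cfsg.Agent.Lib.PGLThreeFourType.Frame

/-!
# Involution centraliser `(D₈ * Q₈).S₄`: the subgroup `T`

* `CV`, `T`, `B`: the centraliser of `⟨z, w⟩`, its largest normal 2-subgroup and `B = C_Q(w)`
* `exists_hom_T`: `T` is a copy of a Sylow 2-subgroup of `PSL₃(4)`
* `T_le_of`: `T` is generated by `B` and a conjugate
-/

set_option autoImplicit false
set_option linter.unusedSectionVars false
set_option linter.style.haveILetI false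

namespace Cfsg.Agent.PGLThreeFourType

open Cfsg Subgroup OrderJTwo
open Cfsg.Agent.L34Sylow (H3)
open Cfsg.Agent.SU32 (K4)

variable {G : Type*} [Group G] [Finite G]

theorem v4_mul : ∀ σ : Equiv.Perm (Fin 5), (σ = 1 ∨ DT σ) → ∀ τ : Equiv.Perm (Fin 5), (τ = 1 ∨ DT τ) →
    (σ * τ = 1 ∨ DT (σ * τ)) := by decide +kernel

theorem dt_eq_of_apply : ∀ σ : Equiv.Perm (Fin 5), DT σ → ∀ τ : Equiv.Perm (Fin 5), DT τ → ∀ i, i ≠ 4 →
    σ i = τ i → σ = τ := by decide +kernel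

theorem dt_two_pairs : ∀ σ : Equiv.Perm (Fin 5), DT σ → ∀ i k : Fin 5, i ≠ 4 → k ≠ 4 →
    (∀ t, decide (t = i ∨ t = σ i) = decide (t = k ∨ t = σ k)) ∨
      (∀ t, xor (decide (t = i ∨ t = σ i)) (decide (t = k ∨ t = σ k)) = decide ((4 : Fin 5) ≠ t)) := by
  decide +kernel

theorem v4_of_comm : ∀ σ : Equiv.Perm (Fin 5), σ 4 = 4 → σ ^ 4 = 1 →
    (∀ κ : Equiv.Perm (Fin 5), κ 4 = 4 → κ ^ 3 = 1 → (κ * σ * κ⁻¹ * σ⁻¹) ^ 4 = 1) → σ = 1 ∨ DT σ := by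
  decide +kernel

theorem v4_card : Nat.card {σ : Equiv.Perm (Fin 5) // σ = 1 ∨ DT σ} = 4 := by
  rw [Nat.card_eq_fintype_card]; decide +kernel

/-- A double transposition. -/
def dtOne : Equiv.Perm (Fin 5) := Equiv.swap 0 1 * Equiv.swap 2 3

/-- Another double transposition. -/
def dtTwo : Equiv.Perm (Fin 5) := Equiv.swap 0 2 * Equiv.swap 1 3

theorem dt_pair : DT dtOne ∧ DT dtTwo ∧ dtOne ≠ dtTwo ∧ DT (dtOne * dtTwo) := by decide +kernel

theorem h3_comm_a : ∀ x : H3, x * ⟨0, 1, 0⟩ * x⁻¹ * (⟨0, 1, 0⟩ : H3)⁻¹ = ⟨0, 0, x.a⟩ := by decide +kernel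

theorem h3_comm_b : ∀ x : H3, x * ⟨1, 0, 0⟩ * x⁻¹ * (⟨1, 0, 0⟩ : H3)⁻¹ = ⟨0, 0, x.b⟩ := by decide +kernel

theorem h3_split : ∀ a b c : K4, (⟨a, b, c⟩ : H3) = ⟨0, b, 0⟩ * ⟨a, 0, 0⟩ * ⟨0, 0, c⟩ := by decide +kernel

namespace Data

variable (D : Data G)

/-- The centraliser of the four group. -/
abbrev CV : Subgroup G := centralizer ({D.z, D.w} : Set G)

theorem mem_CV {x : G} : x ∈ D.CV ↔ x * D.z = D.z * x ∧ x * D.w = D.w * x := by
  rw [mem_centralizer_iff]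
  simp only [Set.mem_insert_iff, Set.mem_singleton_iff, forall_eq_or_imp, forall_eq]
  exact ⟨fun h => ⟨h.1.symm, h.2.symm⟩, fun h => ⟨h.1.symm, h.2.symm⟩⟩

theorem w_comm_z : D.w * D.z = D.z * D.w := D.comm_of_mem (D.uQ 4)

theorem wz_sq : D.w * D.z * (D.w * D.z) = 1 := (mul_mem_invSet D.hQ (D.u_mem 4)).2.1

theorem u0_CV {x : G} (hx : x ∈ D.CV) : D.u 0 * x * (D.u 0)⁻¹ ∈ D.CV := by
  obtain ⟨h1, h2⟩ := D.mem_CV.1 hx
  have hz : D.u 0 * D.z * (D.u 0)⁻¹ = D.z := D.conj_z (D.comm_of_mem (D.uQ 0))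
  have hwz : D.u 0 * (D.w * D.z) * (D.u 0)⁻¹ = D.w := by
    rw [← conj_mul, D.u0_conj, hz, mul_assoc, D.hz2, mul_one]
  rw [D.mem_CV]
  constructor
  · conv_lhs => rw [← hz]
    conv_rhs => rw [← hz]
    rw [conj_mul, conj_mul, h1]
  · conv_lhs => rw [← hwz]
    conv_rhs => rw [← hwz]
    rw [conj_mul, conj_mul, ← mul_assoc x, h2, mul_assoc D.w x, h1]
    simp only [mul_assoc]

theorem perm_surj_CV {σ : Equiv.Perm (Fin 5)} (h : σ 4 = 4) : ∃ x ∈ D.CV, D.perm x = σ := by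
  obtain ⟨x, hx, rfl⟩ := D.perm_surj h
  have hu : D.u 0 * D.z = D.z * D.u 0 := D.comm_of_mem (D.uQ 0)
  rcases D.act' hx 4 with e | e <;> rw [D.perm_four] at e
  · exact ⟨x, D.mem_CV.2 ⟨hx, mul_inv_eq_iff_eq_mul.1 e⟩, rfl⟩
  · refine ⟨D.u 0 * x, D.mem_CV.2 ⟨D.mem_C.1 (mul_mem (D.mem_C.2 hu) (D.mem_C.2 hx)), ?_⟩, ?_⟩
    · rw [← mul_inv_eq_iff_eq_mul, show D.u 0 * x * D.w * (D.u 0 * x)⁻¹ = D.u 0 * (x * D.w * x⁻¹) * (D.u 0)⁻¹ by group,
        e, ← conj_mul, D.u0_conj, D.conj_z hu, mul_assoc, D.hz2, mul_one]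
    · rw [D.perm_mul hu hx, (D.perm_eq_one hu).2 (D.uQ 0), one_mul]

/-- The largest normal 2-subgroup of `C(⟨z, w⟩)`. -/
def T : Subgroup G where
  carrier := {x | x ∈ D.CV ∧ (D.perm x = 1 ∨ DT (D.perm x))}
  one_mem' := ⟨one_mem _, Or.inl D.perm_one⟩
  mul_mem' := fun {a b} ha hb => ⟨mul_mem ha.1 hb.1, by
    rw [D.perm_mul (D.mem_CV.1 ha.1).1 (D.mem_CV.1 hb.1).1]
    exact v4_mul _ ha.2 _ hb.2⟩
  inv_mem' := fun {a} ha => ⟨inv_mem ha.1, by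
    rw [D.perm_inv (D.mem_CV.1 ha.1).1]
    rcases ha.2 with h | h
    · rw [h, inv_one]; exact Or.inl rfl
    · rw [inv_eq_of_mul_eq_one_right h.2.1]; exact Or.inr h⟩

theorem mem_T {x : G} : x ∈ D.T ↔ x ∈ D.CV ∧ (D.perm x = 1 ∨ DT (D.perm x)) := Iff.rfl

theorem T_le_C {x : G} (hx : x ∈ D.T) : x * D.z = D.z * x := (D.mem_CV.1 hx.1).1

/-- The four group. -/
abbrev V0 : Subgroup G := four D.hQ (D.u_mem 4)

theorem mem_V0 {x : G} : x ∈ D.V0 ↔ x = 1 ∨ x = D.z ∨ x = D.w ∨ x = D.w * D.z := Iff.rfl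

/-- The centraliser of the fixed pair in `Q`. -/
abbrev B : Subgroup G := D.Q ⊓ D.CV

theorem mem_B {x : G} : x ∈ D.B ↔ x ∈ D.Q ∧ x * D.w = D.w * x :=
  ⟨fun h => ⟨h.1, (D.mem_CV.1 h.2).2⟩, fun h => ⟨h.1, D.mem_CV.2 ⟨D.comm_of_mem h.1, h.2⟩⟩⟩

theorem V0_le_B : D.V0 ≤ D.B := by
  rintro x (rfl | rfl | rfl | rfl) <;> rw [D.mem_B]
  · exact ⟨one_mem _, by simp⟩
  · exact ⟨D.hQ.zmem, D.w_comm_z.symm⟩
  · exact ⟨D.uQ 4, rfl⟩
  · exact ⟨mul_mem (D.uQ 4) D.hQ.zmem, by rw [mul_assoc, ← D.w_comm_z]⟩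

theorem B_le_T : D.B ≤ D.T := fun x hx =>
  ⟨hx.2, Or.inl ((D.perm_eq_one (D.mem_CV.1 hx.2).1).2 hx.1)⟩

theorem V0_comm {a x : G} (ha : a ∈ D.V0) (hx : x ∈ D.CV) : x * a = a * x := by
  obtain ⟨h1, h2⟩ := D.mem_CV.1 hx
  rcases ha with rfl | rfl | rfl | rfl
  · simp
  · exact h1
  · exact h2
  · rw [← mul_assoc, h2, mul_assoc, h1, ← mul_assoc]

theorem B_invol {q : G} (hq : q ∈ D.B) (h : q * q = 1) : q ∈ D.V0 := by
  obtain ⟨hqQ, hqw⟩ := D.mem_B.1 hq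
  by_cases h1 : q = 1
  · exact Or.inl h1
  by_cases h2 : q = D.z
  · exact Or.inr (Or.inl h2)
  rcases D.comm2 _ (D.u_mem 4) q ⟨hqQ, h, h1, h2⟩ hqw.symm with e | e
  · exact Or.inr (Or.inr (Or.inl e))
  · exact Or.inr (Or.inr (Or.inr e))

theorem B_sq {q : G} (hq : q ∈ D.B) (h : q ∉ D.V0) : q * q = D.z :=
  (D.hQ.sq q hq.1).resolve_left fun e => h (D.B_invol hq e)

theorem card_B : Nat.card D.B = 16 := by
  have h2 : Nat.card D.Q ≤ 2 * Nat.card D.B := card_le_two_mul D.Q D.B inf_le_left fun a ha b hb haB hbB => by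
    refine D.mem_B.2 ⟨mul_mem ha hb, ?_⟩
    have ha' := (D.hQ.comm a ha _ (D.uQ 4)).resolve_left fun e => haB (D.mem_B.2 ⟨ha, e⟩)
    have hb' := (D.hQ.comm b hb _ (D.uQ 4)).resolve_left fun e => hbB (D.mem_B.2 ⟨hb, e⟩)
    rw [mul_assoc, hb', ← mul_assoc, ← mul_assoc, ha', mul_assoc (D.w * a) D.z b, ← D.comm_of_mem hb,
      ← mul_assoc, mul_assoc (D.w * a * b) D.z D.z, D.hz2, mul_one, mul_assoc]
  have hne : Nat.card D.B ≠ 32 := fun h => by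
    have e : D.B = D.Q := eq_of_le_of_card_ge inf_le_left (by rw [h, D.hQ.card])
    have h0 : D.u 0 ∈ D.B := e.symm ▸ D.uQ 0
    have := (D.mem_B.1 h0).2
    rw [D.u_anti (i := 0) (j := 4) (by decide)] at this
    exact D.hQ.zne (mul_eq_left.1 this)
  have hd := card_dvd_of_le (inf_le_left : D.B ≤ D.Q)
  rw [D.hQ.card] at hd h2
  obtain ⟨i, hi, e⟩ := (Nat.dvd_prime_pow Nat.prime_two).1 (show Nat.card D.B ∣ 2 ^ 5 from hd)
  rw [e] at h2 hne ⊢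
  interval_cases i <;> omega

/-- The homomorphism `perm` on `T`. -/
noncomputable def permT : D.T →* Equiv.Perm (Fin 5) where
  toFun x := D.perm x
  map_one' := D.perm_one
  map_mul' a b := D.perm_mul (D.T_le_C a.2) (D.T_le_C b.2)

theorem pair_of_B {b : G} (hb : b ∈ D.B) (hV : b ∉ D.V0) :
    ∃ i j, i ≠ j ∧ i ≠ 4 ∧ j ≠ 4 ∧ ∀ t, D.anti b t = decide (t = i ∨ t = j) := by
  obtain ⟨hbQ, hbw⟩ := D.mem_B.1 hb
  have h4 : D.anti b 4 = false := D.anti_false.2 hbw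
  rcases D.q_cases hbQ with e | e | ⟨i, hi⟩ | ⟨i, j, hij, hi⟩
  · exact absurd (Or.inl e) hV
  · exact absurd (Or.inr (Or.inl e)) hV
  · exfalso
    have hp : D.anti b 4 = decide (i ≠ 4) := by
      rcases hi with rfl | rfl
      · exact D.anti_u i 4
      · rw [D.anti_mul_z (D.uQ i), D.anti_u]
    rw [h4] at hp
    have : i = 4 := by simpa using hp.symm
    subst this
    exact hV (Or.inr (Or.inr hi))
  · have hp : ∀ t, D.anti b t = decide (t = i ∨ t = j) := fun t => by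
      rcases hi with rfl | rfl
      · exact D.anti_uu' hij t
      · rw [D.anti_mul_z (mul_mem (D.uQ i) (D.uQ j)), D.anti_uu' hij]
    have e := hp 4
    rw [h4] at e
    simp only [Bool.false_eq, decide_eq_false_iff_not, not_or] at e
    exact ⟨i, j, hij, Ne.symm e.1, Ne.symm e.2, hp⟩

/-- An element inverting or fixing `b` maps one point of its pair to the other. -/
theorem pair_moved {b x : G} (hbQ : b ∈ D.Q) {i j : Fin 5} (hi : i ≠ 4)
    (hp : ∀ t, D.anti b t = decide (t = i ∨ t = j)) (hx : x * D.z = D.z * x) (hσ : DT (D.perm x))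
    (h : x * b * x⁻¹ = b ∨ x * b * x⁻¹ = b * D.z) : D.perm x i = j := by
  have e := D.anti_conj hx hbQ i
  have hpx : D.anti (x * b * x⁻¹) (D.perm x i) = D.anti b (D.perm x i) := by
    rcases h with h | h <;> rw [h]
    exact D.anti_mul_z hbQ _
  rw [hpx, hp, hp] at e
  simpa [hσ.2.2 i hi] using e

theorem dt_unique {b x y : G} (hb : b ∈ D.B) (hV : b ∉ D.V0) (hx : x * D.z = D.z * x) (hσ : DT (D.perm x))
    (h : x * b * x⁻¹ = b ∨ x * b * x⁻¹ = b * D.z) (hy : y * D.z = D.z * y) (hτ : DT (D.perm y))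
    (h' : y * b * y⁻¹ = b ∨ y * b * y⁻¹ = b * D.z) : D.perm x = D.perm y := by
  obtain ⟨i, j, -, hi, -, hp⟩ := D.pair_of_B hb hV
  exact dt_eq_of_apply _ hσ _ hτ i hi
    ((D.pair_moved hb.1 hi hp hx hσ h).trans (D.pair_moved hb.1 hi hp hy hτ h').symm)

theorem b_unique {b b' x : G} (hb : b ∈ D.B) (hV : b ∉ D.V0) (hb' : b' ∈ D.B) (hV' : b' ∉ D.V0)
    (hx : x * D.z = D.z * x) (hσ : DT (D.perm x)) (h : x * b * x⁻¹ = b ∨ x * b * x⁻¹ = b * D.z)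
    (h' : x * b' * x⁻¹ = b' ∨ x * b' * x⁻¹ = b' * D.z) : b⁻¹ * b' ∈ D.V0 := by
  obtain ⟨i, j, -, hi, -, hp⟩ := D.pair_of_B hb hV
  obtain ⟨k, l, -, hk, -, hp'⟩ := D.pair_of_B hb' hV'
  obtain rfl := D.pair_moved hb.1 hi hp hx hσ h
  obtain rfl := D.pair_moved hb'.1 hk hp' hx hσ h'
  rcases dt_two_pairs _ hσ i k hi hk with e | e
  · rcases D.anti_inj hb.1 hb'.1 (fun t => by rw [hp, hp', e]) with r | r
    · rw [r, inv_mul_cancel]; exact one_mem _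
    · rw [r, inv_mul_cancel_left]; exact Or.inr (Or.inl rfl)
  · have hbb : ∀ t, D.anti (b⁻¹ * b') t = D.anti D.w t := fun t => by
      have hh := D.anti_mul hb.1 (mul_mem (inv_mem hb.1) hb'.1) t
      rw [mul_inv_cancel_left, hp, hp'] at hh
      rw [D.anti_u, ← e t]
      revert hh
      cases D.anti (b⁻¹ * b') t <;> cases decide (t = i ∨ t = D.perm x i) <;>
        cases decide (t = k ∨ t = D.perm x k) <;> simp
    rcases D.anti_inj (D.uQ 4) (mul_mem (inv_mem hb.1) hb'.1) (fun t => (hbb t).symm) with r | r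
    · exact Or.inr (Or.inr (Or.inl r))
    · exact Or.inr (Or.inr (Or.inr r))

theorem B_norm {x b : G} (hx : x ∈ D.CV) (hb : b ∈ D.B) : x * b * x⁻¹ ∈ D.B :=
  mem_inf.2 ⟨D.norm x (D.mem_CV.1 hx).1 b hb.1, mul_mem (mul_mem hx hb.2) (inv_mem hx)⟩

/-- An element normalising `C(⟨z, w⟩)` maps `B` into `T`. -/
theorem conj_B_le_T {n : G} (h1 : ∀ x ∈ D.CV, n * x * n⁻¹ ∈ D.CV) (h2 : ∀ x ∈ D.CV, n⁻¹ * x * n ∈ D.CV)
    {b : G} (hb : b ∈ D.B) : n * b * n⁻¹ ∈ D.T := by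
  have hc := h1 b hb.2
  have hcc := (D.mem_CV.1 hc).1
  have four : ∀ q ∈ D.Q, q ^ 4 = 1 := fun q hq => by
    rw [show (4 : ℕ) = 2 * 2 from rfl, pow_mul, pow_two, pow_two]
    rcases D.hQ.sq q hq with e | e <;> rw [e]
    · exact one_mul 1
    · exact D.hz2
  let cc : centralizer ({D.z} : Set G) := ⟨_, D.mem_C.2 hcc⟩
  refine ⟨hc, v4_of_comm _ (D.perm_four _) ?_ fun κ hκ _ => ?_⟩
  · rw [show D.perm (n * b * n⁻¹) = D.φ cc from D.perm_coe cc, ← map_pow, show cc ^ 4 = 1 from Subtype.ext (by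
      show (n * b * n⁻¹) ^ 4 = 1
      rw [conj_pow, four b hb.1, mul_one, mul_inv_cancel]), map_one]
  · obtain ⟨k, hk, rfl⟩ := D.perm_surj_CV hκ
    let kc : centralizer ({D.z} : Set G) := ⟨k, D.mem_C.2 (D.mem_CV.1 hk).1⟩
    have hq : n⁻¹ * k * n * b * (n⁻¹ * k * n)⁻¹ * b⁻¹ ∈ D.Q := mul_mem (D.B_norm (h2 k hk) hb).1 (inv_mem hb.1)
    rw [show D.perm (n * b * n⁻¹) = D.φ cc from D.perm_coe cc, show D.perm k = D.φ kc from D.perm_coe kc,
      ← map_inv, ← map_inv, ← map_mul, ← map_mul, ← map_mul, ← map_pow,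
      show (kc * cc * kc⁻¹ * cc⁻¹) ^ 4 = 1 from Subtype.ext (by
        show (k * (n * b * n⁻¹) * k⁻¹ * (n * b * n⁻¹)⁻¹) ^ 4 = 1
        rw [show k * (n * b * n⁻¹) * k⁻¹ * (n * b * n⁻¹)⁻¹ =
          n * (n⁻¹ * k * n * b * (n⁻¹ * k * n)⁻¹ * b⁻¹) * n⁻¹ by group, conj_pow, four _ hq, mul_one,
          mul_inv_cancel]), map_one]

/-- An element moving `z` to `w` and normalising the four group. -/
def Mover (g : G) : Prop :=
  g * D.z * g⁻¹ = D.w ∧ (g⁻¹ * D.z * g = D.w ∨ g⁻¹ * D.z * g = D.w * D.z)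

theorem exists_mover (hns : ¬ Group.IsSolvable G) : ∃ g, D.Mover g := D.exists_move hns

variable {g : G}

theorem Mover.conj_w (hg : D.Mover g) : g * D.w * g⁻¹ = D.z ∨ g * D.w * g⁻¹ = D.z * D.w := by
  rcases hg.2 with e | e
  · left; rw [← e]; group
  · right
    rw [← mul_inv_eq_iff_eq_mul.2 (show D.z * D.w = D.z * D.w from rfl)]
    have e' : D.w = g⁻¹ * D.z * g * D.z := by rw [e, mul_assoc, D.hz2, mul_one]
    conv_lhs => rw [e']
    rw [show g * (g⁻¹ * D.z * g * D.z) * g⁻¹ = D.z * (g * D.z * g⁻¹) by group, hg.1, mul_inv_cancel_right]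

theorem Mover.conj_CV (hg : D.Mover g) {x : G} (hx : x ∈ D.CV) : g * x * g⁻¹ ∈ D.CV := by
  obtain ⟨h1, h2⟩ := D.mem_CV.1 hx
  have a : g * x * g⁻¹ * D.w = D.w * (g * x * g⁻¹) := by
    rw [← hg.1, conj_mul, conj_mul, h1]
  have b : g * x * g⁻¹ * (g * D.w * g⁻¹) = g * D.w * g⁻¹ * (g * x * g⁻¹) := by rw [conj_mul, conj_mul, h2]
  rw [D.mem_CV]
  refine ⟨?_, a⟩
  rcases Mover.conj_w D hg with e | e <;> rw [e] at b
  · exact b
  · rw [mul_assoc D.z D.w, ← a, ← mul_assoc, ← mul_assoc] at b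
    exact mul_right_cancel b

theorem Mover.conj_CV' (hg : D.Mover g) {x : G} (hx : x ∈ D.CV) : g⁻¹ * x * g ∈ D.CV := by
  obtain ⟨h1, h2⟩ := D.mem_CV.1 hx
  have a : g⁻¹ * x * g * D.z = D.z * (g⁻¹ * x * g) := D.pull_z (by rw [hg.1]; exact h2)
  have b : g⁻¹ * x * g * (g⁻¹ * D.z * g) = g⁻¹ * D.z * g * (g⁻¹ * x * g) := pull_comm h1
  rw [D.mem_CV]
  refine ⟨a, ?_⟩
  rcases hg.2 with e | e <;> rw [e] at b
  · exact b
  · rw [mul_assoc D.w D.z, ← a, ← mul_assoc, ← mul_assoc] at b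
    exact mul_right_cancel b

theorem Mover.mem_V0 (hg : D.Mover g) {x : G} (hx : x ∈ D.V0) : g * x * g⁻¹ ∈ D.V0 := by
  have hw := Mover.conj_w D hg
  have hwV : g * D.w * g⁻¹ ∈ D.V0 := by
    rcases hw with e | e <;> rw [e]
    · exact Or.inr (Or.inl rfl)
    · exact mul_mem (Or.inr (Or.inl rfl)) (Or.inr (Or.inr (Or.inl rfl)))
  have hzV : g * D.z * g⁻¹ ∈ D.V0 := hg.1 ▸ Or.inr (Or.inr (Or.inl rfl))
  rcases hx with rfl | rfl | rfl | rfl
  · rw [mul_one, mul_inv_cancel]; exact one_mem _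
  · exact hzV
  · exact hwV
  · rw [← conj_mul]; exact mul_mem hwV hzV

theorem conj_B_inter (hg : D.Mover g) {b : G} (hb : b ∈ D.B) (h : g * b * g⁻¹ ∈ D.Q) :
    g * b * g⁻¹ ∈ D.V0 := by
  have hB : g * b * g⁻¹ ∈ D.B := ⟨h, Mover.conj_CV D hg hb.2⟩
  refine D.B_invol hB ?_
  rw [conj_mul]
  rcases D.hQ.sq b hb.1 with e | e <;> rw [e]
  · rw [mul_one, mul_inv_cancel]
  · exfalso
    rcases D.hQ.sq _ h with e2 | e2 <;> rw [conj_mul, e, hg.1] at e2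
    · exact D.u_ne_one 4 e2
    · exact D.u_ne_z 4 e2

theorem card_T : Nat.card D.T = 64 := by
  have hker : D.permT.ker = D.B.subgroupOf D.T := by
    ext x
    rw [MonoidHom.mem_ker, mem_subgroupOf]
    exact ⟨fun h => ⟨(D.perm_eq_one (D.T_le_C x.2)).1 h, x.2.1⟩, fun h => (D.perm_eq_one (D.T_le_C x.2)).2 h.1⟩
  have hr : Nat.card D.permT.range = 4 := by
    rw [← v4_card]
    refine Nat.card_congr (Equiv.subtypeEquivRight fun σ => ⟨?_, fun h => ?_⟩)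
    · rintro ⟨x, rfl⟩; exact x.2.2
    · have h4 : σ 4 = 4 := by
        rcases h with rfl | h
        · rfl
        · exact h.1
      obtain ⟨x, hx, rfl⟩ := D.perm_surj_CV h4
      exact ⟨⟨x, hx, h⟩, rfl⟩
  have h := D.permT.ker.card_mul_index
  rw [index_ker, hr, hker, Nat.card_congr (subgroupOfEquivOfLe D.B_le_T).toEquiv, D.card_B] at h
  omega

/-- The conjugate of `B` covers the double transpositions. -/
theorem exists_c (hg : D.Mover g) {σ : Equiv.Perm (Fin 5)} (hσ : DT σ) :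
    ∃ q ∈ D.B, q ∉ D.V0 ∧ D.perm (g * q * g⁻¹) = σ := by
  let f : D.B →* D.T :=
    { toFun := fun q => ⟨g * q * g⁻¹, D.conj_B_le_T (fun _ => Mover.conj_CV D hg) (fun _ => Mover.conj_CV' D hg) q.2⟩
      map_one' := Subtype.ext (by show g * 1 * g⁻¹ = 1; group)
      map_mul' := fun a b => Subtype.ext (by
        show g * ((a : G) * b) * g⁻¹ = g * a * g⁻¹ * (g * b * g⁻¹); group) }
  have hk : Nat.card (D.permT.comp f).ker ≤ 4 := by
    have hsub : ∀ q : (D.permT.comp f).ker, g * ((q : D.B) : G) * g⁻¹ ∈ D.V0 := fun q =>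
      D.conj_B_inter hg q.1.2 ((D.perm_eq_one (D.T_le_C (f q.1).2)).1 q.2)
    have := Nat.card_le_card_of_injective (fun q => (⟨_, hsub q⟩ : D.V0)) fun a b h => by
      have e : g * ((a : D.B) : G) * g⁻¹ = g * ((b : D.B) : G) * g⁻¹ := congrArg Subtype.val h
      exact Subtype.ext (Subtype.ext (mul_left_cancel (mul_right_cancel e)))
    rwa [card_four] at this
  have hr : 4 ≤ Nat.card (D.permT.comp f).range := by
    have h := (D.permT.comp f).ker.card_mul_index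
    rw [index_ker, D.card_B] at h
    by_contra hlt
    have := Nat.mul_le_mul hk (show Nat.card (D.permT.comp f).range ≤ 3 by omega)
    omega
  have hset : ((D.permT.comp f).range : Set (Equiv.Perm (Fin 5))) = {σ | σ = 1 ∨ DT σ} := by
    refine Set.eq_of_subset_of_ncard_le ?_ ?_ (Set.toFinite _)
    · rintro _ ⟨q, rfl⟩; exact (f q).2.2
    · rw [← Nat.card_coe_set_eq, ← Nat.card_coe_set_eq]
      exact (v4_card).le.trans hr
  obtain ⟨q, hq⟩ := hset.ge (show σ ∈ {σ : Equiv.Perm (Fin 5) | σ = 1 ∨ DT σ} from Or.inr hσ)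
  refine ⟨q, q.2, fun hV => hσ.ne_one ?_, hq⟩
  rw [← hq]
  show D.perm (g * (q : G) * g⁻¹) = 1
  exact (D.perm_eq_one (D.T_le_C (f q).2)).2 (D.V0_le_B (Mover.mem_V0 D hg hV)).1

/-- The partner of an element of the conjugate of `B`. -/
theorem exists_b (hg : D.Mover g) {q : G} (hq : q ∈ D.B) (hV : q ∉ D.V0) :
    ∃ b ∈ D.B, b ∉ D.V0 ∧ g * q * g⁻¹ * b = b * (g * q * g⁻¹) := by
  set c := g * q * g⁻¹
  have hcV : c ∈ D.CV := Mover.conj_CV D hg hq.2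
  have hc2 : c * c = D.w := by rw [conj_mul, D.B_sq hq hV, hg.1]
  set c' := D.u 0 * c * (D.u 0)⁻¹ with hc'
  have hc'2 : c' * c' = D.w * D.z := by rw [hc', conj_mul, hc2, D.u0_conj]
  set b := c⁻¹ * c' with hb
  have hbB : b ∈ D.B := by
    refine mem_inf.2 ⟨?_, mul_mem (inv_mem hcV) (D.u0_CV hcV)⟩
    rw [hb, hc', show c⁻¹ * (D.u 0 * c * (D.u 0)⁻¹) = (c⁻¹ * D.u 0 * c⁻¹⁻¹) * (D.u 0)⁻¹ by group]
    exact mul_mem (D.norm _ (D.mem_CV.1 (inv_mem hcV)).1 _ (D.uQ 0)) (inv_mem (D.uQ 0))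
  have hcb : c * b = c' := mul_inv_cancel_left _ _
  have hbV : b ∉ D.V0 := fun h => by
    have hb2 : b * b = 1 := by
      rcases h with e | e | e | e <;> rw [e]
      exacts [one_mul 1, D.hz2, D.uu 4, D.wz_sq]
    have e : c' * c' = D.w := by
      rw [← hcb, mul_assoc c b, ← mul_assoc b c b, ← D.V0_comm h hcV, mul_assoc c b b, hb2, mul_one, hc2]
    rw [hc'2] at e
    exact D.hQ.zne (mul_eq_left.1 e)
  refine ⟨b, hbB, hbV, ?_⟩
  have e : c * b * (c * b) = c * c * (b * b) := by rw [hcb, hc'2, hc2, D.B_sq hbB hbV]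
  have e' : c * (b * c) * b = c * (c * b) * b := by
    calc c * (b * c) * b = c * b * (c * b) := by group
      _ = c * c * (b * b) := e
      _ = _ := by group
  exact (mul_left_cancel (mul_right_cancel e')).symm

/-- `T` is generated by `B` and its conjugate. -/
theorem T_le_of (hg : D.Mover g) {K : Subgroup G} (hB : D.B ≤ K) (hBu : ∀ q ∈ D.B, g * q * g⁻¹ ∈ K) :
    D.T ≤ K := by
  intro x hx
  rcases hx.2 with h | h
  · exact hB ⟨(D.perm_eq_one (D.T_le_C hx)).1 h, hx.1⟩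
  · obtain ⟨q, hq, -, hp⟩ := D.exists_c hg h
    have hcT := D.conj_B_le_T (fun _ => Mover.conj_CV D hg) (fun _ => Mover.conj_CV' D hg) hq
    have hd : (g * q * g⁻¹)⁻¹ * x ∈ D.B := by
      refine mem_inf.2 ⟨?_, mul_mem (inv_mem hcT.1) hx.1⟩
      rw [← D.perm_eq_one (D.T_le_C (mul_mem (inv_mem hcT) hx)), D.perm_mul (D.T_le_C (inv_mem hcT)) (D.T_le_C hx),
        D.perm_inv (D.T_le_C hcT), hp, inv_mul_cancel]
    have := mul_mem (hBu q hq) (hB hd)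
    rwa [mul_inv_cancel_left] at this

/-- The commutator of two elements from different classes. -/
theorem cross (hg : D.Mover g) {q b q' : G} (hq : q ∈ D.B) (hV : q ∉ D.V0) (hb : b ∈ D.B) (hbV : b ∉ D.V0)
    (hq' : q' ∈ D.B) (hV' : q' ∉ D.V0)
    (hcb : g * q' * g⁻¹ * b = b * (g * q' * g⁻¹)) (hσ : DT (D.perm (g * q * g⁻¹)))
    (hτ : DT (D.perm (g * q' * g⁻¹))) (hne : D.perm (g * q * g⁻¹) ≠ D.perm (g * q' * g⁻¹)) :
    g * q * g⁻¹ * b = b * (g * q * g⁻¹) * (D.z * D.w) := by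
  set c := g * q * g⁻¹ with hc
  set c' := g * q' * g⁻¹ with hc'
  have hcV : c ∈ D.CV := Mover.conj_CV D hg hq.2
  have hc'V : c' ∈ D.CV := Mover.conj_CV D hg hq'.2
  set e := (b * c)⁻¹ * (c * b) with he
  have hce : c * b = b * c * e := (mul_inv_cancel_left _ _).symm
  have hx' : g⁻¹ * b * g ∈ D.T := by
    have := D.conj_B_le_T (n := g⁻¹) (fun x hx => by rw [inv_inv]; exact Mover.conj_CV' D hg hx)
      (fun x hx => by rw [inv_inv]; exact Mover.conj_CV D hg hx) hb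
    rwa [inv_inv] at this
  have heB : e ∈ D.B := by
    rw [he, show (b * c)⁻¹ * (c * b) = (c⁻¹ * b⁻¹ * c⁻¹⁻¹) * b by group]
    exact mul_mem (D.B_norm (inv_mem hcV) (inv_mem hb)) hb
  have heV : e ∈ D.V0 := by
    have hpre : q⁻¹ * ((g⁻¹ * b * g)⁻¹ * q * (g⁻¹ * b * g)⁻¹⁻¹) ∈ D.B :=
      mul_mem (inv_mem hq) (D.B_norm (inv_mem hx'.1) hq)
    have e1 : g * (q⁻¹ * ((g⁻¹ * b * g)⁻¹ * q * (g⁻¹ * b * g)⁻¹⁻¹)) * g⁻¹ = e := by rw [he, hc]; group
    rw [← e1]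
    exact D.conj_B_inter hg hpre (by rw [e1]; exact heB.1)
  -- not in the centre of `Q`
  have hn1 : e ≠ 1 ∧ e ≠ D.z := by
    constructor <;> intro h <;> apply hne <;>
      refine D.dt_unique hb hbV (D.mem_CV.1 hcV).1 hσ ?_ (D.mem_CV.1 hc'V).1 hτ
        (Or.inl (mul_inv_eq_iff_eq_mul.2 hcb))
    · left; rw [mul_inv_eq_iff_eq_mul, hce, h, mul_one]
    · right; rw [mul_inv_eq_iff_eq_mul, hce, h, mul_assoc, (D.mem_CV.1 hcV).1, ← mul_assoc]
  have hn2 : e ≠ D.w := by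
    intro h
    apply hne
    have hxT := hx'
    set x := g⁻¹ * b * g with hx
    have hxC : x * D.z = D.z * x := D.T_le_C hxT
    have hxσ : DT (D.perm x) := by
      refine hxT.2.resolve_left fun h1 => hbV ?_
      have hxB : x ∈ D.B := ⟨(D.perm_eq_one hxC).1 h1, hxT.1⟩
      have := D.conj_B_inter hg hxB (by rw [hx, back]; exact hb.1)
      rwa [hx, back] at this
    have h1 : x * q' * x⁻¹ = q' := by
      rw [mul_inv_eq_iff_eq_mul]
      calc x * q' = g⁻¹ * (b * c') * g := by rw [hx, hc']; group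
        _ = g⁻¹ * (c' * b) * g := by rw [hcb]
        _ = q' * x := by rw [hx, hc']; group
    have h2 : x * q * x⁻¹ = q * D.z := by
      have hwb : b * c * D.w = c * b := by rw [hce, h]
      have hzw : g⁻¹ * D.w * g = D.z := by rw [← hg.1]; group
      rw [mul_inv_eq_iff_eq_mul]
      calc x * q = g⁻¹ * (b * c) * g := by rw [hx, hc]; group
        _ = g⁻¹ * (b * c * D.w * D.w) * g := by rw [mul_assoc (b * c), D.uu, mul_one]
        _ = g⁻¹ * (c * b * D.w) * g := by rw [hwb]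
        _ = q * x * (g⁻¹ * D.w * g) := by rw [hx, hc]; group
        _ = q * D.z * x := by rw [hzw, mul_assoc, hxC, ← mul_assoc]
    have hV0 := D.b_unique hq hV hq' hV' hxC hxσ (Or.inr h2) (Or.inl h1)
    have h3 : c⁻¹ * c' ∈ D.V0 := by
      rw [show c⁻¹ * c' = g * (q⁻¹ * q') * g⁻¹ by rw [hc, hc']; group]
      exact Mover.mem_V0 D hg hV0
    have hci := inv_mem (show c ∈ D.CV from hcV)
    have h4 : D.perm (c⁻¹ * c') = 1 :=
      (D.perm_eq_one (D.mem_CV.1 (mul_mem hci hc'V)).1).2 (D.V0_le_B h3).1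
    rwa [D.perm_mul (D.mem_CV.1 hci).1 (D.mem_CV.1 hc'V).1, D.perm_inv (D.mem_CV.1 hcV).1, inv_mul_eq_one] at h4
  rcases heV with h | h | h | h
  · exact absurd h hn1.1
  · exact absurd h hn1.2
  · exact absurd h hn2
  · rw [hce, h, D.w_comm_z]

/-- `T` is of type `PSL₃(4)`. -/
theorem exists_hom_T (hg : D.Mover g) : ∃ f : H3 →* G, Function.Injective f ∧ f.range = D.T ∧
    DT (D.perm (f ⟨1, 0, 0⟩)) ∧ f ⟨1, 0, 0⟩ * f ⟨1, 0, 0⟩ = 1 := by
  obtain ⟨hd1, hd2, hd12, hd3⟩ := dt_pair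
  obtain ⟨q1, hq1, hV1, hp1⟩ := D.exists_c hg hd1
  obtain ⟨q2, hq2, hV2, hp2⟩ := D.exists_c hg hd2
  obtain ⟨b1, hb1, hbV1, hcb1⟩ := D.exists_b hg hq1 hV1
  obtain ⟨b2, hb2, hbV2, hcb2⟩ := D.exists_b hg hq2 hV2
  set c1 := g * q1 * g⁻¹ with hc1
  set c2 := g * q2 * g⁻¹ with hc2
  have h21 : c2 * b1 = b1 * c2 * (D.z * D.w) :=
    D.cross hg hq2 hV2 hb1 hbV1 hq1 hV1 hcb1 (hp2 ▸ hd2) (hp1 ▸ hd1) (by rw [hp1, hp2]; exact hd12.symm)
  have h12 : c1 * b2 = b2 * c1 * (D.z * D.w) :=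
    D.cross hg hq1 hV1 hb2 hbV2 hq2 hV2 hcb2 (hp1 ▸ hd1) (hp2 ▸ hd2) (by rw [hp1, hp2]; exact hd12)
  have hc1V : c1 ∈ D.CV := Mover.conj_CV D hg hq1.2
  have hc2V : c2 ∈ D.CV := Mover.conj_CV D hg hq2.2
  have hzw1 : D.z * D.w ≠ 1 := fun e => D.u_ne_z 4 (by
    show D.w = D.z
    rw [← inv_eq_of_mul_eq_one_right e, D.z_inv])
  have hb12 : b1 * b2 ∉ D.V0 := fun h => by
    have e0 : b1⁻¹ = b1 * D.z := inv_eq_of_mul_eq_one_right (by rw [← mul_assoc, D.B_sq hb1 hbV1, D.hz2])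
    have h' : b1⁻¹ * b2 ∈ D.V0 := by
      rw [e0, mul_assoc, ← D.comm_of_mem hb2.1, ← mul_assoc]
      exact mul_mem h (Or.inr (Or.inl rfl))
    have e : c1 * b2 = b2 * c1 := by
      rw [show b2 = b1 * (b1⁻¹ * b2) from (mul_inv_cancel_left _ _).symm, ← mul_assoc c1, hcb1, mul_assoc,
        D.V0_comm h' hc1V, ← mul_assoc]
    rw [h12] at e
    exact hzw1 (mul_eq_left.1 e)
  have hbb : b2 * b1 = b1 * b2 * D.z := by
    have h := D.B_sq (mul_mem hb1 hb2) hb12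
    have hi : ∀ {b : G}, b ∈ D.B → b ∉ D.V0 → b⁻¹ = b * D.z := fun hb hV =>
      inv_eq_of_mul_eq_one_right (by rw [← mul_assoc, D.B_sq hb hV, D.hz2])
    calc b2 * b1 = b1⁻¹ * (b1 * b2 * (b1 * b2)) * b2⁻¹ := by group
      _ = b1 * (D.z * D.z) * b2 * D.z := by rw [h, hi hb1 hbV1, hi hb2 hbV2]; group
      _ = _ := by rw [D.hz2, mul_one]
  have hq12 : q1 * q2 ∉ D.V0 := fun h => by
    apply hd3.ne_one
    have hmem : c1 * c2 ∈ D.V0 := by
      rw [hc1, hc2, conj_mul]; exact Mover.mem_V0 D hg h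
    rw [← hp1, ← hp2, ← D.perm_mul (D.mem_CV.1 hc1V).1 (D.mem_CV.1 hc2V).1]
    exact (D.perm_eq_one (D.mem_CV.1 (mul_mem hc1V hc2V)).1).2 (D.V0_le_B hmem).1
  have hs1 : c1 * c1 = D.w := by rw [hc1, conj_mul, D.B_sq hq1 hV1, hg.1]
  have hs2 : c2 * c2 = D.w := by rw [hc2, conj_mul, D.B_sq hq2 hV2, hg.1]
  have hcc : c2 * c1 = c1 * c2 * D.w := by
    have h : c1 * c2 * (c1 * c2) = D.w := by
      rw [hc1, hc2, conj_mul, conj_mul, D.B_sq (mul_mem hq1 hq2) hq12, hg.1]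
    have hi : ∀ {c : G}, c * c = D.w → c⁻¹ = c * D.w := fun h =>
      inv_eq_of_mul_eq_one_right (by rw [← mul_assoc, h, D.uu])
    calc c2 * c1 = c1⁻¹ * (c1 * c2 * (c1 * c2)) * c2⁻¹ := by group
      _ = c1 * (D.w * D.w) * c2 * D.w := by rw [h, hi hs1, hi hs2]; group
      _ = _ := by rw [D.uu, mul_one]
  have hcen : ∀ x ∈ ({b1, b2, c1, c2} : Set G), x * D.z = D.z * x ∧ x * D.w = D.w * x := by
    rintro x (rfl | rfl | rfl | rfl)
    exacts [D.mem_CV.1 hb1.2, D.mem_CV.1 hb2.2, D.mem_CV.1 hc1V, D.mem_CV.1 hc2V]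
  obtain ⟨f, f1, f2, f3, f4, f5, f6⟩ := frame_rels D.hz2 (D.uu 4) D.w_comm_z hcen (D.B_sq hb1 hbV1)
    (D.B_sq hb2 hbV2) hs1 hs2 hbb hcc hcb1 hcb2 h12 h21
  have hT1 : ∀ {q : G}, q ∈ D.B → g * q * g⁻¹ ∈ D.T := fun hq =>
    D.conj_B_le_T (fun _ => Mover.conj_CV D hg) (fun _ => Mover.conj_CV' D hg) hq
  have hker : ∀ x : H3, f x = 1 → x = 1 := by
    have hfc : ∀ c : K4, f ⟨0, 0, c⟩ = 1 → c = 0 := by
      intro c hc
      cases c
      · rfl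
      · exact absurd (f5.symm.trans hc) (D.u_ne_one 4)
      · exact absurd (f6.symm.trans hc) D.hQ.zne
      · exfalso
        rw [show (⟨0, 0, K4.w2⟩ : H3) = ⟨0, 0, 1⟩ * ⟨0, 0, K4.w⟩ by decide, map_mul, f5, f6] at hc
        exact hzw1 (D.w_comm_z.symm.trans hc)
    intro x hx
    have hcomm : ∀ y : H3, f (x * y * x⁻¹ * y⁻¹) = 1 := fun y => by
      rw [map_mul, map_mul, map_mul, map_inv, map_inv, hx]; group
    have ha : x.a = 0 := hfc _ (by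
      have h := hcomm ⟨0, 1, 0⟩
      rwa [h3_comm_a x] at h)
    have hb : x.b = 0 := hfc _ (by
      have h := hcomm ⟨1, 0, 0⟩
      rwa [h3_comm_b x] at h)
    have hx' : x = ⟨0, 0, x.c⟩ := H3.ext ha hb rfl
    rw [hx'] at hx ⊢
    rw [hfc _ hx]
    rfl
  have hinj : Function.Injective f := fun a b h => mul_inv_eq_one.1 (hker _ (by
    rw [map_mul, map_inv, h, mul_inv_cancel]))
  refine ⟨f, hinj, ?_, ?_, ?_⟩
  · have hle : f.range ≤ D.T := by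
      rintro _ ⟨x, rfl⟩
      have key : ∀ a b c : K4, f ⟨a, b, c⟩ ∈ D.T := by
        have hA : ∀ a : K4, f ⟨a, 0, 0⟩ ∈ D.T := by
          have h1 : f ⟨1, 0, 0⟩ ∈ D.T := by rw [f1]; exact mul_mem (D.B_le_T hb1) (hT1 hq2)
          have h2 : f ⟨K4.w, 0, 0⟩ ∈ D.T := by
            rw [f2]; exact mul_mem (D.B_le_T hb2) (mul_mem (hT1 hq1) (hT1 hq2))
          intro a
          cases a
          · exact (map_one f).symm ▸ one_mem D.T
          · exact h1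
          · exact h2
          · rw [show (⟨K4.w2, 0, 0⟩ : H3) = ⟨1, 0, 0⟩ * ⟨K4.w, 0, 0⟩ by decide, map_mul]
            exact mul_mem h1 h2
        have hB : ∀ b : K4, f ⟨0, b, 0⟩ ∈ D.T := by
          have h1 : f ⟨0, 1, 0⟩ ∈ D.T := by
            rw [f3]; exact mul_mem (D.B_le_T hb1) (mul_mem (hT1 hq1) (hT1 hq2))
          have h2 : f ⟨0, K4.w, 0⟩ ∈ D.T := by
            rw [f4]; exact mul_mem (mul_mem (D.B_le_T hb1) (D.B_le_T hb2)) (hT1 hq2)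
          intro b
          cases b
          · exact (map_one f).symm ▸ one_mem D.T
          · exact h1
          · exact h2
          · rw [show (⟨0, K4.w2, 0⟩ : H3) = ⟨0, 1, 0⟩ * ⟨0, K4.w, 0⟩ by decide, map_mul]
            exact mul_mem h1 h2
        have hC : ∀ c : K4, f ⟨0, 0, c⟩ ∈ D.T := by
          have h1 : f ⟨0, 0, 1⟩ ∈ D.T := by rw [f5]; exact D.B_le_T (D.V0_le_B (Or.inr (Or.inr (Or.inl rfl))))
          have h2 : f ⟨0, 0, K4.w⟩ ∈ D.T := by rw [f6]; exact D.B_le_T (D.V0_le_B (Or.inr (Or.inl rfl)))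
          intro c
          cases c
          · exact (map_one f).symm ▸ one_mem D.T
          · exact h1
          · exact h2
          · rw [show (⟨0, 0, K4.w2⟩ : H3) = ⟨0, 0, 1⟩ * ⟨0, 0, K4.w⟩ by decide, map_mul]
            exact mul_mem h1 h2
        intro a b c
        rw [h3_split a b c, map_mul, map_mul]
        exact mul_mem (mul_mem (hB b) (hA a)) (hC c)
      exact key x.a x.b x.c
    refine eq_of_le_of_card_ge hle ?_
    rw [D.card_T, ← Nat.card_congr (MonoidHom.ofInjective hinj).toEquiv, H3.card_eq]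
  · rw [f1, D.perm_mul (D.mem_CV.1 hb1.2).1 (D.mem_CV.1 hc2V).1,
      (D.perm_eq_one (D.mem_CV.1 hb1.2).1).2 hb1.1, one_mul, hp2]
    exact hd2
  · rw [← map_mul, show (⟨1, 0, 0⟩ : H3) * ⟨1, 0, 0⟩ = 1 by decide, map_one]

end Data

end Cfsg.Agent.PGLThreeFourType
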