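import Cfsg.Agent.Lib.PGLThreeFourType.Socle
import Cfsg.Agent.Lib.Cores.Subnormal
import Cfsg.Agent.S0111
import Cfsg.Agent.S1169
import Cfsg.Agent.S1225

/-!
# Involution centraliser `(D₈ * Q₈).S₄`: the Sylow 2-subgroup of the socle

* `dt_conj_z`: involutions over double transpositions are conjugate to `z`
* `exists_f`: involutions over transpositions
* `sylow_N`: `T` is a Sylow 2-subgroup of the simple normal subgroup
-/

set_option autoImplicit false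
set_option linter.unusedSectionVars false
set_option linter.style.haveILetI false

namespace Cfsg.Agent.PGLThreeFourType

open Cfsg Subgroup OrderJTwo

variable {G : Type*} [Group G] [Finite G]

theorem odd_to_cycle : ∀ σ : Equiv.Perm (Fin 5), σ 4 = 4 → Equiv.Perm.sign σ = -1 →
    ∃ κ : Equiv.Perm (Fin 5), κ 4 = 4 ∧ (κ * σ * κ⁻¹ * σ⁻¹) ^ 3 = 1 ∧ κ * σ * κ⁻¹ * σ⁻¹ ≠ 1 := by
  decide +kernel

theorem cycle_pair : ∀ κ : Equiv.Perm (Fin 5), κ 4 = 4 → κ ^ 3 = 1 → κ ≠ 1 → ∀ i j : Fin 5, i ≠ j → i ≠ 4 → j ≠ 4 →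
    ∃ t, decide (κ t = i ∨ κ t = j) ≠ decide (t = i ∨ t = j) := by decide +kernel

set_option synthInstance.maxSize 4096 in
theorem odd_normalizes : ∀ κ : Equiv.Perm (Fin 5), κ 4 = 4 → κ ^ 3 = 1 → κ ≠ 1 →
    ∀ σ : Equiv.Perm (Fin 5), σ 4 = 4 → Equiv.Perm.sign σ = -1 →
      (σ * κ * σ⁻¹ = κ ∨ σ * κ * σ⁻¹ = κ⁻¹) → σ * σ = 1 ∧ σ * κ * σ⁻¹ = κ⁻¹ := by decide +kernel

set_option synthInstance.maxSize 4096 in
theorem normalizer_cycle : ∀ κ : Equiv.Perm (Fin 5), κ 4 = 4 → κ ^ 3 = 1 → κ ≠ 1 →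
    ∀ σ : Equiv.Perm (Fin 5), σ 4 = 4 → σ * σ = 1 → σ * κ * σ⁻¹ = κ⁻¹ →
    ∀ τ : Equiv.Perm (Fin 5), τ 4 = 4 → τ ^ 4 = 1 → (τ * κ * τ⁻¹ = κ ∨ τ * κ * τ⁻¹ = κ⁻¹) →
      τ = 1 ∨ τ = σ ∨ τ = σ * κ ∨ τ = σ * (κ * κ) := by decide +kernel

theorem two_element_v4 : ∀ σ : Equiv.Perm (Fin 5), σ 4 = 4 → σ ^ 8 = 1 → Equiv.Perm.sign σ = 1 →
    σ = 1 ∨ DT σ := by decide +kernel

theorem pow_twelve : ∀ σ : Equiv.Perm (Fin 5), σ 4 = 4 → σ ^ 12 = 1 := by decide +kernel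

theorem v4_sign : ∀ σ : Equiv.Perm (Fin 5), (σ = 1 ∨ DT σ) → Equiv.Perm.sign σ = 1 := by decide +kernel

namespace Data

variable (D : Data G)

theorem CV_normal {c x : G} (hc : c * D.z = D.z * c) (hx : x ∈ D.CV) : c * x * c⁻¹ ∈ D.CV := by
  obtain ⟨h1, h2⟩ := D.mem_CV.1 hx
  have hcw : c * D.w * c⁻¹ = D.w ∨ c * D.w * c⁻¹ = D.w * D.z := by
    have := D.act' hc 4
    rwa [D.perm_four] at this
  have a : c * x * c⁻¹ * D.z = D.z * (c * x * c⁻¹) := by
    rw [← D.conj_z hc, conj_mul, conj_mul, h1]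
  have b : c * x * c⁻¹ * (c * D.w * c⁻¹) = c * D.w * c⁻¹ * (c * x * c⁻¹) := by rw [conj_mul, conj_mul, h2]
  rw [D.mem_CV]
  refine ⟨a, ?_⟩
  rcases hcw with e | e <;> rw [e] at b
  · exact b
  · rw [mul_assoc D.w D.z, ← a, ← mul_assoc, ← mul_assoc] at b
    exact mul_right_cancel b

theorem T_normal {c x : G} (hc : c * D.z = D.z * c) (hx : x ∈ D.T) : c * x * c⁻¹ ∈ D.T := by
  refine ⟨D.CV_normal hc hx.1, ?_⟩
  rw [D.perm_conj hc (D.T_le_C hx)]
  rcases hx.2 with e | e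
  · exact Or.inl (by rw [e, mul_one, mul_inv_cancel])
  · exact Or.inr ⟨by
        rw [Equiv.Perm.mul_apply, Equiv.Perm.mul_apply, Equiv.Perm.inv_eq_iff_eq.2 (D.perm_four c).symm, e.1,
          D.perm_four],
      by rw [conj_mul, e.2.1, mul_one, mul_inv_cancel], fun i hi h => by
        rw [Equiv.Perm.mul_apply, Equiv.Perm.mul_apply, ← Equiv.Perm.eq_inv_iff_eq] at h
        refine e.2.2 _ (fun h4 => hi ?_) h
        rw [Equiv.Perm.inv_eq_iff_eq, D.perm_four] at h4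
        exact h4⟩

theorem T_isPGroup : IsPGroup 2 D.T := IsPGroup.of_card (n := 6) (by rw [D.card_T]; rfl)

theorem T_le_sylow (P : Sylow 2 G) (hPC : (P : Subgroup G) ≤ centralizer ({D.z} : Set G)) :
    D.T ≤ (P : Subgroup G) := by
  haveI : Fact (Nat.Prime 2) := ⟨Nat.prime_two⟩
  haveI : (D.T.comap (centralizer ({D.z} : Set G)).subtype).Normal :=
    ⟨fun x hx c => D.T_normal (D.mem_C.1 c.2) hx⟩
  have h := L34Sylow.le_sylow_of_normal (D.T_isPGroup.comap_subtype (K := centralizer ({D.z} : Set G)))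
    (Sylow.subtype P hPC)
  intro x hx
  exact h (show (⟨x, D.mem_C.2 (D.T_le_C hx)⟩ : centralizer ({D.z} : Set G)) ∈ D.T.subgroupOf _ from hx)

theorem perm_pow_eq_one {x : G} (hx : x * D.z = D.z * x) {n : ℕ} (h : x ^ n = 1) : D.perm x ^ n = 1 := by
  let xc : centralizer ({D.z} : Set G) := ⟨x, D.mem_C.2 hx⟩
  rw [show D.perm x = D.φ xc from D.perm_coe xc, ← map_pow, show xc ^ n = 1 from Subtype.ext h, map_one]

/-- An element of order three over a 3-cycle fixes only the four group in `B`. -/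
theorem B_fixed {k b : G} (hk : k * D.z = D.z * k) (hκ3 : D.perm k ^ 3 = 1) (hκ1 : D.perm k ≠ 1) (hb : b ∈ D.B)
    (h : k * b = b * k) : b ∈ D.V0 := by
  by_contra hV
  obtain ⟨i, j, hij, hi, hj, hp⟩ := D.pair_of_B hb hV
  obtain ⟨t, ht⟩ := cycle_pair _ (D.perm_four k) hκ3 hκ1 i j hij hi hj
  have e := D.anti_conj hk hb.1 t
  rw [h, mul_inv_cancel_right, hp, hp] at e
  exact ht e

/-- In the centraliser of an involution outside `C(w)` there is one conjugate of `z` in a 2-group. -/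
theorem tau_unique (hns : ¬ Group.IsSolvable G) {x a b : G} (hxQ : x ∈ D.Q)
    (hxw : x * D.w ≠ D.w * x) (hax : a * x = x * a) (hbx : b * x = x * b) (hab : a * b = b * a)
    (ha : IsConj D.z a) (hb : IsConj D.z b) : a = b := by
  haveI : Fact (Nat.Prime 2) := ⟨Nat.prime_two⟩
  have hxz := D.comm_of_mem hxQ
  have key : ∀ y : G, y * D.z = D.z * y → y * x = x * y → IsConj D.z y → y = D.z := by
    intro y hyz hyx hy
    rcases D.conj_C hns hy hyz with e | e | e | e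
    · exact e
    · exact absurd (e ▸ hyx).symm hxw
    · refine absurd ?_ hxw
      have h' : D.w * D.z * x = x * (D.w * D.z) := e ▸ hyx
      rw [mul_assoc, ← hxz, ← mul_assoc, ← mul_assoc] at h'
      exact (mul_right_cancel h').symm
    · exfalso
      have hy2 : y * y = 1 := by obtain ⟨g, rfl⟩ := isConj_iff.1 hy; exact conj_invol g D.hz2
      have hV := (D.dt_cent hyz hy2 e).1 ⟨hxQ, hyx⟩
      simp only [Set.mem_insert_iff, Set.mem_singleton_iff] at hV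
      exact hxw (D.V0_comm (show x ∈ D.V0 from hV) (D.V0_le_B (Or.inr (Or.inr (Or.inl rfl)) : D.w ∈ D.V0)).2).symm
  set H := centralizer ({x} : Set G)
  have hzH : D.z ∈ H := mem_centralizer_singleton_iff.2 hxz.symm
  have hz2 : IsPGroup 2 (zpowers (⟨D.z, hzH⟩ : H)) := IsPGroup.of_card (n := 1) (by
    rw [Nat.card_zpowers, orderOf_mk, D.orderOf_z, pow_one])
  obtain ⟨R, hR⟩ := hz2.exists_le_sylow
  have hzR : (⟨D.z, hzH⟩ : H) ∈ (R : Subgroup H) := hR (mem_zpowers _)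
  -- `R` centralises `z`
  haveI : Group.IsNilpotent (R : Subgroup H) := R.2.isNilpotent
  set A : Subgroup (R : Subgroup H) := centralizer ({(⟨⟨D.z, hzH⟩, hzR⟩ : (R : Subgroup H))} : Set _) with hA
  have hAtop : A = ⊤ := by
    by_contra hne
    have hlt := Group.normalizerCondition_of_isNilpotent (G := (R : Subgroup H)) A (lt_top_iff_ne_top.2 hne)
    obtain ⟨n, hnN, hnA⟩ := SetLike.exists_of_lt hlt
    apply hnA
    have hm := (Subgroup.mem_normalizer_iff.1 hnN _).1 (mem_centralizer_singleton_iff.2 rfl :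
      (⟨⟨D.z, hzH⟩, hzR⟩ : (R : Subgroup H)) ∈ A)
    rw [hA, mem_centralizer_singleton_iff] at hm
    have e := key (((n : H) : G) * D.z * ((n : H) : G)⁻¹)
      (congrArg (fun r : (R : Subgroup H) => ((r : H) : G)) hm)
      (mem_centralizer_singleton_iff.1 (mul_mem (mul_mem (n : H).2 hzH) (inv_mem (n : H).2)))
      (isConj_iff.2 ⟨_, rfl⟩)
    exact mem_centralizer_singleton_iff.2 (Subtype.ext (Subtype.ext (mul_inv_eq_iff_eq_mul.1 e)))
  have hone : ∀ y : H, y ∈ (R : Subgroup H) → IsConj D.z (y : G) → (y : G) = D.z := fun y hy h =>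
    key _ (congrArg (fun r : (R : Subgroup H) => ((r : H) : G))
      (mem_centralizer_singleton_iff.1 (hAtop.ge (mem_top (⟨y, hy⟩ : (R : Subgroup H))))))
      (mem_centralizer_singleton_iff.1 y.2) h
  have hord : ∀ c : G, IsConj D.z c → orderOf c = 2 := fun c hc => by
    obtain ⟨g, rfl⟩ := isConj_iff.1 hc
    exact orderOf_eq_prime (by rw [pow_two]; exact conj_invol g D.hz2) (conj_ne_one D.hQ.zne)
  let aH : H := ⟨a, mem_centralizer_singleton_iff.2 hax⟩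
  let bH : H := ⟨b, mem_centralizer_singleton_iff.2 hbx⟩
  have hA2 : ∀ c : H, IsConj D.z (c : G) → IsPGroup 2 (zpowers c) := fun c hc => IsPGroup.of_card (n := 1) (by
    rw [Nat.card_zpowers, pow_one, ← Subgroup.orderOf_coe, hord _ hc])
  have hsup : IsPGroup 2 (zpowers aH ⊔ zpowers bH : Subgroup H) := by
    refine (hA2 aH ha).to_sup_of_normal_left' (hA2 bH hb) (zpowers_le.2 ?_)
    exact centralizer_le_normalizer _ (mem_centralizer_iff.2 fun c hc => by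
      obtain ⟨m, rfl⟩ := mem_zpowers_iff.1 hc
      exact ((show Commute aH bH from Subtype.ext hab).zpow_left m).eq)
  obtain ⟨R', hR'⟩ := hsup.exists_le_sylow
  obtain ⟨c, hc⟩ := MulAction.exists_smul_eq H R' R
  have hm : ∀ y : H, y ∈ (R' : Subgroup H) → c * y * c⁻¹ ∈ (R : Subgroup H) := fun y hy => by
    rw [← hc, Sylow.coe_subgroup_smul, mem_pointwise_smul_iff_inv_smul_mem]
    simpa [MulAut.smul_def, MulAut.conj_symm_apply, mul_assoc] using hy
  have e1 := hone _ (hm aH (hR' (mem_sup_left (mem_zpowers _)))) (ha.trans (isConj_iff.2 ⟨(c : G), rfl⟩))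
  have e2 := hone _ (hm bH (hR' (mem_sup_right (mem_zpowers _)))) (hb.trans (isConj_iff.2 ⟨(c : G), rfl⟩))
  have e : (c : G) * a * (c : G)⁻¹ = (c : G) * b * (c : G)⁻¹ := e1.trans e2.symm
  exact mul_left_cancel (mul_right_cancel e)

section

variable {N : Subgroup G} [hN : N.Normal] {g : G} (hns : ¬ Group.IsSolvable G) (hg : D.Mover g)
  (hsimple : IsSimpleGroup N) (hna : ¬ IsMulCommutative N) (hT : D.T ≤ N)

include hns hg hsimple hna hT in
/-- Involutions over double transpositions are conjugate to `z`. -/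
theorem dt_conj_z {x : G} (hx : x * D.z = D.z * x) (hx2 : x * x = 1) (hσ : DT (D.perm x)) : IsConj D.z x := by
  haveI : Fact (Nat.Prime 2) := ⟨Nat.prime_two⟩
  haveI := hsimple
  obtain ⟨f, hfinj, hfr, hfσ, hf2⟩ := D.exists_hom_T hg
  set x0 := f ⟨1, 0, 0⟩ with hx0
  have hfT : ∀ a, f a ∈ D.T := fun a => hfr ▸ ⟨a, rfl⟩
  refine IsConj.trans ?_ (D.dt_all (D.T_le_C (hfT _)) hf2 hfσ hx hx2 hσ)
  by_contra hno
  have hnoDT : ∀ y : G, y * D.z = D.z * y → IsConj D.z y → ¬ DT (D.perm y) := fun y hy hc hd => hno <| by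
    have hy2 : y * y = 1 := by obtain ⟨c, rfl⟩ := isConj_iff.1 hc; exact conj_invol c D.hz2
    exact hc.trans (D.dt_all hy hy2 hd (D.T_le_C (hfT _)) hf2 hfσ)
  obtain ⟨P, hQP⟩ := D.exists_sylow
  obtain ⟨hPC, -⟩ := D.sylow_facts P hQP
  have hTP := D.T_le_sylow P hPC
  obtain ⟨PN, hPN⟩ := Cores.sylow_inf_isSubnormal P (Subgroup.Normal.isSubnormal (inferInstance : N.Normal))
  have hVN : D.V0 ≤ N := fun a ha => hT (D.B_le_T (D.V0_le_B ha))
  have hzN : D.z ∈ N := hVN (Or.inr (Or.inl rfl))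
  set A : Subgroup N := D.V0.subgroupOf N
  have hA : A ≠ ⊥ := fun e => D.hQ.zne
    (congrArg Subtype.val ((eq_bot_iff_forall _).1 e ⟨D.z, hzN⟩ (Or.inr (Or.inl rfl))))
  have hAc : IsMulCommutative A := isMulCommutative_iff.mpr fun a b => Subtype.ext (Subtype.ext
    (D.V0_comm b.2 (D.V0_le_B a.2).2))
  have hsc : IsStronglyClosed A (PN : Subgroup N) := by
    refine ⟨fun a ha => ?_, fun a ha n hn => ?_⟩
    · rw [hPN]; exact hTP (D.B_le_T (D.V0_le_B ha))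
    · rw [hPN] at hn
      have hn' : (n : G) * (a : G) * (n : G)⁻¹ ∈ (P : Subgroup G) := hn
      show (n : G) * (a : G) * (n : G)⁻¹ ∈ D.V0
      by_cases ha1 : (a : G) = 1
      · rw [ha1, mul_one, mul_inv_cancel]; exact one_mem _
      obtain ⟨hw, hwz⟩ := D.conj_w hns
      have hc : IsConj D.z (a : G) := by
        obtain e | e | e | e : (a : G) = 1 ∨ (a : G) = D.z ∨ (a : G) = D.w ∨ (a : G) = D.w * D.z := ha
        · exact absurd e ha1
        · rw [e]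
        · rw [e]; exact hw
        · rw [e]; exact hwz
      have hc' := hc.trans (isConj_iff.2 ⟨(n : G), rfl⟩)
      have hz' := D.mem_C.1 (hPC hn')
      rcases D.conj_C hns hc' hz' with e | e | e | e
      · exact Or.inr (Or.inl e)
      · exact Or.inr (Or.inr (Or.inl e))
      · exact Or.inr (Or.inr (Or.inr e))
      · exact absurd e (hnoDT _ hz' hc')
  rcases Cfsg.Agent.S1169.result PN A hA hAc hsc with hcomm | ⟨H, hH⟩
  · have hmem : ∀ a, (⟨f a, hT (hfT a)⟩ : N) ∈ (PN : Subgroup N) := fun a => by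
      rw [hPN]; exact hTP (hfT a)
    have e := congrArg (fun r : (PN : Subgroup N) => ((r : N) : G))
      (hcomm.is_comm.comm ⟨_, hmem ⟨1, 0, 0⟩⟩ ⟨_, hmem ⟨0, 1, 0⟩⟩)
    have e' : f (⟨1, 0, 0⟩ * ⟨0, 1, 0⟩) = f (⟨0, 1, 0⟩ * ⟨1, 0, 0⟩) := by rw [map_mul, map_mul]; exact e
    exact absurd (hfinj e') (by decide)
  · have hx0N : x0 ∈ N := hT (hfT _)
    have h := L34Sylow.one_class hH (a := (⟨D.z, hzN⟩ : N)) (b := ⟨x0, hx0N⟩)
      (by rw [orderOf_mk]; exact D.orderOf_z)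
      (by rw [orderOf_mk]; exact orderOf_eq_prime (by rw [pow_two, hf2]) fun e => hfσ.ne_one (by
        rw [e, D.perm_one]))
    obtain ⟨c, hc⟩ := isConj_iff.1 h
    exact hno (isConj_iff.2 ⟨(c : G), congrArg Subtype.val hc⟩)

include hns hg hsimple hna hT in
/-- The involutions of `T` are conjugate to `z`. -/
theorem T_invol {x : G} (hx : x ∈ D.T) (hx2 : x * x = 1) (hx1 : x ≠ 1) : IsConj D.z x := by
  rcases hx.2 with h | h
  · have hB : x ∈ D.B := mem_inf.2 ⟨(D.perm_eq_one (D.T_le_C hx)).1 h, hx.1⟩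
    obtain ⟨hw, hwz⟩ := D.conj_w hns
    rcases D.B_invol hB hx2 with e | e | e | e
    · exact absurd e hx1
    · rw [e]
    · rw [e]; exact hw
    · rw [e]; exact hwz
  · exact D.dt_conj_z hns hg hsimple hna hT (D.T_le_C hx) hx2 h

include hg hT in
/-- An involution over a transposition. -/
theorem exists_f {y : G} (hy : y ∈ N) (hyz : y * D.z = D.z * y) (hys : Equiv.Perm.sign (D.perm y) = -1) :
    ∃ f ∈ N, f * D.z = D.z * f ∧ f * f = 1 ∧ Equiv.Perm.sign (D.perm f) = -1 ∧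
      ((∃ q ∈ N, q ∈ D.Q ∧ q * D.w ≠ D.w * q) → f * D.w = D.w * f) := by
  haveI : Fact (Nat.Prime 3) := ⟨Nat.prime_three⟩
  -- adjust `y`
  obtain ⟨c, hcN, hcz, hcs, hcw⟩ : ∃ c ∈ N, c * D.z = D.z * c ∧ Equiv.Perm.sign (D.perm c) = -1 ∧
      ((∃ q ∈ N, q ∈ D.Q ∧ q * D.w ≠ D.w * q) → c * D.w = D.w * c) := by
    by_cases hyw : y * D.w = D.w * y
    · exact ⟨y, hy, hyz, hys, fun _ => hyw⟩
    by_cases hq : ∃ q ∈ N, q ∈ D.Q ∧ q * D.w ≠ D.w * q
    · obtain ⟨q, hqN, hqQ, hqw⟩ := hq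
      have hqz := D.comm_of_mem hqQ
      refine ⟨y * q, mul_mem hy hqN, D.mem_C.1 (mul_mem (D.mem_C.2 hyz) (D.mem_C.2 hqz)), ?_, fun _ => ?_⟩
      · rw [D.perm_mul hyz hqz, (D.perm_eq_one hqz).2 hqQ, mul_one]; exact hys
      · have e1 : y * D.w * y⁻¹ = D.w * D.z := by
          have := D.act' hyz 4
          rw [D.perm_four] at this
          exact this.resolve_left fun e => hyw (mul_inv_eq_iff_eq_mul.1 e)
        have e2 := (D.hQ.comm q hqQ _ (D.uQ 4)).resolve_left hqw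
        rw [mul_assoc y q, e2, ← mul_assoc, ← mul_assoc, mul_inv_eq_iff_eq_mul.1 e1, mul_assoc (D.w * D.z * y) q D.z,
          hqz, ← mul_assoc, mul_assoc (D.w * D.z) y D.z, hyz, ← mul_assoc, mul_assoc D.w D.z D.z, D.hz2, mul_one,
          mul_assoc D.w y q]
    · exact ⟨y, hy, hyz, hys, fun h => absurd h hq⟩
  have hcC := D.mem_C.2 hcz
  -- a 3-element in `N ∩ CV`
  obtain ⟨κ, hκ4, hκ3, hκ1⟩ := odd_to_cycle _ (D.perm_four c) hcs
  obtain ⟨e, he, rfl⟩ := D.perm_surj_CV hκ4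
  have hez := (D.mem_CV.1 he).1
  set k0 := e * c * e⁻¹ * c⁻¹ with hk0
  have hk0N : k0 ∈ N := mul_mem (hN.conj_mem c hcN e) (inv_mem hcN)
  have hk0V : k0 ∈ D.CV := by
    rw [hk0, show e * c * e⁻¹ * c⁻¹ = e * (c * e⁻¹ * c⁻¹) by group]
    exact mul_mem he (D.CV_normal hcz (inv_mem he))
  have hk0z := (D.mem_CV.1 hk0V).1
  have hk0p : D.perm k0 = D.perm e * D.perm c * (D.perm e)⁻¹ * (D.perm c)⁻¹ := by
    rw [hk0, D.perm_mul (D.mem_C.1 (mul_mem (mul_mem (D.mem_C.2 hez) hcC) (inv_mem (D.mem_C.2 hez))))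
      (D.mem_C.1 (inv_mem hcC)), D.perm_conj hez hcz, D.perm_inv hcz]
  set k := k0 ^ 256 with hk
  have hkN : k ∈ N := pow_mem hk0N _
  have hkV : k ∈ D.CV := pow_mem hk0V _
  have hkz := (D.mem_CV.1 hkV).1
  have hkp : D.perm k = D.perm k0 := by
    let k0c : centralizer ({D.z} : Set G) := ⟨k0, D.mem_C.2 hk0z⟩
    have h : D.perm ((k0c ^ 256 : centralizer ({D.z} : Set G)) : G) = _ := D.perm_coe _
    rw [map_pow, ← D.perm_coe, show (256 : ℕ) = 3 * 85 + 1 from rfl, pow_succ (D.perm (k0c : G)), pow_mul,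
      show D.perm (k0c : G) ^ 3 = 1 by
        show D.perm k0 ^ 3 = 1
        rw [hk0p]; exact hκ3, one_pow, one_mul] at h
    exact h
  have hk3 : k ^ 3 = 1 := by
    rw [hk, ← pow_mul]
    have := pow_card_eq_one' (x := (⟨k0, D.mem_C.2 hk0z⟩ : centralizer ({D.z} : Set G)))
    rw [D.card_C] at this
    exact congrArg Subtype.val this
  have hp3 : D.perm k ^ 3 = 1 := D.perm_pow_eq_one hkz hk3
  have hp1 : D.perm k ≠ 1 := by rw [hkp, hk0p]; exact hκ1
  have hp4 := D.perm_four k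
  -- conjugacy of the 3-subgroups in the even part
  let XA : Subgroup G :=
    { carrier := {x | x ∈ N ∧ x ∈ D.CV ∧ Equiv.Perm.sign (D.perm x) = 1}
      one_mem' := ⟨one_mem _, one_mem _, by rw [D.perm_one, map_one]⟩
      mul_mem' := fun {a b} ha hb => ⟨mul_mem ha.1 hb.1, mul_mem ha.2.1 hb.2.1, by
        rw [D.perm_mul (D.mem_CV.1 ha.2.1).1 (D.mem_CV.1 hb.2.1).1, map_mul, ha.2.2, hb.2.2, one_mul]⟩
      inv_mem' := fun {a} ha => ⟨inv_mem ha.1, inv_mem ha.2.1, by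
        rw [D.perm_inv (D.mem_CV.1 ha.2.1).1, map_inv, ha.2.2, inv_one]⟩ }
  have cube : ∀ x : G, x ∈ N → x ∈ D.CV → x ^ 3 = 1 → x ∈ XA := fun x hx hxV h => by
    refine ⟨hx, hxV, ?_⟩
    have h' := congrArg Equiv.Perm.sign (D.perm_pow_eq_one (D.mem_CV.1 hxV).1 h)
    rw [map_pow, map_one] at h'
    rcases Int.units_eq_one_or (Equiv.Perm.sign (D.perm x)) with e | e
    · exact e
    · rw [e] at h'; exact absurd h' (by decide)
  have hkX : k ∈ XA := cube k hkN hkV hk3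
  have hk1 : k ≠ 1 := fun e => hp1 (by rw [e, D.perm_one])
  have hord : orderOf k = 3 := orderOf_eq_prime hk3 hk1
  have hXC : Nat.card XA ∣ 768 := D.card_C ▸ card_dvd_of_le (fun x hx => D.mem_C.2 (D.mem_CV.1 hx.2.1).1)
  have conjk : ∀ x ∈ XA, x ^ 3 = 1 → x ≠ 1 → ∃ m ∈ XA, m * x * m⁻¹ ∈ zpowers k := by
    intro x hx hx3 hx1
    have hox : orderOf x = 3 := orderOf_eq_prime hx3 hx1
    have mk : ∀ r : XA, orderOf (r : G) = 3 → ∃ S : Sylow 3 XA, (S : Subgroup XA) = zpowers r := fun r hr => by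
      have hp : IsPGroup 3 (zpowers r) := IsPGroup.of_card (n := 1) (by
        rw [Nat.card_zpowers, ← Subgroup.orderOf_coe, hr, pow_one])
      obtain ⟨S, hS⟩ := hp.exists_le_sylow
      refine ⟨S, (eq_of_le_of_card_ge hS ?_).symm⟩
      obtain ⟨n, hn⟩ := IsPGroup.iff_card.1 S.2
      have hd : 3 ^ n ∣ 768 := hn ▸ (S : Subgroup XA).card_subgroup_dvd_card.trans hXC
      rw [Nat.card_zpowers, ← Subgroup.orderOf_coe, hr, hn]
      by_contra hlt
      have h2 : 2 ≤ n := by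
        by_contra h
        interval_cases n <;> omega
      have := (Nat.pow_dvd_pow 3 h2).trans hd
      norm_num at this
    obtain ⟨Sx, hSx⟩ := mk ⟨x, hx⟩ hox
    obtain ⟨Sk, hSk⟩ := mk ⟨k, hkX⟩ hord
    obtain ⟨m, hm⟩ := MulAction.exists_smul_eq XA Sx Sk
    refine ⟨m, m.2, ?_⟩
    have hmem : m * ⟨x, hx⟩ * m⁻¹ ∈ zpowers (⟨k, hkX⟩ : XA) := by
      rw [← hSk, ← hm, Sylow.coe_subgroup_smul, mem_pointwise_smul_iff_inv_smul_mem, hSx]
      simpa [MulAut.smul_def, MulAut.conj_symm_apply, mul_assoc] using mem_zpowers (⟨x, hx⟩ : XA)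
    obtain ⟨j, hj⟩ := mem_zpowers_iff.1 hmem
    exact ⟨j, congrArg Subtype.val hj⟩
  have hk2 : k⁻¹ = k * k := inv_eq_of_mul_eq_one_right (by rw [← hk3, pow_succ, pow_two]; group)
  have two : ∀ x, x ∈ zpowers k → x ≠ 1 → x = k ∨ x = k⁻¹ := fun x hx hx1 => by
    obtain ⟨j, hj⟩ := mem_zpowers_iff.1 hx
    rw [show j = 3 * (j / 3) + j % 3 from (Int.mul_ediv_add_emod j 3).symm, zpow_add, zpow_mul,
      show (k : G) ^ (3 : ℤ) = 1 by exact_mod_cast hk3, one_zpow, one_mul] at hj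
    have := Int.emod_nonneg j (show (3 : ℤ) ≠ 0 by decide)
    have := Int.emod_lt_of_pos j (show (0 : ℤ) < 3 by decide)
    obtain e | e | e : j % 3 = 0 ∨ j % 3 = 1 ∨ j % 3 = 2 := by omega
    all_goals rw [e] at hj
    · exact absurd (by simpa using hj.symm) hx1
    · exact Or.inl (by simpa using hj.symm)
    · exact Or.inr (by rw [hk2, ← hj, zpow_two])
  have conj3 : ∀ r : G, (r * k * r⁻¹) ^ 3 = 1 ∧ r * k * r⁻¹ ≠ 1 := fun r =>
    ⟨by rw [conj_pow, hk3, mul_one, mul_inv_cancel], conj_ne_one hk1⟩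
  have normk : ∀ r : G, (∀ x ∈ D.CV, r * x * r⁻¹ ∈ D.CV) → ∃ m ∈ XA,
      m * r * k * (m * r)⁻¹ = k ∨ m * r * k * (m * r)⁻¹ = k⁻¹ := by
    intro r hr
    obtain ⟨m, hm, hm'⟩ := conjk _ (cube _ (hN.conj_mem k hkN r) (hr k hkV) (conj3 r).1) (conj3 r).1 (conj3 r).2
    refine ⟨m, hm, ?_⟩
    rw [show m * r * k * (m * r)⁻¹ = m * (r * k * r⁻¹) * m⁻¹ by group]
    exact two _ hm' (conj_ne_one (conj3 r).2)
  obtain ⟨m, hm, hw0⟩ := normk c fun x hx => D.CV_normal hcz hx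
  set w0 := m * c with hw0def
  have hmz := (D.mem_CV.1 hm.2.1).1
  have hw0N : w0 ∈ N := mul_mem hm.1 hcN
  have hw0z : w0 * D.z = D.z * w0 := D.mem_C.1 (mul_mem (D.mem_C.2 hmz) hcC)
  have hw0C := D.mem_C.2 hw0z
  have hw0s : Equiv.Perm.sign (D.perm w0) = -1 := by
    rw [D.perm_mul hmz hcz, map_mul, hm.2.2, hcs, one_mul]
  have hpk : ∀ r : G, r * D.z = D.z * r → (r * k * r⁻¹ = k ∨ r * k * r⁻¹ = k⁻¹) →
      (D.perm r * D.perm k * (D.perm r)⁻¹ = D.perm k ∨ D.perm r * D.perm k * (D.perm r)⁻¹ = (D.perm k)⁻¹) :=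
    fun r hr h => by
      rw [← D.perm_conj hr hkz, ← D.perm_inv hkz]
      exact h.imp (congrArg D.perm) (congrArg D.perm)
  obtain ⟨hσ2, hσk⟩ := odd_normalizes _ hp4 hp3 hp1 _ (D.perm_four w0) hw0s (hpk w0 hw0z hw0)
  have hinv : w0 * k * w0⁻¹ = k⁻¹ := hw0.resolve_left fun e => by
    rw [← D.perm_conj hw0z hkz, e] at hσk
    have h2 : D.perm k * D.perm k = 1 := by nth_rw 1 [hσk]; exact inv_mul_cancel _
    apply hp1
    have := hp3
    rw [pow_succ, pow_two, h2, one_mul] at this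
    exact this
  set v := w0 * w0 with hvdef
  have hvQ : v ∈ D.Q := by
    rw [← D.perm_eq_one (D.mem_C.1 (mul_mem hw0C hw0C)), D.perm_mul hw0z hw0z, hσ2]
  have hw0w : w0 * D.w * w0⁻¹ = D.w ∨ w0 * D.w * w0⁻¹ = D.w * D.z := by
    have := D.act' hw0z 4
    rwa [D.perm_four] at this
  have hvw : v * D.w = D.w * v := by
    rw [← mul_inv_eq_iff_eq_mul, hvdef, show w0 * w0 * D.w * (w0 * w0)⁻¹ = w0 * (w0 * D.w * w0⁻¹) * w0⁻¹ by group]
    rcases hw0w with e | e <;> rw [e]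
    · exact e
    · rw [← conj_mul, e, D.conj_z hw0z, mul_assoc, D.hz2, mul_one]
  have hvk : k * v = v * k := by
    have e : v * k * v⁻¹ = k := by
      rw [hvdef, show w0 * w0 * k * (w0 * w0)⁻¹ = w0 * (w0 * k * w0⁻¹) * w0⁻¹ by group, hinv,
        show w0 * k⁻¹ * w0⁻¹ = (w0 * k * w0⁻¹)⁻¹ by group, hinv, inv_inv]
    exact (mul_inv_eq_iff_eq_mul.1 e).symm
  have hvV : v ∈ D.V0 := D.B_fixed hkz hp3 hp1 (D.mem_B.2 ⟨hvQ, hvw⟩) hvk
  by_cases hsw : w0 * D.w = D.w * w0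
  · -- an element permuting the four group without fixed points
    have hgw := Mover.conj_w D hg
    have hu0z : D.u 0 * D.z * (D.u 0)⁻¹ = D.z := D.conj_z (D.comm_of_mem (D.uQ 0))
    obtain ⟨ρ0, hρV, hρfix⟩ : ∃ r : G, (∀ x ∈ D.CV, r * x * r⁻¹ ∈ D.CV) ∧
        ∀ a ∈ D.V0, r * a * r⁻¹ = a → a = 1 := by
      have hne1 : D.w * D.z ≠ D.w := fun h => D.hQ.zne (mul_eq_left.1 h)
      have hne2 : D.w * D.z ≠ D.z := fun h => D.u_ne_one 4 (mul_eq_right.1 h)
      rcases hgw with e | e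
      · refine ⟨D.u 0 * g, fun x hx => ?_, ?_⟩
        · rw [show D.u 0 * g * x * (D.u 0 * g)⁻¹ = D.u 0 * (g * x * g⁻¹) * (D.u 0)⁻¹ by group]
          exact D.u0_CV (Mover.conj_CV D hg hx)
        · have h1 : D.u 0 * g * D.z * (D.u 0 * g)⁻¹ = D.w * D.z := by
            rw [show D.u 0 * g * D.z * (D.u 0 * g)⁻¹ = D.u 0 * (g * D.z * g⁻¹) * (D.u 0)⁻¹ by group, hg.1, D.u0_conj]
          have h2 : D.u 0 * g * D.w * (D.u 0 * g)⁻¹ = D.z := by
            rw [show D.u 0 * g * D.w * (D.u 0 * g)⁻¹ = D.u 0 * (g * D.w * g⁻¹) * (D.u 0)⁻¹ by group, e, hu0z]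
          rintro a (rfl | rfl | rfl | rfl) ha
          · rfl
          · rw [h1] at ha; exact absurd ha hne2
          · rw [h2] at ha; exact absurd ha.symm (D.u_ne_z 4)
          · rw [← conj_mul, h1, h2, ← mul_assoc, ← D.w_comm_z, mul_assoc D.w, D.hz2, mul_one] at ha; exact absurd ha.symm hne1
      · refine ⟨g, fun x hx => Mover.conj_CV D hg hx, ?_⟩
        rintro a (rfl | rfl | rfl | rfl) ha
        · rfl
        · rw [hg.1] at ha; exact absurd ha (D.u_ne_z 4)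
        · rw [e, ← D.w_comm_z] at ha; exact absurd ha hne1
        · rw [← conj_mul, e, hg.1, mul_assoc, D.uu, mul_one] at ha; exact absurd ha.symm hne2
    obtain ⟨m', hm', hρk⟩ := normk ρ0 hρV
    set ρ := m' * ρ0 with hρdef
    have hρV' : ∀ x ∈ D.CV, ρ * x * ρ⁻¹ ∈ D.CV := fun x hx => by
      rw [hρdef, show m' * ρ0 * x * (m' * ρ0)⁻¹ = m' * (ρ0 * x * ρ0⁻¹) * m'⁻¹ by group]
      exact mul_mem (mul_mem hm'.2.1 (hρV x hx)) (inv_mem hm'.2.1)
    have hw0V : w0 ∈ D.CV := D.mem_CV.2 ⟨hw0z, hsw⟩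
    set y' := ρ * w0 * ρ⁻¹ with hy'
    have hy'V : y' ∈ D.CV := hρV' _ hw0V
    have hy'z := (D.mem_CV.1 hy'V).1
    have hy'k : y' * k * y'⁻¹ = k⁻¹ := by
      rw [hy', show ρ * w0 * ρ⁻¹ * k * (ρ * w0 * ρ⁻¹)⁻¹ = ρ * (w0 * (ρ⁻¹ * k * ρ) * w0⁻¹) * ρ⁻¹ by group]
      rcases hρk with e | e
      · have e' : ρ⁻¹ * k * ρ = k := ((conj_eq ρ).1 e).symm
        rw [e', hinv, show ρ * k⁻¹ * ρ⁻¹ = (ρ * k * ρ⁻¹)⁻¹ by group, e]
      · have e' : ρ⁻¹ * k * ρ = k⁻¹ := by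
          rw [show ρ⁻¹ * k * ρ = (ρ⁻¹ * k⁻¹ * ρ)⁻¹ by group, ← (conj_eq ρ).1 e]
        rw [e', show w0 * k⁻¹ * w0⁻¹ = (w0 * k * w0⁻¹)⁻¹ by group, hinv, inv_inv, e]
    have hv4 : v * v = 1 := D.V0_sq hvV
    have hy'4 : y' ^ 4 = 1 := by
      rw [hy', conj_pow, show (4 : ℕ) = 2 * 2 from rfl, pow_mul, pow_two, pow_two, ← hvdef, hv4, mul_one,
        mul_inv_cancel]
    have hy'2 : y' * y' = ρ * v * ρ⁻¹ := by rw [hy', hvdef]; group
    have hV : ρ * v * ρ⁻¹ = v → v = 1 := fun h => hρfix v hvV <| by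
      have hm'v : m'⁻¹ * v = v * m'⁻¹ := D.V0_comm hvV (inv_mem hm'.2.1)
      calc ρ0 * v * ρ0⁻¹ = m'⁻¹ * (ρ * v * ρ⁻¹) * m' := by rw [hρdef]; group
        _ = m'⁻¹ * v * m' := by rw [h]
        _ = v := by rw [hm'v, inv_mul_cancel_right]
    have done : y' * y' = v → ∃ f ∈ N, f * D.z = D.z * f ∧ f * f = 1 ∧ Equiv.Perm.sign (D.perm f) = -1 ∧
        ((∃ q ∈ N, q ∈ D.Q ∧ q * D.w ≠ D.w * q) → f * D.w = D.w * f) := fun h =>
      ⟨w0, hw0N, hw0z, hV (hy'2.symm.trans h), hw0s, fun _ => hsw⟩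
    have same : ∀ i : ℕ, D.perm y' = D.perm w0 * D.perm k ^ i → y' * y' = v := by
      intro i hi
      set wi := w0 * k ^ i with hwi
      have hwiV : wi ∈ D.CV := mul_mem hw0V (pow_mem hkV i)
      have hwiz := (D.mem_CV.1 hwiV).1
      have hki : D.perm (k ^ i) = D.perm k ^ i := by
        let kc : centralizer ({D.z} : Set G) := ⟨k, D.mem_C.2 hkz⟩
        rw [show D.perm k = D.φ kc from D.perm_coe kc, ← map_pow, ← D.perm_coe]
        rfl
      have hwip : D.perm wi = D.perm y' := by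
        rw [hwi, D.perm_mul hw0z (D.mem_CV.1 (pow_mem hkV i)).1, hki, hi]
      set d := wi⁻¹ * y' with hd
      have hdV : d ∈ D.CV := mul_mem (inv_mem hwiV) hy'V
      have hdQ : d ∈ D.Q := by
        rw [← D.perm_eq_one (D.mem_CV.1 hdV).1, hd, D.perm_mul (D.mem_CV.1 (inv_mem hwiV)).1 hy'z,
          D.perm_inv hwiz, hwip, inv_mul_cancel]
      have hwik : wi * k * wi⁻¹ = k⁻¹ := by
        rw [hwi, show w0 * k ^ i * k * (w0 * k ^ i)⁻¹ = w0 * (k ^ i * k * (k ^ i)⁻¹) * w0⁻¹ by group,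
          show k ^ i * k * (k ^ i)⁻¹ = k by rw [← pow_succ, pow_succ', mul_inv_cancel_right], hinv]
      have hdk : k * d = d * k := by
        have e : d * k * d⁻¹ = k := by
          rw [hd, show wi⁻¹ * y' * k * (wi⁻¹ * y')⁻¹ = wi⁻¹ * (y' * k * y'⁻¹) * wi by group, hy'k, ← hwik]
          group
        exact (mul_inv_eq_iff_eq_mul.1 e).symm
      have hdV0 : d ∈ D.V0 := D.B_fixed hkz hp3 hp1 (mem_inf.2 ⟨hdQ, hdV⟩) hdk
      have hwi2 : wi * wi = v := by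
        have e : w0⁻¹ * k ^ i * w0 = (k ^ i)⁻¹ := by
          have h1 : w0⁻¹ * k * w0 = k⁻¹ := by
            have h0 : w0⁻¹ * k⁻¹ * w0 = k := by rw [← hinv]; group
            rw [show w0⁻¹ * k * w0 = (w0⁻¹ * k⁻¹ * w0)⁻¹ by group, h0]
          rw [show w0⁻¹ * k ^ i * w0 = (w0⁻¹ * k * w0⁻¹⁻¹) ^ i by rw [conj_pow, inv_inv], inv_inv, h1, inv_pow]
        calc wi * wi = w0 * w0 * (w0⁻¹ * k ^ i * w0) * k ^ i := by rw [hwi]; group
          _ = v := by rw [e, inv_mul_cancel_right]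
      calc y' * y' = wi * d * (wi * d) := by rw [hd, mul_inv_cancel_left]
        _ = wi * wi * (d * d) := by
            rw [mul_assoc wi d, ← mul_assoc d wi d, ← D.V0_comm hdV0 hwiV]; group
        _ = v := by rw [hwi2, D.V0_sq hdV0, mul_one]
    rcases normalizer_cycle _ hp4 hp3 hp1 _ (D.perm_four w0) hσ2 hσk _ (D.perm_four y')
      (D.perm_pow_eq_one hy'z hy'4) (hpk y' hy'z (Or.inr hy'k)) with h | h | h | h
    · exfalso
      have hyQ : y' ∈ D.Q := (D.perm_eq_one hy'z).1 h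
      have h2 : y' * k * y'⁻¹ * k⁻¹ ∈ D.Q := by
        rw [show y' * k * y'⁻¹ * k⁻¹ = y' * (k * y'⁻¹ * k⁻¹) by group]
        exact mul_mem hyQ (D.norm k hkz _ (inv_mem hyQ))
      rw [hy'k, ← mul_inv_rev] at h2
      have hkk : k ∈ D.Q := by
        have := h2
        rwa [← hk2, inv_inv] at this
      exact hp1 ((D.perm_eq_one hkz).2 hkk)
    · exact done (same 0 (by rw [pow_zero, mul_one]; exact h))
    · exact done (same 1 (by rw [pow_one]; exact h))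
    · exact done (same 2 (by rw [pow_two]; exact h))
  · -- `w0` interchanges `w` and `w * z`
    have e1 : w0 * D.w * w0⁻¹ = D.w * D.z := hw0w.resolve_left fun e => hsw (mul_inv_eq_iff_eq_mul.1 e)
    have hnoq : ¬ ∃ q ∈ N, q ∈ D.Q ∧ q * D.w ≠ D.w * q := fun hq => hsw <| by
      rw [hw0def, mul_assoc, hcw hq, ← mul_assoc, (D.mem_CV.1 hm.2.1).2, mul_assoc]
    have hVN : D.V0 ≤ N := fun a ha => hT (D.B_le_T (D.V0_le_B ha))
    have hvcomm : w0 * v = v * w0 := (mul_assoc w0 w0 w0).symm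
    rcases hvV with e | e | e | e
    · exact ⟨w0, hw0N, hw0z, e, hw0s, fun h => absurd h hnoq⟩
    · have hwN : D.w ∈ N := hVN (Or.inr (Or.inr (Or.inl rfl)))
      have hwz' := D.comm_of_mem (D.uQ 4)
      refine ⟨w0 * D.w, mul_mem hw0N hwN, D.mem_C.1 (mul_mem hw0C (D.mem_C.2 hwz')), ?_, ?_,
        fun h => absurd h hnoq⟩
      · calc w0 * D.w * (w0 * D.w) = w0 * D.w * w0⁻¹ * v * D.w := by rw [hvdef]; group
          _ = 1 := by rw [e1, e, mul_assoc D.w D.z D.z, D.hz2, mul_one, D.uu]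
      · rw [D.perm_mul hw0z hwz', (D.perm_eq_one hwz').2 (D.uQ 4), mul_one]; exact hw0s
    · rw [e] at hvcomm; exact absurd hvcomm hsw
    · refine absurd ?_ hsw
      have h' := hvcomm
      rw [e, ← mul_assoc, mul_assoc (D.w) D.z w0, ← hw0z, ← mul_assoc] at h'
      exact mul_right_cancel h'

/-- In a simple group the element of the transfer lemma is fused into the subgroup. -/
theorem conj_into {X : Type*} [Group X] [Finite X] [IsSimpleGroup X] (hna : ¬ IsMulCommutative X) (P : Sylow 2 X)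
    (M : Subgroup X) (hMP : M ≤ (P : Subgroup X)) (hi : M.relIndex (P : Subgroup X) = 2) {f : X}
    (hf : orderOf f = 2) (hfP : f ∈ (P : Subgroup X)) (hfM : f ∉ M) : ∃ c : X, c * f * c⁻¹ ∈ M := by
  refine (Cfsg.Agent.S0111.result P M hMP hi f hf hfP hfM).resolve_left ?_
  rintro ⟨K, hKn, hK2, hfK⟩
  rcases hKn.eq_bot_or_eq_top with e | e
  · rw [e, index_bot] at hK2
    haveI : Fact (Nat.Prime 2) := ⟨Nat.prime_two⟩
    haveI := isCyclic_of_prime_card hK2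
    exact hna (isMulCommutative_iff.mpr fun a b => IsCyclic.commGroup.mul_comm a b)
  · exact hfK (e ▸ mem_top f)

theorem sign_of_DT {x : G} (h : D.perm x = 1 ∨ DT (D.perm x)) : Equiv.Perm.sign (D.perm x) = 1 :=
  v4_sign _ h

/-- Elements of a 2-group in `C(z)` over even permutations lie over the four group. -/
theorem even_v4 (P : Sylow 2 G) (hPC : (P : Subgroup G) ≤ centralizer ({D.z} : Set G)) {x : G}
    (hx : x ∈ (P : Subgroup G)) (hs : Equiv.Perm.sign (D.perm x) = 1) : D.perm x = 1 ∨ DT (D.perm x) := by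
  haveI : Fact (Nat.Prime 2) := ⟨Nat.prime_two⟩
  have hxz := D.mem_C.1 (hPC hx)
  refine two_element_v4 _ (D.perm_four x) ?_ hs
  obtain ⟨n, hn⟩ := IsPGroup.iff_card.1 P.2
  have hd : 2 ^ n ∣ 768 := by
    rw [← hn, ← D.card_C]; exact card_dvd_of_le hPC
  have h1 : D.perm x ^ (2 ^ n) = 1 := D.perm_pow_eq_one hxz (by
    rw [← hn]
    exact congrArg Subtype.val (pow_card_eq_one' (x := (⟨x, hx⟩ : (P : Subgroup G)))))
  have hn8 : n ≤ 8 := by
    by_contra hh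
    have := (Nat.pow_dvd_pow 2 (show 9 ≤ n by omega)).trans hd
    norm_num at this
  have h2 := pow_gcd_eq_one.2 ⟨h1, pow_twelve _ (D.perm_four x)⟩
  have h4 : D.perm x ^ 4 = 1 := by
    obtain ⟨c, hc⟩ : Nat.gcd (2 ^ n) 12 ∣ 4 := by interval_cases n <;> decide
    rw [hc, pow_mul, h2, one_pow]
  rw [show (8 : ℕ) = 4 * 2 from rfl, pow_mul, h4, one_pow]

include hns hg hsimple hna hT in
/-- No element over an odd permutation. -/
theorem no_odd {y : G} (hy : y ∈ N) (hyz : y * D.z = D.z * y) : Equiv.Perm.sign (D.perm y) = 1 := by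
  refine (Int.units_eq_one_or _).resolve_right fun hys => ?_
  haveI : Fact (Nat.Prime 2) := ⟨Nat.prime_two⟩
  haveI := hsimple
  obtain ⟨f, hfN, hfz, hf2, hfs, hfw⟩ := D.exists_f hg hT hy hyz hys
  have hne : f ≠ 1 := fun e => by
    rw [e, D.perm_one, map_one] at hfs
    exact absurd hfs (by decide)
  have hford : orderOf f = 2 := orderOf_eq_prime (by rw [pow_two, hf2]) hne
  have hsup : IsPGroup 2 (D.Q ⊔ zpowers f : Subgroup G) := by
    refine (IsPGroup.of_card (n := 5) (by rw [D.hQ.card]; rfl)).to_sup_of_normal_left'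
      (IsPGroup.of_card (n := 1) (by rw [Nat.card_zpowers, hford, pow_one])) (zpowers_le.2 ?_)
    rw [Subgroup.mem_normalizer_iff]
    intro q
    refine ⟨fun hq => D.norm f hfz q hq, fun hq => ?_⟩
    have := D.norm f hfz _ hq
    rwa [invol_inv hf2, show f * (f * q * f) * f = (f * f) * q * (f * f) by group, hf2, one_mul, mul_one] at this
  obtain ⟨P, hP⟩ := hsup.exists_le_sylow
  obtain ⟨hPC, -⟩ := D.sylow_facts P (le_sup_left.trans hP)
  obtain ⟨PN, hPN⟩ := Cores.sylow_inf_isSubnormal P (Subgroup.Normal.isSubnormal (inferInstance : N.Normal))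
  have hmem : ∀ x : N, x ∈ (PN : Subgroup N) ↔ (x : G) ∈ (P : Subgroup G) := fun x => by rw [hPN]; rfl
  have hCx : ∀ x : N, x ∈ (PN : Subgroup N) → (x : G) * D.z = D.z * x := fun x hx =>
    D.mem_C.1 (hPC ((hmem x).1 hx))
  let χ : (PN : Subgroup N) →* ℤˣ :=
    { toFun := fun x => Equiv.Perm.sign (D.perm ((x : N) : G))
      map_one' := by show Equiv.Perm.sign (D.perm 1) = 1; rw [D.perm_one, map_one]
      map_mul' := fun a b => by
        show Equiv.Perm.sign (D.perm (((a : N) : G) * ((b : N) : G))) = _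
        rw [D.perm_mul (hCx _ a.2) (hCx _ b.2), map_mul] }
  set M : Subgroup N := χ.ker.map (PN : Subgroup N).subtype
  have hMP : M ≤ (PN : Subgroup N) := map_subtype_le _
  have hfP : (⟨f, hfN⟩ : N) ∈ (PN : Subgroup N) := (hmem _).2 (hP (mem_sup_right (mem_zpowers f)))
  have hi : M.relIndex (PN : Subgroup N) = 2 := by
    have hsur : χ.range = ⊤ := by
      refine eq_top_iff.2 fun u _ => ?_
      rcases Int.units_eq_one_or u with e | e <;> rw [e]
      · exact one_mem _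
      · exact ⟨⟨_, hfP⟩, hfs⟩
    rw [Subgroup.relIndex, show M.subgroupOf (PN : Subgroup N) = χ.ker from
      comap_map_eq_self_of_injective (subtype_injective _) _, index_ker, hsur, card_top, Nat.card_eq_fintype_card,
      Fintype.card_units_int]
  have hfM : (⟨f, hfN⟩ : N) ∉ M := by
    rintro ⟨x, hx, hxf⟩
    have h1 : Equiv.Perm.sign (D.perm ((x : N) : G)) = 1 := hx
    have h2 : ((x : N) : G) = f := congrArg Subtype.val hxf
    rw [h2, hfs] at h1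
    exact absurd h1 (by decide)
  obtain ⟨c, ⟨⟨x, hxP⟩, hx, hxc⟩⟩ := conj_into hna PN M hMP hi
    (by rw [orderOf_mk]; exact hford) hfP hfM
  have hxc' : (x : G) = (c : G) * f * (c : G)⁻¹ := congrArg Subtype.val hxc
  have hxz := hCx x hxP
  have hx2 : (x : G) * x = 1 := by rw [hxc']; exact conj_invol _ hf2
  have hx1 : (x : G) ≠ 1 := by rw [hxc']; exact conj_ne_one hne
  have hxσ := D.even_v4 P hPC ((hmem x).1 hxP) hx
  by_cases hxw : (x : G) * D.w = D.w * x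
  · have hz' : IsConj D.z f := by
      refine (D.T_invol hns hg hsimple hna hT (x := (x : G)) ⟨D.mem_CV.2 ⟨hxz, hxw⟩, hxσ⟩ hx2 hx1).trans ?_
      exact isConj_iff.2 ⟨(c : G)⁻¹, by rw [hxc']; group⟩
    rcases D.conj_C hns hz' hfz with e | e | e | e
    · rw [e, (D.perm_eq_one rfl).2 D.hQ.zmem, map_one] at hfs; exact absurd hfs (by decide)
    · rw [e, (D.perm_eq_one (D.comm_of_mem (D.uQ 4))).2 (D.uQ 4), map_one] at hfs; exact absurd hfs (by decide)
    · rw [e, (D.perm_eq_one (D.comm_of_mem (mul_mem (D.uQ 4) D.hQ.zmem))).2 (mul_mem (D.uQ 4) D.hQ.zmem),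
        map_one] at hfs
      exact absurd hfs (by decide)
    · rw [D.sign_of_DT (Or.inr e)] at hfs; exact absurd hfs (by decide)
  · have hxQ : (x : G) ∈ D.Q := by
      rcases hxσ with e | e
      · exact (D.perm_eq_one hxz).1 e
      · exact absurd ((D.dt_cent hxz hx2 e).2 (by simp : D.w ∈ ({1, D.z, D.w, D.w * D.z} : Set G))).2 hxw
    have hw := hfw ⟨x, x.2, hxQ, hxw⟩
    have hconj : ∀ a : G, a * f = f * a → (c : G) * a * (c : G)⁻¹ * x = x * ((c : G) * a * (c : G)⁻¹) :=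
      fun a h => by rw [hxc', conj_mul, h, ← conj_mul]
    have hab := D.tau_unique hns hxQ hxw (hconj D.z hfz.symm) (hconj D.w hw.symm)
      (by rw [conj_mul, ← D.w_comm_z, ← conj_mul]) (isConj_iff.2 ⟨(c : G), rfl⟩)
      ((D.conj_w hns).1.trans (isConj_iff.2 ⟨(c : G), rfl⟩))
    exact D.u_ne_z 4 (mul_left_cancel (mul_right_cancel hab)).symm

include hns hg hsimple hna hT in
/-- The socle meets `Q` in `B`. -/
theorem no_q {q : G} (hq : q ∈ N) (hqQ : q ∈ D.Q) : q * D.w = D.w * q := by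
  by_contra hqw
  haveI : Fact (Nat.Prime 2) := ⟨Nat.prime_two⟩
  haveI := hsimple
  have hu0 : D.u 0 * D.w ≠ D.w * D.u 0 := fun h => by
    rw [D.u_anti (i := 0) (j := 4) (by decide)] at h
    exact D.hQ.zne (mul_eq_left.1 h)
  have huN : D.u 0 ∈ N := by
    have h1 := (D.hQ.comm q hqQ _ (D.uQ 4)).resolve_left hqw
    have h2 : D.u 0 * D.w = D.w * D.u 0 * D.z := D.u_anti (i := 0) (j := 4) (by decide)
    have hb : q * D.u 0 ∈ D.B := D.mem_B.2 ⟨mul_mem hqQ (D.uQ 0), by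
      show q * D.u 0 * D.w = D.w * (q * D.u 0)
      rw [mul_assoc, h2, ← mul_assoc, ← mul_assoc, h1, mul_assoc (D.w * q) D.z (D.u 0),
        ← D.comm_of_mem (D.uQ 0), ← mul_assoc, mul_assoc (D.w * q * D.u 0) D.z D.z, D.hz2, mul_one, mul_assoc]⟩
    have := mul_mem (inv_mem hq) (hT (D.B_le_T hb))
    rwa [inv_mul_cancel_left] at this
  obtain ⟨P, hQP⟩ := D.exists_sylow
  obtain ⟨hPC, -⟩ := D.sylow_facts P hQP
  obtain ⟨PN, hPN⟩ := Cores.sylow_inf_isSubnormal P (Subgroup.Normal.isSubnormal (inferInstance : N.Normal))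
  have hmem : ∀ x : N, x ∈ (PN : Subgroup N) ↔ (x : G) ∈ (P : Subgroup G) := fun x => by rw [hPN]; rfl
  set M : Subgroup N := (PN : Subgroup N) ⊓ D.CV.subgroupOf N
  have huP : (⟨D.u 0, huN⟩ : N) ∈ (PN : Subgroup N) := (hmem _).2 (hQP (D.uQ 0))
  have hi : M.relIndex (PN : Subgroup N) = 2 := by
    rw [Subgroup.relIndex, index_eq_two_iff]
    refine ⟨⟨_, huP⟩, fun b => ?_⟩
    have hbz : ((b : N) : G) * D.z = D.z * ((b : N) : G) := D.mem_C.1 (hPC ((hmem _).1 b.2))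
    have hu2 : D.u 0 * D.w = D.w * D.u 0 * D.z := D.u_anti (i := 0) (j := 4) (by decide)
    have hiff : ∀ y : (PN : Subgroup N), y ∈ M.subgroupOf (PN : Subgroup N) ↔
        ((y : N) : G) * D.w = D.w * ((y : N) : G) := fun y => by
      rw [mem_subgroupOf]
      exact ⟨fun h => (D.mem_CV.1 h.2).2, fun h => ⟨y.2, D.mem_CV.2 ⟨D.mem_C.1 (hPC ((hmem _).1 y.2)), h⟩⟩⟩
    rw [hiff, hiff]
    show Xor (((b : N) : G) * D.u 0 * D.w = D.w * (((b : N) : G) * D.u 0)) _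
    have hbw : ((b : N) : G) * D.w * ((b : N) : G)⁻¹ = D.w ∨
        ((b : N) : G) * D.w * ((b : N) : G)⁻¹ = D.w * D.z := by
      have := D.act' hbz 4
      rwa [D.perm_four] at this
    have hflip : ((b : N) : G) * D.u 0 * D.w = ((b : N) : G) * D.w * (D.u 0 * D.z) := by
      rw [mul_assoc, hu2]; group
    rcases hbw with e | e <;> rw [mul_inv_eq_iff_eq_mul] at e
    · refine Or.inr ⟨e, fun h => ?_⟩
      rw [hflip, e, ← mul_assoc, ← mul_assoc] at h
      exact D.hQ.zne (mul_eq_left.1 h)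
    · refine Or.inl ⟨?_, fun h => ?_⟩
      · rw [hflip, e, mul_assoc D.w D.z, ← hbz]
        simp only [mul_assoc]
        rw [← mul_assoc D.z (D.u 0), ← D.comm_of_mem (D.uQ 0), mul_assoc, D.hz2, mul_one]
      · rw [e] at h
        rw [mul_assoc D.w D.z, ← hbz, ← mul_assoc] at h
        exact D.hQ.zne (mul_eq_left.1 h)
  obtain ⟨c, hc⟩ := conj_into hna PN M inf_le_left hi
    (f := ⟨D.u 0, huN⟩) (by rw [orderOf_mk]; exact orderOf_eq_prime (by rw [pow_two, D.uu]) (D.u_ne_one 0)) huP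
    fun h => hu0 (D.mem_CV.1 h.2).2
  set x : G := (c : G) * D.u 0 * (c : G)⁻¹ with hxdef
  have hxP : x ∈ (P : Subgroup G) := (hmem _).1 hc.1
  have hxV : x ∈ D.CV := hc.2
  have hxT : x ∈ D.T := ⟨hxV, D.even_v4 P hPC hxP
    (D.no_odd hns hg hsimple hna hT (mul_mem (mul_mem c.2 huN) (inv_mem c.2)) (D.mem_CV.1 hxV).1)⟩
  have h := (D.T_invol hns hg hsimple hna hT hxT (conj_invol _ (D.uu 0)) (conj_ne_one (D.u_ne_one 0))).trans
    (isConj_iff.2 ⟨(c : G)⁻¹, by rw [hxdef]; group⟩ : IsConj x (D.u 0))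
  rcases D.conj_Q hns (D.uQ 0) h with e | e | e
  · exact D.u_ne_z 0 e
  · exact absurd (D.u_sep 0 4 (Or.inl e)) (by decide)
  · exact absurd (D.u_sep 0 4 (Or.inr e)) (by decide)

include hns hg hsimple hna hT in
/-- `T` is a Sylow 2-subgroup of the socle. -/
theorem sylow_N : ∃ PN : Sylow 2 N, (PN : Subgroup N) = D.T.subgroupOf N := by
  haveI : Fact (Nat.Prime 2) := ⟨Nat.prime_two⟩
  obtain ⟨P, hQP⟩ := D.exists_sylow
  obtain ⟨hPC, -⟩ := D.sylow_facts P hQP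
  obtain ⟨PN, hPN⟩ := Cores.sylow_inf_isSubnormal P (Subgroup.Normal.isSubnormal (inferInstance : N.Normal))
  refine ⟨PN, ?_⟩
  rw [hPN]
  ext x
  rw [mem_subgroupOf, mem_subgroupOf]
  refine ⟨fun hx => ?_, fun hx => D.T_le_sylow P hPC hx⟩
  have hxz := D.mem_C.1 (hPC hx)
  have hσ := D.even_v4 P hPC hx (D.no_odd hns hg hsimple hna hT x.2 hxz)
  refine ⟨D.mem_CV.2 ⟨hxz, ?_⟩, hσ⟩
  rcases hσ with e | e
  · exact D.no_q hns hg hsimple hna hT x.2 ((D.perm_eq_one hxz).1 e)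
  · obtain ⟨y, hy, hyp⟩ := D.perm_surj_CV e.1
    have hyz := (D.mem_CV.1 hy).1
    have hyT : y ∈ D.T := ⟨hy, Or.inr (hyp ▸ e)⟩
    have hdz : y⁻¹ * (x : G) * D.z = D.z * (y⁻¹ * (x : G)) :=
      D.mem_C.1 (mul_mem (inv_mem (D.mem_C.2 hyz)) (D.mem_C.2 hxz))
    have hdQ : y⁻¹ * (x : G) ∈ D.Q := by
      rw [← D.perm_eq_one hdz, D.perm_mul (D.mem_C.1 (inv_mem (D.mem_C.2 hyz))) hxz, D.perm_inv hyz, hyp,
        inv_mul_cancel]
    have hd := D.no_q hns hg hsimple hna hT (mul_mem (inv_mem (hT hyT)) x.2) hdQ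
    have h := mul_mem hy (D.mem_CV.2 ⟨hdz, hd⟩)
    rw [mul_inv_cancel_left] at h
    exact (D.mem_CV.1 h).2

end

end Data

end Cfsg.Agent.PGLThreeFourType
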